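import Cfsg.Agent.Lib.CentralInt.Basic
import Cfsg.Agent.Lib.S3Simple.Component
import Cfsg.Agent.Lib.U6Rec.AutCard

/-!
`S` of class two with `|S : Z(S)| = 8`: the subgroup of `A` moved by the seven-element.

Blueprint: `blueprint/S3181.md` (Simple).
-/

set_option autoImplicit false
set_option linter.unusedSectionVars false
set_option linter.style.haveILetI false

namespace CfsgLib.CentralInt

open Cfsg Subgroup
open scoped commutatorElement

universe u

variable {G : Type u} [Group G] [Finite G] {S : Sylow 2 G}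

/-- The orbit length of `x` under `c` is divisible by seven. -/
def Moves (c x : G) : Prop := ∀ i : ℕ, c ^ i * x * (c ^ i)⁻¹ = x → 7 ∣ i

/-- The subgroup moved by the element of order seven. -/
theorem exists_moved (hsq : ∀ x ∈ (S : Subgroup G), Cen (S : Subgroup G) (x * x))
    (hcomm : ∀ x ∈ (S : Subgroup G), ∀ y ∈ (S : Subgroup G), Cen (S : Subgroup G) ⁅x, y⁆)
    (h8 : Nat.card ((S : Subgroup G) ⧸ center (S : Subgroup G)) = 8) (A : Subgroup G)
    (hAS : A ≤ ⁅(S : Subgroup G), (S : Subgroup G)⁆) (hAsq : ∀ x ∈ A, x * x = 1)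
    (hinv : ∀ n ∈ normalizer ((S : Subgroup G) : Set G), ∀ a ∈ A, n * a * n⁻¹ ∈ A)
    {a c : G} (ha : a ∈ A) (hc : c ∈ normalizer ((S : Subgroup G) : Set G)) (hmov : Moves c a) :
    ∃ B : Subgroup G, B ≤ A ∧ B ≠ ⊥ ∧ (∀ n ∈ normalizer ((S : Subgroup G) : Set G), ∀ b ∈ B, n * b * n⁻¹ ∈ B) ∧
      ∀ b ∈ B, b ≠ 1 → ∀ d ∈ normalizer ((S : Subgroup G) : Set G), d * b * d⁻¹ = b →
        ∀ x ∈ ⁅(S : Subgroup G), (S : Subgroup G)⁆, Moves d x → False := by
  haveI : Fact (Nat.Prime 2) := ⟨Nat.prime_two⟩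
  set N := normalizer ((S : Subgroup G) : Set G) with hN
  set Φ := CfsgLib.S3Simple.actQ (S : Subgroup G)
  set V := (S : Subgroup G) ⧸ center (S : Subgroup G)
  -- the kernel of the action on `S / Z(S)` fixes the derived subgroup
  have hker : ∀ g : N, Φ g = 1 → ∀ x ∈ ⁅(S : Subgroup G), (S : Subgroup G)⁆, (g : G) * x * (g : G)⁻¹ = x := by
    intro g hg x hx
    have hz : ∀ u ∈ (S : Subgroup G), ∃ z, Cen (S : Subgroup G) z ∧ z ∈ (S : Subgroup G) ∧
        (g : G) * u * (g : G)⁻¹ = u * z := by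
      intro u hu
      have h := DFunLike.congr_fun hg (QuotientGroup.mk' _ ⟨u, hu⟩)
      rw [CfsgLib.S3Simple.actQ_apply, MulAut.one_apply] at h
      have h' := (QuotientGroup.eq (s := center (S : Subgroup G))).mp h.symm
      refine ⟨u⁻¹ * ((g : G) * u * (g : G)⁻¹), fun s hs => congrArg Subtype.val (mem_center_iff.mp h' ⟨s, hs⟩),
        mul_mem ((S : Subgroup G).inv_mem hu) ((mem_normalizer_iff.mp g.2 u).mp hu), (mul_inv_cancel_left u _).symm⟩
    have hle : ⁅(S : Subgroup G), (S : Subgroup G)⁆ ≤ centralizer ({(g : G)} : Set G) := commutator_le.mpr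
      fun u hu v hv => by
        obtain ⟨z, hzc, hzS, ez⟩ := hz u hu
        obtain ⟨w, hwc, hwS, ew⟩ := hz v hv
        rw [mem_centralizer_singleton_iff]
        have h1 : (g : G) * ⁅u, v⁆ * (g : G)⁻¹ = ⁅u, v⁆ := by
          rw [← MulAut.conj_apply, map_commutatorElement, MulAut.conj_apply, MulAut.conj_apply, ez, ew]
          have c1 : Commute z v := (hzc v hv).symm
          have c2 : Commute w u := (hwc u hu).symm
          have c3 : Commute z w := (hzc w hwS).symm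
          calc ⁅u * z, v * w⁆ = u * (z * (v * w) * z⁻¹) * u⁻¹ * (w⁻¹ * v⁻¹) := by rw [commutatorElement_def]; group
            _ = u * (v * w) * u⁻¹ * (w⁻¹ * v⁻¹) := by rw [(c1.mul_right c3).eq, mul_inv_cancel_right]
            _ = u * v * (w * u⁻¹ * w⁻¹) * v⁻¹ := by group
            _ = ⁅u, v⁆ := by rw [(c2.inv_right).eq, mul_inv_cancel_right, commutatorElement_def]
        exact (eq_mul_of_mul_inv_eq h1).symm
    rw [mem_centralizer_singleton_iff.mp (hle hx) |>.symm, mul_inv_cancel_right]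
  -- the image has order dividing `21`
  have hV : ∀ v : V, v * v = 1 := fun v => by
    obtain ⟨⟨x, hx⟩, rfl⟩ := QuotientGroup.mk'_surjective _ v
    exact (QuotientGroup.eq_one_iff _).mpr (mem_center_iff.mpr fun s => Subtype.ext (hsq x hx s s.2))
  have hodd : Odd (Nat.card Φ.range) := by
    rw [← index_ker]
    have hle : (S : Subgroup G).subgroupOf N ≤ Φ.ker := fun g hg => by
      refine MulEquiv.ext fun v => ?_
      obtain ⟨⟨x, hx⟩, rfl⟩ := QuotientGroup.mk'_surjective _ v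
      rw [MulAut.one_apply, CfsgLib.S3Simple.actQ_apply]
      refine Eq.symm ((QuotientGroup.eq (s := center (S : Subgroup G))).mpr (mem_center_iff.mpr fun s => Subtype.ext ?_))
      show (s : G) * (x⁻¹ * ((g : G) * x * (g : G)⁻¹)) = x⁻¹ * ((g : G) * x * (g : G)⁻¹) * s
      have e : x⁻¹ * ((g : G) * x * (g : G)⁻¹) = ⁅x⁻¹, (g : G)⁆ := by rw [commutatorElement_def]; group
      rw [e]
      exact hcomm _ ((S : Subgroup G).inv_mem hx) _ hg s s.2
    refine Nat.not_even_iff_odd.mp fun he => S.not_dvd_index ((even_iff_two_dvd.mp he).trans ?_)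
    exact (index_dvd_of_le hle).trans (relIndex_dvd_index_of_le (Subgroup.le_normalizer (H := (S : Subgroup G))))
  have h21 : Nat.card Φ.range ∣ 21 := by
    have hA : Nat.card (MulAut V) = 168 := by
      rw [CfsgLib.U6Rec.card_mulAut_elem (m := 3) hV (by rw [h8]; norm_num)]
      decide
    have h := card_subgroup_dvd_card Φ.range
    rw [hA, show 168 = 2 ^ 3 * 21 from rfl] at h
    exact Nat.Coprime.dvd_of_dvd_mul_left ((Nat.coprime_two_right.mpr hodd).pow_right 3) h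
  -- an element moving a point of the derived subgroup gives an element of order seven
  have hord : ∀ (g : N) (x : G), x ∈ ⁅(S : Subgroup G), (S : Subgroup G)⁆ → Moves (g : G) x →
      orderOf (Φ g ^ (orderOf (Φ g) / 7)) = 7 ∧ ¬ 7 ∣ orderOf (Φ g) / 7 := by
    intro g x hx hm
    have h7 : 7 ∣ orderOf (Φ g) := hm _ (by
      have h := hker (g ^ orderOf (Φ g)) (by rw [map_pow, pow_orderOf_eq_one]) x hx
      rwa [SubgroupClass.coe_pow] at h)
    have hd : orderOf (Φ g) ∣ 21 := (Subgroup.orderOf_dvd_natCard Φ.range (MonoidHom.mem_range.mpr ⟨g, rfl⟩)).trans h21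
    refine ⟨orderOf_pow_orderOf_div (orderOf_pos _).ne' h7, fun h => ?_⟩
    have := (Nat.dvd_div_iff_mul_dvd h7).mp h
    exact absurd (this.trans hd) (by norm_num)
  -- two elements of order seven generate the same subgroup
  have huniq : ∀ u v : MulAut V, u ∈ Φ.range → v ∈ Φ.range → orderOf u = 7 → orderOf v = 7 →
      ∃ j : ℕ, v ^ j = u := by
    intro u v hu hv hu7 hv7
    by_contra hne
    have hdisj : ∀ w, w ∈ zpowers u → w ∈ zpowers v → w = 1 := by
      intro w hwu hwv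
      by_contra hw1
      haveI : Fact (Nat.Prime 7) := ⟨by norm_num⟩
      have hgen : zpowers w = zpowers v := eq_of_le_of_card_ge (zpowers_le.mpr hwv) (by
        rw [Nat.card_zpowers, Nat.card_zpowers, hv7,
          orderOf_eq_prime (orderOf_dvd_iff_pow_eq_one.mp ((Subgroup.orderOf_dvd_natCard _ hwv).trans
            (dvd_of_eq (by rw [Nat.card_zpowers, hv7])))) hw1])
      have hgen' : zpowers w = zpowers u := eq_of_le_of_card_ge (zpowers_le.mpr hwu) (by
        rw [Nat.card_zpowers, Nat.card_zpowers, hu7,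
          orderOf_eq_prime (orderOf_dvd_iff_pow_eq_one.mp ((Subgroup.orderOf_dvd_natCard _ hwu).trans
            (dvd_of_eq (by rw [Nat.card_zpowers, hu7])))) hw1])
      have h : u ∈ zpowers v := (hgen.symm.trans hgen').ge (mem_zpowers u)
      exact hne ((isOfFinOrder_of_finite v).mem_powers_iff_mem_zpowers.mpr h)
    let f : zpowers u × zpowers v → Φ.range := fun p =>
      ⟨(p.1 : MulAut V) * p.2, mul_mem (zpowers_le.mpr hu p.1.2) (zpowers_le.mpr hv p.2.2)⟩
    have hf : Function.Injective f := by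
      rintro ⟨p1, p2⟩ ⟨q1, q2⟩ h
      have h' : (p1 : MulAut V) * p2 = q1 * q2 := congrArg Subtype.val h
      have h'' : (q1 : MulAut V)⁻¹ * p1 = q2 * (p2 : MulAut V)⁻¹ := by
        rw [eq_mul_inv_iff_mul_eq, mul_assoc, h', inv_mul_cancel_left]
      have hw := hdisj _ (mul_mem (inv_mem q1.2) p1.2) (h'' ▸ mul_mem q2.2 (inv_mem p2.2))
      exact Prod.ext (Subtype.ext (inv_mul_eq_one.mp hw).symm)
        (Subtype.ext (mul_inv_eq_one.mp (h'' ▸ hw)).symm)
    have := Nat.card_le_card_of_injective f hf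
    rw [Nat.card_prod, Nat.card_zpowers, Nat.card_zpowers, hu7, hv7] at this
    have := Nat.le_of_dvd (by norm_num) h21
    omega
  -- the element of order seven
  set c' : N := ⟨c, hc⟩
  obtain ⟨h7, hm⟩ := hord c' a (hAS ha) hmov
  set g := c ^ (orderOf (Φ c') / 7) with hg
  have hgN : g ∈ N := pow_mem hc _
  set g' : N := ⟨g, hgN⟩
  have hΦg : Φ g' = Φ c' ^ (orderOf (Φ c') / 7) := by
    rw [← map_pow]
    rfl
  rw [← hΦg] at h7
  have hga : g * a * g⁻¹ ≠ a := fun h => hm (hmov _ h)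
  have hAS' : ∀ x ∈ A, g ^ 7 * x * (g ^ 7)⁻¹ = x := fun x hx => by
    have h := hker (g' ^ 7) (by rw [map_pow, ← h7, pow_orderOf_eq_one]) x (hAS hx)
    exact h
  have hAc : ∀ x ∈ A, ∀ y ∈ A, Commute x y := by
    intro x hx y hy
    have h := hAsq _ (mul_mem hx hy)
    calc x * y = x * y * (y * x) * (y * x)⁻¹ := by group
      _ = x * (y * y) * x * (y * x)⁻¹ := by group
      _ = (y * x)⁻¹ := by rw [hAsq y hy, mul_one, hAsq x hx, one_mul]
      _ = y * x := inv_eq_of_mul_eq_one_right (hAsq _ (mul_mem hy hx))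
  let θ : A →* G :=
    { toFun := fun x => g * x * g⁻¹ * (x : G)⁻¹
      map_one' := by simp
      map_mul' := fun x y => by
        have h : Commute (g * (y : G) * g⁻¹ * (y : G)⁻¹) (x : G)⁻¹ :=
          hAc _ (mul_mem (hinv g hgN _ y.2) (inv_mem y.2)) _ (inv_mem x.2)
        rw [Subgroup.coe_mul]
        calc g * ((x : G) * y) * g⁻¹ * ((x : G) * y)⁻¹
            = g * x * g⁻¹ * ((g * y * g⁻¹ * (y : G)⁻¹) * (x : G)⁻¹) := by group
          _ = g * x * g⁻¹ * (x : G)⁻¹ * (g * y * g⁻¹ * (y : G)⁻¹) := by rw [h.eq]; group }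
  have hθA : θ.range ≤ A := by
    rintro _ ⟨x, rfl⟩
    exact mul_mem (hinv g hgN _ x.2) (inv_mem x.2)
  have hpow : ∀ (j : ℕ) (x : G), x ∈ A → g ^ j * x * (g ^ j)⁻¹ * x⁻¹ ∈ θ.range := by
    intro j
    induction j with
    | zero => intro x _; simp
    | succ j ih =>
      intro x hx
      have hy : g ^ j * x * (g ^ j)⁻¹ ∈ A := hinv _ (pow_mem hgN j) x hx
      have h := mul_mem (⟨⟨_, hy⟩, rfl⟩ : θ ⟨_, hy⟩ ∈ θ.range) (ih x hx)
      have e : θ ⟨_, hy⟩ * (g ^ j * x * (g ^ j)⁻¹ * x⁻¹) = g ^ (j + 1) * x * (g ^ (j + 1))⁻¹ * x⁻¹ := by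
        show g * (g ^ j * x * (g ^ j)⁻¹) * g⁻¹ * (g ^ j * x * (g ^ j)⁻¹)⁻¹ * (g ^ j * x * (g ^ j)⁻¹ * x⁻¹) = _
        rw [pow_succ']
        group
      rwa [e] at h
  refine ⟨θ.range, hθA, fun h => hga (mul_inv_eq_one.mp ((eq_bot_iff.mp h) ⟨⟨a, ha⟩, rfl⟩ : θ ⟨a, ha⟩ = 1)),
    fun n hn b hb => ?_, fun b hb hb1 d hd hdb x hx hdx => hb1 ?_⟩
  · obtain ⟨y, rfl⟩ := hb
    obtain ⟨j, hj⟩ := huniq (Φ (⟨n, hn⟩ * g' * ⟨n, hn⟩⁻¹)) (Φ g') ⟨_, rfl⟩ ⟨_, rfl⟩
      (by rw [map_mul, map_mul, map_inv, ← MulAut.conj_apply, MulEquiv.orderOf_eq, h7]) h7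
    have hy : n * (y : G) * n⁻¹ ∈ A := hinv n hn _ y.2
    have h := hker ((g' ^ j)⁻¹ * (⟨n, hn⟩ * g' * ⟨n, hn⟩⁻¹))
      (by rw [map_mul, map_inv, map_pow, hj, inv_mul_cancel]) _ (hAS hy)
    have e : n * θ y * n⁻¹ = g ^ j * (n * y * n⁻¹) * (g ^ j)⁻¹ * (n * y * n⁻¹)⁻¹ := by
      have h' : (g ^ j)⁻¹ * (n * g * n⁻¹) * (n * y * n⁻¹) * ((g ^ j)⁻¹ * (n * g * n⁻¹))⁻¹ = n * y * n⁻¹ := h
      show n * (g * y * g⁻¹ * (y : G)⁻¹) * n⁻¹ = _
      calc n * (g * y * g⁻¹ * (y : G)⁻¹) * n⁻¹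
          = g ^ j * ((g ^ j)⁻¹ * (n * g * n⁻¹) * (n * y * n⁻¹) * ((g ^ j)⁻¹ * (n * g * n⁻¹))⁻¹) * (g ^ j)⁻¹ *
            (n * y * n⁻¹)⁻¹ := by group
        _ = _ := by rw [h']
    rw [e]
    exact hpow j _ hy
  · obtain ⟨y, rfl⟩ := hb
    set d' : N := ⟨d, hd⟩
    obtain ⟨hd7, -⟩ := hord d' x hx hdx
    obtain ⟨j, hj⟩ := huniq (Φ g') (Φ d' ^ (orderOf (Φ d') / 7)) ⟨_, rfl⟩
      (pow_mem (show Φ d' ∈ Φ.range from ⟨d', rfl⟩) _) h7 hd7
    set e := orderOf (Φ d') / 7 * j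
    have hker' := hker ((d' ^ e)⁻¹ * g') (by rw [map_mul, map_inv, map_pow, pow_mul, hj, inv_mul_cancel])
      (θ y) (hAS (hθA ⟨y, rfl⟩))
    have hde : d ^ e * θ y * (d ^ e)⁻¹ = θ y := by
      have : Commute d (θ y) := mul_inv_eq_iff_eq_mul.mp hdb
      rw [(this.pow_left e).eq, mul_inv_cancel_right]
    have hfix : g * θ y * g⁻¹ = θ y := by
      have h' : (d ^ e)⁻¹ * g * θ y * ((d ^ e)⁻¹ * g)⁻¹ = θ y := hker'
      calc g * θ y * g⁻¹ = d ^ e * ((d ^ e)⁻¹ * g * θ y * ((d ^ e)⁻¹ * g)⁻¹) * (d ^ e)⁻¹ := by group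
        _ = θ y := by rw [h', hde]
    -- a moved element fixed by `g` is trivial
    have hgx : g * y * g⁻¹ = θ y * y := (inv_mul_cancel_right _ _).symm
    have hit : ∀ i : ℕ, g ^ i * y * (g ^ i)⁻¹ = θ y ^ i * y := by
      intro i
      induction i with
      | zero => simp
      | succ i ih =>
        calc g ^ (i + 1) * y * (g ^ (i + 1))⁻¹ = g * (g ^ i * y * (g ^ i)⁻¹) * g⁻¹ := by rw [pow_succ']; group
          _ = (g * θ y * g⁻¹) ^ i * (g * y * g⁻¹) := by rw [ih, conj_pow]; group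
          _ = θ y ^ (i + 1) * y := by rw [hfix, hgx, pow_succ]; group
    have h1 : θ y ^ 7 = 1 := by
      have h := hit 7
      rw [hAS' _ y.2] at h
      exact right_eq_mul.mp h
    have h2 : θ y ^ 2 = 1 := by rw [pow_two]; exact hAsq _ (hθA ⟨y, rfl⟩)
    rw [show (7 : ℕ) = 2 * 3 + 1 from rfl, pow_succ, pow_mul, h2, one_pow, one_mul] at h1
    exact h1

end CfsgLib.CentralInt
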