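import Cfsg.Agent.Lib.CentralInt.Eight
import Cfsg.Agent.Lib.CentralInt.Seven
import Cfsg.Agent.Lib.Bender.Q.Main
import Cfsg.Agent.Lib.Bender.GoodAll
import Cfsg.Agent.Lib.Walter.Ab.Psl
import Cfsg.Agent.S3184

/-!
The simple groups with non-abelian Sylow 2-subgroups and central intersections: `Sz(q)` and `PSU₃(q)`.

Blueprint: `blueprint/S3181.md` (Simple).
-/

set_option autoImplicit false
set_option linter.unusedSectionVars false
set_option linter.style.haveILetI false

namespace CfsgLib.CentralInt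

open Cfsg Subgroup
open scoped commutatorElement

universe u

section Transport

variable {G : Type u} [Group G] {C : Subgroup G}

/-- The perfect residual of a subgroup seen inside it. -/
theorem perfCore_top_map : (perfCore (⊤ : Subgroup ↥C)).map C.subtype = perfCore C := by
  refine le_antisymm (le_perfCore (map_subtype_le _) (by rw [← map_commutator, perfCore_perfect])) ?_
  refine sSup_le fun P hP => ?_
  have hP' : ⁅P.subgroupOf C, P.subgroupOf C⁆ = P.subgroupOf C := map_injective C.subtype_injective (by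
    rw [map_commutator, map_subgroupOf_eq_of_le hP.1, hP.2])
  exact (map_subgroupOf_eq_of_le hP.1).ge.trans (map_mono (le_perfCore le_top hP'))

variable [Finite G] {S : Sylow 2 G}

theorem sylow_sub_map (hle : (S : Subgroup G) ≤ C) :
    ((S.subtype hle : Sylow 2 ↥C) : Subgroup ↥C).map C.subtype = (S : Subgroup G) := map_subgroupOf_eq_of_le hle

theorem commutator_sub_map (hle : (S : Subgroup G) ≤ C) :
    ⁅((S.subtype hle : Sylow 2 ↥C) : Subgroup ↥C), ((S.subtype hle : Sylow 2 ↥C) : Subgroup ↥C)⁆.map C.subtype =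
      ⁅(S : Subgroup G), (S : Subgroup G)⁆ := by
  rw [map_commutator, sylow_sub_map hle]

theorem sub_noncyclic (hle : (S : Subgroup G) ≤ C)
    (h : ¬ IsCyclic ↥⁅(S : Subgroup G), (S : Subgroup G)⁆) :
    ¬ IsCyclic ↥⁅((S.subtype hle : Sylow 2 ↥C) : Subgroup ↥C), ((S.subtype hle : Sylow 2 ↥C) : Subgroup ↥C)⁆ := by
  intro hc
  refine h ?_
  rw [← commutator_sub_map hle]
  exact (MulEquiv.isCyclic (equivMapOfInjective _ _ C.subtype_injective)).mp hc

end Transport

section Bar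

variable {X : Type u} [Group X] [Finite X] {S : Sylow 2 X}

theorem bar_commutator :
    ⁅(barSyl S : Subgroup (X ⧸ pPrimeCore 2 X)), (barSyl S : Subgroup (X ⧸ pPrimeCore 2 X))⁆ =
      ⁅(S : Subgroup X), (S : Subgroup X)⁆.map (toQ X) := (map_commutator _ _ _).symm

theorem bar_noncyclic (h : ¬ IsCyclic ↥⁅(S : Subgroup X), (S : Subgroup X)⁆) :
    ¬ IsCyclic ↥⁅(barSyl S : Subgroup (X ⧸ pPrimeCore 2 X)), (barSyl S : Subgroup (X ⧸ pPrimeCore 2 X))⁆ := by
  intro hc
  rw [bar_commutator] at hc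
  refine h ?_
  set W := ⁅(S : Subgroup X), (S : Subgroup X)⁆
  refine isCyclic_of_injective (((toQ X).comp W.subtype).codRestrict (W.map (toQ X))
    fun x => mem_map_of_mem _ x.2) fun x y h => ?_
  exact Subtype.ext (inj_sylow S (Subgroup.commutator_le_self _ x.2) (Subgroup.commutator_le_self _ y.2)
    (congrArg Subtype.val h))

end Bar

variable {G : Type u} [Group G] [Finite G]

/-- The derived subgroup of `S` is not cyclic. -/
theorem comm_noncyclic [IsSimpleGroup G] (hG : ¬ IsMulCommutative G) (hCI : CI G) (S : Sylow 2 G)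
    (hS : ¬ IsMulCommutative (S : Subgroup G)) : ¬ IsCyclic ↥⁅(S : Subgroup G), (S : Subgroup G)⁆ := by
  intro hc
  haveI : Fact (Nat.Prime 2) := ⟨Nat.prime_two⟩
  set D := commutator (S : Subgroup G)
  have hmap : D.map (S : Subgroup G).subtype = ⁅(S : Subgroup G), (S : Subgroup G)⁆ :=
    Subgroup.map_subtype_commutator _
  haveI : IsCyclic D := by
    rw [← hmap] at hc
    exact (MulEquiv.isCyclic (equivMapOfInjective _ _ (S : Subgroup G).subtype_injective)).mpr hc
  have hD : D ≠ ⊥ := fun h => hS ⟨⟨fun a b => by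
    have := (commutator_le.mp h.le) a (mem_top a) b (mem_top b)
    exact commutatorElement_eq_one_iff_mul_comm.mp (mem_bot.mp this)⟩⟩
  have h2 : 2 ∣ Nat.card D := by
    obtain ⟨i, hi⟩ := IsPGroup.iff_card.mp (S.2.to_subgroup D)
    rcases i with _ | i
    · exact absurd (eq_bot_of_card_eq D (by rw [hi, pow_zero])) hD
    · exact ⟨2 ^ i, by rw [hi, pow_succ']⟩
  obtain ⟨⟨d, hd⟩, hd2⟩ := exists_prime_orderOf_dvd_card' (G := D) 2 h2
  have hd2' : orderOf d = 2 := by rwa [orderOf_mk] at hd2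
  have h := Cfsg.Agent.S3184.result hCI.hyp S D hD inferInstance inferInstance d hd hd2'
  have hO : oddCore G = ⊥ := by
    refine (pPrimeCore_normal 2 G).eq_bot_or_eq_top.resolve_right fun e => hS ?_
    have hodd : Odd (Nat.card G) := by
      have := core_odd (X := G)
      rwa [show pPrimeCore 2 G = ⊤ from e, card_top] at this
    obtain ⟨i, hi⟩ := IsPGroup.iff_card.mp S.2
    have h1 : Nat.card (S : Subgroup G) = 1 := hi ▸ Nat.eq_one_of_dvd_coprimes
      ((Nat.coprime_two_left.mpr hodd).pow_left i) dvd_rfl (hi ▸ card_subgroup_dvd_card (S : Subgroup G))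
    haveI := (Nat.card_eq_one_iff_unique.mp h1).1
    exact ⟨⟨fun a b => Subsingleton.elim _ _⟩⟩
  have hz : (d : G) ∈ center G := mem_center_iff.mpr fun g => by
    have e := QuotientGroup.eq.mp (h g)
    rw [hO, mem_bot, inv_mul_eq_one] at e
    exact mul_inv_eq_iff_eq_mul.mp e
  rw [(inferInstance : (center G).Normal).eq_bot_or_eq_top.resolve_right fun e => hG
    ⟨⟨fun a b => mem_center_iff.mp (e ▸ mem_top b) a⟩⟩, mem_bot] at hz
  rw [Subtype.ext hz (a2 := (1 : (S : Subgroup G))), orderOf_one] at hd2'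
  norm_num at hd2'

/-- An involution of `S' ∩ Z(S)` whose centraliser does not normalise `S`. -/
theorem exceptional (hab : AbGood.{u})
    (hsimp : ∀ (X : Type u) [Group X] [Finite X], Nat.card X < Nat.card G → IsSimpleGroup X → ¬ IsMulCommutative X →
      CI X → ∀ T : Sylow 2 X, ¬ IsMulCommutative (T : Subgroup X) → SzPSU X)
    (hCI : CI G) (S : Sylow 2 G) (hS : ¬ IsMulCommutative (S : Subgroup G))
    (hnc : ¬ IsCyclic ↥⁅(S : Subgroup G), (S : Subgroup G)⁆) {b : G}
    (hbS : b ∈ ⁅(S : Subgroup G), (S : Subgroup G)⁆) (hbc : Cen (S : Subgroup G) b) (hb1 : b ≠ 1)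
    (hne : centralizer ({b} : Set G) ≠ ⊤)
    (hexc : ¬ centralizer ({b} : Set G) ≤ normalizer ((S : Subgroup G) : Set G)) :
    perfCore (centralizer ({b} : Set G)) ≠ ⊥ ∧
      (∃ c ∈ normalizer ((S : Subgroup G) : Set G), c * b * c⁻¹ = b ∧
        ∃ x ∈ ⁅(S : Subgroup G), (S : Subgroup G)⁆, Moves c x) ∧
      ∀ a ∈ ⁅(S : Subgroup G), (S : Subgroup G)⁆, Cen (S : Subgroup G) a →
        perfCore (centralizer ({b} : Set G)) ≤ centralizer ({a} : Set G) ∨
          ((∀ x ∈ (S : Subgroup G), Cen (S : Subgroup G) (x * x)) ∧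
            (∀ x ∈ (S : Subgroup G), ∀ y ∈ (S : Subgroup G), Cen (S : Subgroup G) ⁅x, y⁆) ∧
            Nat.card ((S : Subgroup G) ⧸ center (S : Subgroup G)) = 8 ∧
            ∃ c ∈ normalizer ((S : Subgroup G) : Set G), Moves c a) := by
  haveI : Fact (Nat.Prime 2) := ⟨Nat.prime_two⟩
  have hbS' : b ∈ (S : Subgroup G) := Subgroup.commutator_le_self _ hbS
  set C := centralizer ({b} : Set G)
  have hle : (S : Subgroup G) ≤ C := fun s hs => mem_centralizer_singleton_iff.mpr (hbc s hs)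
  set SC := S.subtype hle
  have hmem : ∀ {x : ↥C}, x ∈ (SC : Subgroup ↥C) ↔ (x : G) ∈ (S : Subgroup G) := Iff.rfl
  have hncC := sub_noncyclic hle hnc
  have hmemD : ∀ {x : ↥C}, (x : G) ∈ ⁅(S : Subgroup G), (S : Subgroup G)⁆ →
      x ∈ ⁅(SC : Subgroup ↥C), (SC : Subgroup ↥C)⁆ := by
    intro x hx
    rw [← commutator_sub_map hle] at hx
    obtain ⟨y, hy, e⟩ := hx
    rwa [← Subtype.ext (a1 := y) (a2 := x) e]
  have hCIC := hCI.subgroup C
  have hcent : ∀ o ∈ pPrimeCore 2 ↥C, ∀ s ∈ (SC : Subgroup ↥C), o * s = s * o :=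
    hCIC.odd_centralised SC hncC _ core_odd fun s _ => by rw [normalizer_eq_top]; exact mem_top s
  have hSC : ¬ IsMulCommutative (SC : Subgroup ↥C) := fun hc => by
    obtain ⟨x, hx, hxc⟩ := exists_noncen hS
    exact hxc fun s hs => congrArg (fun z : (SC : Subgroup ↥C) => ((z : ↥C) : G))
      (hc.1.comm ⟨⟨s, hle hs⟩, hs⟩ ⟨⟨x, hle hx⟩, hx⟩)
  have hCIH := hCIC.bar
  have hnn : ¬ (barSyl SC : Subgroup (↥C ⧸ pPrimeCore 2 ↥C)).Normal := fun hn => hexc fun c hc => by
    haveI := normal_of_bar hcent hn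
    exact mem_normalizer_fintype fun s hs =>
      hmem.mp (Subgroup.Normal.conj_mem this (⟨s, hle hs⟩ : ↥C) hs ⟨c, hc⟩)
  have hcard : Nat.card (↥C ⧸ pPrimeCore 2 ↥C) < Nat.card G :=
    lt_of_le_of_lt (Nat.card_le_card_of_surjective _ (QuotientGroup.mk'_surjective _))
      (lt_of_le_of_ne (card_le_card_group C) fun h => hne (eq_top_of_card_eq C h))
  obtain ⟨K, hs⟩ := core_struct hab (fun X _ _ hX => hsimp X (lt_of_le_of_lt hX hcard))
    (CfsgLib.pPrimeCore_quotient_eq_bot 2) hCIH (barSyl SC) (bar_not_comm hSC) hnn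
  have hsz := hs.szpsu (bar_noncyclic hncC)
  haveI := hs.normal
  have hDK : ∀ {x : ↥C}, x ∈ ⁅(SC : Subgroup ↥C), (SC : Subgroup ↥C)⁆ → toQ ↥C x ∈ K := by
    intro x hx
    have hle' : ⁅(barSyl SC : Subgroup (↥C ⧸ pPrimeCore 2 ↥C)), (barSyl SC : Subgroup (↥C ⧸ pPrimeCore 2 ↥C))⁆ ≤ K :=
      commutator_le.mpr fun u hu v hv => by
        obtain ⟨t, ht, t', ht', e⟩ := hs.comm_mem hu hv
        rw [e, commutatorElement_def]
        exact mul_mem (mul_mem (mul_mem ht.2 ht'.2) (K.inv_mem ht.2)) (K.inv_mem ht'.2)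
    exact hle' (by rw [bar_commutator]; exact mem_map_of_mem _ hx)
  set bC : ↥C := ⟨b, hle hbS'⟩
  have hbK : toQ ↥C bC ∈ K := hDK (hmemD hbS)
  have hbq : toQ ↥C bC ≠ 1 := fun h => hb1 (congrArg Subtype.val
    (inj_sylow SC (x := bC) (y := 1) hbS' (one_mem _) (h.trans (map_one _).symm)))
  have hbz : (⟨_, hbK⟩ : ↥K) ∈ center ↥K := mem_center_iff.mpr fun y => Subtype.ext (by
    obtain ⟨x, hx⟩ := QuotientGroup.mk'_surjective (pPrimeCore 2 ↥C) (y : ↥C ⧸ pPrimeCore 2 ↥C)
    show (y : ↥C ⧸ pPrimeCore 2 ↥C) * toQ ↥C bC = toQ ↥C bC * y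
    rw [← hx, ← map_mul, ← map_mul,
      show x * bC = bC * x from Subtype.ext (mem_centralizer_singleton_iff.mp x.2)])
  obtain ⟨F, i1, i2, hF, ⟨e⟩⟩ := hs.sz8 hsz hbz fun h => hbq (congrArg Subtype.val h)
  have hL0 : perfCore (⊤ : Subgroup ↥C) ≠ ⊥ := fun h => hbq (by
    have hm := perfCore_map hs
    rw [h, Subgroup.map_bot] at hm
    rw [← hm] at hbK
    exact mem_bot.mp hbK)
  have horb : ∀ (x : ↥C), x ∈ (SC : Subgroup ↥C) → ∀ (hxK : toQ ↥C x ∈ K), (⟨_, hxK⟩ : ↥K) ∉ center ↥K →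
      (∀ y : ↥K, (y : ↥C ⧸ pPrimeCore 2 ↥C) ∈ (barSyl SC : Subgroup _) → ⁅(⟨_, hxK⟩ : ↥K), y⁆ ∈ center ↥K) →
      ∃ c ∈ normalizer ((S : Subgroup G) : Set G), c * b * c⁻¹ = b ∧ Moves c (x : G) := by
    intro x hx hxK hxZ hxc
    obtain ⟨n, hn, hni⟩ := hs.orbit hCIH hF e (bar_mk hx) hxZ hxc
    obtain ⟨c, rfl⟩ := QuotientGroup.mk'_surjective (pPrimeCore 2 ↥C) n
    have hcN := normalizer_of_bar hcent hn
    refine ⟨c, mem_normalizer_fintype fun s hs' => hmem.mp ((mem_normalizer_iff.mp hcN ⟨s, hle hs'⟩).mp hs'),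
      by rw [mem_centralizer_singleton_iff.mp c.2, mul_inv_cancel_right], fun i hi => hni i ?_⟩
    show toQ ↥C c ^ i * toQ ↥C x * (toQ ↥C c ^ i)⁻¹ = toQ ↥C x
    rw [← map_pow, ← map_inv, ← map_mul, ← map_mul]
    exact congrArg (toQ ↥C) (Subtype.ext (by simpa using hi))
  refine ⟨fun h => hL0 (map_injective C.subtype_injective (by rw [perfCore_top_map, h, Subgroup.map_bot])), ?_,
    fun a ha hac => ?_⟩
  · obtain ⟨x, hx, hxZ, hxc⟩ := hs.exists_orbit_elem hCIH hF e
    rw [bar_commutator] at hx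
    obtain ⟨x0, hx0, hx0e⟩ := hx
    have hxK : toQ ↥C x0 ∈ K := hx0e ▸ x.2
    have he : (⟨_, hxK⟩ : ↥K) = x := Subtype.ext hx0e
    obtain ⟨c, hc, hcb, hcm⟩ := horb x0 (Subgroup.commutator_le_self _ hx0) hxK (by rw [he]; exact hxZ)
      (fun y hy => by rw [he]; exact hxc y hy)
    exact ⟨c, hc, hcb, x0, by rw [← commutator_sub_map hle]; exact mem_map_of_mem C.subtype hx0, hcm⟩
  · set aC : ↥C := ⟨a, hle (Subgroup.commutator_le_self _ ha)⟩
    have haK : toQ ↥C aC ∈ K := hDK (hmemD ha)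
    have haS : aC ∈ (SC : Subgroup ↥C) := Subgroup.commutator_le_self (S : Subgroup G) ha
    have hacC : Cen (SC : Subgroup ↥C) aC := fun s hs' => Subtype.ext (hac _ hs')
    by_cases haZ : (⟨_, haK⟩ : ↥K) ∈ center ↥K
    · left
      rw [← perfCore_top_map]
      rintro _ ⟨l, hl, rfl⟩
      have h := perfCore_le_centralizer hcent hs (a := aC)
        (fun y hy => congrArg Subtype.val (mem_center_iff.mp haZ ⟨y, hy⟩)) hl
      exact mem_centralizer_singleton_iff.mpr (congrArg Subtype.val (mem_centralizer_singleton_iff.mp h))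
    · right
      have hacb := (cen_bar haS).mpr hacC
      obtain ⟨hsq, hcomm, h8⟩ := hs.eight hCIH hF e (bar_mk haS) hacb haZ
      obtain ⟨c, hc, -, hcm⟩ := horb aC haS haK haZ fun y hy => by
        rw [show ⁅(⟨_, haK⟩ : ↥K), y⁆ = 1 from
          commutatorElement_eq_one_iff_mul_comm.mpr (Subtype.ext (hacb _ hy).symm)]
        exact one_mem _
      have hcen : ∀ {x : ↥C}, x ∈ (SC : Subgroup ↥C) →
          Cen (barSyl SC : Subgroup (↥C ⧸ pPrimeCore 2 ↥C)) (toQ ↥C x) → Cen (S : Subgroup G) (x : G) :=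
        fun {x} hx hxc s hs' => congrArg Subtype.val ((cen_bar hx).mp hxc ⟨s, hle hs'⟩ hs')
      refine ⟨fun x hx => hcen (x := ⟨x, hle hx⟩ * ⟨x, hle hx⟩) (mul_mem (s := (SC : Subgroup ↥C)) hx hx)
        (by rw [map_mul]; exact hsq _ (bar_mk hx)), fun x hx y hy => ?_, ?_, c, hc, hcm⟩
      · have := hcen (x := ⁅(⟨x, hle hx⟩ : ↥C), ⟨y, hle hy⟩⁆)
          (Subgroup.commutator_le_self (SC : Subgroup ↥C) (commutator_mem_commutator hx hy))
          (by rw [map_commutatorElement]; exact hcomm _ (bar_mk (x := ⟨x, hle hx⟩) hx) _ (bar_mk (x := ⟨y, hle hy⟩) hy))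
        rwa [← coe_subtype, map_commutatorElement] at this
      · rw [← card_central_quot (subgroupOfEquivOfLe hle)]
        refine Eq.trans (card_central_quot (MulEquiv.ofBijective
          (((toQ ↥C).comp (SC : Subgroup ↥C).subtype).codRestrict (barSyl SC : Subgroup (↥C ⧸ pPrimeCore 2 ↥C))
            fun x => bar_mk x.2) ⟨fun x y h => Subtype.ext (inj_sylow SC x.2 y.2 (congrArg Subtype.val h)),
            fun y => ?_⟩)) h8
        obtain ⟨x, hx, h⟩ := y.2
        exact ⟨⟨x, hx⟩, Subtype.ext h⟩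

/-- The Sylow 2-subgroups of `L₂(2^n)` are abelian. -/
theorem psl_two_sylow_comm {F : Type} [Field F] [Fintype F] [CharP F 2]
    (T : Sylow 2 (Matrix.ProjectiveSpecialLinearGroup (Fin 2) F)) :
    IsMulCommutative (T : Subgroup (Matrix.ProjectiveSpecialLinearGroup (Fin 2) F)) := by
  haveI : Fact (Nat.Prime 2) := ⟨Nat.prime_two⟩
  obtain ⟨g, hg⟩ := MulAction.exists_smul_eq (Matrix.ProjectiveSpecialLinearGroup (Fin 2) F)
    (CfsgLib.PSL2.uSylow (F := F) 2) T
  refine ⟨⟨fun a b => Subtype.ext ?_⟩⟩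
  obtain ⟨a, ha⟩ := a
  obtain ⟨b, hb⟩ := b
  rw [← hg] at ha hb
  obtain ⟨_, ⟨x, rfl⟩, rfl⟩ := ha
  obtain ⟨_, ⟨y, rfl⟩, rfl⟩ := hb
  show g * (CfsgLib.PSL2.uHom x) * g⁻¹ * (g * (CfsgLib.PSL2.uHom y) * g⁻¹) =
    g * (CfsgLib.PSL2.uHom y) * g⁻¹ * (g * (CfsgLib.PSL2.uHom x) * g⁻¹)
  rw [conj_mul, conj_mul, ← map_mul, ← map_mul, mul_comm x y]

/-- From a strongly embedded subgroup to the list. -/
theorem szpsu_of_stronglyEmbedded [IsSimpleGroup G] (S : Sylow 2 G) (hS : ¬ IsMulCommutative (S : Subgroup G))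
    {H : Subgroup G} (hH : IsStronglyEmbedded H) : SzPSU G := by
  rcases CfsgLib.Bender.isBenderGroup_of_stronglyEmbedded
      (CfsgLib.Bender.Assembly.benderHyp CfsgLib.Bender.Assembly.goodAll) CfsgLib.Bender.Assembly.suzukiHyp hH with
    ⟨F, i1, i2, ⟨n, hn, hc⟩, ⟨e⟩⟩ | hs | hu
  · haveI : CharP F 2 := CfsgLib.Bender.charP_two_of_card hc (by omega)
    haveI : Fact (Nat.Prime 2) := ⟨Nat.prime_two⟩
    set T := S.mapSurjective (f := e.toMonoidHom) e.surjective
    have hT := psl_two_sylow_comm T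
    refine absurd ⟨⟨fun a b => Subtype.ext (e.injective ?_)⟩⟩ hS
    show e ((a : G) * b) = e ((b : G) * a)
    rw [map_mul, map_mul]
    exact congrArg Subtype.val (hT.1.comm ⟨e a, mem_map_of_mem e.toMonoidHom a.2⟩
      ⟨e b, mem_map_of_mem e.toMonoidHom b.2⟩)
  · exact Or.inl hs
  · exact Or.inr hu

/-- Simple groups with central intersections and non-abelian Sylow 2-subgroups. -/
theorem szpsu_step (hab : AbGood.{u})
    (hsimp : ∀ (X : Type u) [Group X] [Finite X], Nat.card X < Nat.card G → IsSimpleGroup X → ¬ IsMulCommutative X →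
      CI X → ∀ T : Sylow 2 X, ¬ IsMulCommutative (T : Subgroup X) → SzPSU X)
    [IsSimpleGroup G] (hG : ¬ IsMulCommutative G) (hCI : CI G) (S : Sylow 2 G)
    (hS : ¬ IsMulCommutative (S : Subgroup G)) : SzPSU G := by
  classical
  haveI : Fact (Nat.Prime 2) := ⟨Nat.prime_two⟩
  set D := ⁅(S : Subgroup G), (S : Subgroup G)⁆ with hD
  have hnc := comm_noncyclic hG hCI S hS
  have hZ : center G = ⊥ := (inferInstance : (center G).Normal).eq_bot_or_eq_top.resolve_right fun e => hG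
    ⟨⟨fun a b => mem_center_iff.mp (e ▸ mem_top b) a⟩⟩
  have hDS : D ≤ (S : Subgroup G) := Subgroup.commutator_le_self _
  have hcomm : ∀ {x y : G}, y ∈ (S : Subgroup G) → Cen (S : Subgroup G) x → y * x = x * y := fun hy hc => hc _ hy
  let A : Subgroup G :=
    { carrier := {x | x ∈ D ∧ Cen (S : Subgroup G) x ∧ x * x = 1}
      one_mem' := ⟨one_mem _, Cen.one _, one_mul 1⟩
      mul_mem' := fun {x y} hx hy => ⟨mul_mem hx.1 hy.1, hx.2.1.mul hy.2.1, by
        have h : y * x = x * y := hcomm (hDS hy.1) hx.2.1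
        calc x * y * (x * y) = x * (y * x) * y := by group
          _ = x * x * (y * y) := by rw [h]; group
          _ = 1 := by rw [hx.2.2, hy.2.2, one_mul]⟩
      inv_mem' := fun {x} hx => ⟨inv_mem hx.1, hx.2.1.inv, by rw [← mul_inv_rev, hx.2.2, inv_one]⟩ }
  have hAS : A ≤ (S : Subgroup G) := fun x hx => hDS hx.1
  have hinv : ∀ n ∈ normalizer ((S : Subgroup G) : Set G), ∀ a ∈ A, n * a * n⁻¹ ∈ A := by
    intro n hn a ha
    refine ⟨?_, ha.2.1.conj hn, by rw [conj_mul, ha.2.2, mul_one, mul_inv_cancel]⟩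
    have h : n * a * n⁻¹ ∈ D.map (MulAut.conj n).toMonoidHom := ⟨a, ha.1, rfl⟩
    rwa [hD, map_commutator, CfsgLib.Local.map_conj_eq_of_mem_normalizer hn] at h
  have hA1 : A ≠ ⊥ := by
    obtain ⟨z, hzD, hz, hzc⟩ := CfsgLib.Comp.exists_central_in_normal (p := 2) S.isPGroup' hDS
      (fun s hs => CfsgLib.Bender.TwoClosed.mem_normalizer_of_conj fun d hd => by
        have h : s * d * s⁻¹ ∈ D.map (MulAut.conj s).toMonoidHom := ⟨d, hd, rfl⟩
        rwa [hD, map_commutator, CfsgLib.Local.map_conj_eq_of_mem_normalizer (Subgroup.le_normalizer hs)] at h)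
      (fun h => hS ⟨⟨fun a b => Subtype.ext (commutatorElement_eq_one_iff_mul_comm.mp
        (mem_bot.mp (h ▸ commutator_mem_commutator a.2 b.2)))⟩⟩)
    intro h
    have hz1 : z = 1 := mem_bot.mp (h ▸ (⟨hzD, fun s hs => hzc s hs,
      by rw [← pow_two, ← hz, pow_orderOf_eq_one]⟩ : z ∈ A))
    rw [hz1, orderOf_one] at hz
    norm_num at hz
  have hfin : ∀ B : Subgroup G, B ≤ A → B ≠ ⊥ → (∀ n ∈ normalizer ((S : Subgroup G) : Set G), ∀ b ∈ B, n * b * n⁻¹ ∈ B) →
      ∀ M : Subgroup G, M ≠ ⊤ → (∀ b ∈ B, b ≠ 1 → centralizer ({b} : Set G) ≤ M) → SzPSU G := by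
    intro B hBA hB1 hBinv M hM hle
    obtain ⟨H, hH⟩ := CfsgLib.Bender.Q.strongly_closed_simple CfsgLib.Bender.Q.theoremQ S B hB1
      (hCI.strongly_closed (hBA.trans hAS) hBinv)
      (fun e => hM (top_le_iff.mp (e ▸ iSup_le fun t => hle t t.2.1 fun h => by
        have h2 := t.2.2
        rw [h, orderOf_one] at h2
        norm_num at h2)))
    exact szpsu_of_stronglyEmbedded S hS hH
  have hNtop : normalizer ((S : Subgroup G) : Set G) ≠ ⊤ := fun e => by
    rcases (normalizer_eq_top_iff.mp e).eq_bot_or_eq_top with h | h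
    · exact hS ⟨⟨fun a b => Subtype.ext (by
        rw [Subgroup.coe_mul, Subgroup.coe_mul, mem_bot.mp (h ▸ a.2 : (a : G) ∈ (⊥ : Subgroup G)),
          mem_bot.mp (h ▸ b.2 : (b : G) ∈ (⊥ : Subgroup G))])⟩⟩
    · refine hG ⟨⟨fun a b => ?_⟩⟩
      have hn : Group.IsNilpotent G := by
        haveI := S.2.isNilpotent
        exact Group.nilpotent_of_mulEquiv ((MulEquiv.subgroupCongr h).trans Subgroup.topEquiv)
      haveI : Group.IsSolvable G := inferInstance
      exact IsSimpleGroup.comm_iff_isSolvable.mpr inferInstance a b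
  have hCne : ∀ b ∈ A, b ≠ 1 → centralizer ({b} : Set G) ≠ ⊤ := fun b _ hb1 e => hb1 (mem_bot.mp (hZ ▸
    mem_center_iff.mpr fun g => mem_centralizer_singleton_iff.mp (e ▸ mem_top g)))
  -- perfect subgroups of the normaliser are trivial
  have hperf : ∀ L : Subgroup G, ⁅L, L⁆ = L → L ≤ normalizer ((S : Subgroup G) : Set G) → L = ⊥ := by
    intro L hL hLN
    set N := normalizer ((S : Subgroup G) : Set G)
    have h1 : ⁅L.subgroupOf N, L.subgroupOf N⁆ = L.subgroupOf N := map_injective N.subtype_injective (by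
      rw [map_commutator, map_subgroupOf_eq_of_le hLN, hL])
    haveI : ((S : Subgroup G).subgroupOf N).Normal := Subgroup.normal_in_normalizer
    have h2 := perfect_le_of_index_odd h1 (N := (S : Subgroup G).subgroupOf N) (Nat.not_even_iff_odd.mp fun he =>
      S.not_dvd_index ((even_iff_two_dvd.mp he).trans (relIndex_dvd_index_of_le Subgroup.le_normalizer)))
    haveI : Group.IsSolvable (S : Subgroup G) := by
      haveI := S.2.isNilpotent
      infer_instance
    have h3 : ⁅L.subgroupOf (S : Subgroup G), L.subgroupOf (S : Subgroup G)⁆ = L.subgroupOf (S : Subgroup G) := by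
      have hLS : L ≤ (S : Subgroup G) := fun x hx => h2 (show (⟨x, hLN hx⟩ : N) ∈ L.subgroupOf N from hx)
      exact map_injective (S : Subgroup G).subtype_injective (by
        rw [map_commutator, map_subgroupOf_eq_of_le hLS, hL])
    have h4 := perfect_le_ker h3 (MonoidHom.id (S : Subgroup G))
    rw [eq_bot_iff]
    intro x hx
    have hxS : x ∈ (S : Subgroup G) := h2 (show (⟨x, hLN hx⟩ : N) ∈ L.subgroupOf N from hx)
    exact congrArg Subtype.val (h4 (show (⟨x, hxS⟩ : (S : Subgroup G)) ∈ L.subgroupOf _ from hx) :)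
  set N := normalizer ((S : Subgroup G) : Set G)
  by_cases hall : ∀ b ∈ A, b ≠ 1 → centralizer ({b} : Set G) ≤ N
  · exact hfin A le_rfl hA1 hinv _ hNtop hall
  push Not at hall
  have hdata : ∀ b ∈ A, b ≠ 1 → ¬ centralizer ({b} : Set G) ≤ N → _ := fun b hb hb1 hexc =>
    exceptional hab hsimp hCI S hS hnc hb.1 hb.2.1 hb1 (hCne b hb hb1) hexc
  by_cases hcase : ∀ b ∈ A, b ≠ 1 → ¬ centralizer ({b} : Set G) ≤ N →
      ∀ a ∈ A, perfCore (centralizer ({b} : Set G)) ≤ centralizer ({a} : Set G)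
  · obtain ⟨b0, hb0, hb01, hb0e⟩ := hall
    set L := perfCore (centralizer ({b0} : Set G))
    have hL1 : L ≠ ⊥ := (hdata b0 hb0 hb01 hb0e).1
    have hLtop : normalizer (L : Set G) ≠ ⊤ := fun e => by
      rcases (normalizer_eq_top_iff.mp e).eq_bot_or_eq_top with h | h
      · exact hL1 h
      · exact hCne b0 hb0 hb01 (top_le_iff.mp (h ▸ perfCore_le _))
    refine hfin A le_rfl hA1 hinv _ hLtop fun b hb hb1 => ?_
    have h1 : L ≤ centralizer ({b} : Set G) := hcase b0 hb0 hb01 hb0e b hb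
    have hexc : ¬ centralizer ({b} : Set G) ≤ N := fun h =>
      hL1 (hperf L (perfCore_perfect _) (h1.trans h))
    have he : perfCore (centralizer ({b} : Set G)) = L :=
      le_antisymm (le_perfCore (hcase b hb hb1 hexc b0 hb0) (perfCore_perfect _))
        (le_perfCore h1 (perfCore_perfect _))
    intro c hc
    rw [← he]
    exact CfsgLib.Bender.TwoClosed.mem_normalizer_of_conj fun x hx => perfCore_conj hc hx
  · push Not at hcase
    obtain ⟨b1, hb1A, hb11, hb1e, a, haA, hnot⟩ := hcase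
    obtain ⟨hsq, hcm, h8, c, hc, hmov⟩ := ((hdata b1 hb1A hb11 hb1e).2.2 a haA.1 haA.2.1).resolve_left hnot
    obtain ⟨B, hBA, hB1, hBinv, hno⟩ := exists_moved hsq hcm h8 A (fun x hx => hx.1) (fun x hx => hx.2.2) hinv
      haA hc hmov
    refine hfin B hBA hB1 hBinv _ hNtop fun b hb hb1 => ?_
    by_contra hexc
    obtain ⟨d, hd, hdb, x, hx, hdx⟩ := (hdata b (hBA hb) hb1 hexc).2.1
    exact hno b hb hb1 d hd hdb x hx hdx

/-- Simple groups with central intersections: the non-abelian case. -/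
theorem szpsu_of_simple (hab : AbGood.{u}) :
    ∀ (G : Type u) [Group G] [Finite G], IsSimpleGroup G → ¬ IsMulCommutative G → CI G →
      ∀ S : Sylow 2 G, ¬ IsMulCommutative (S : Subgroup G) → SzPSU G := by
  suffices ∀ n, ∀ (G : Type u) [Group G] [Finite G], Nat.card G = n → IsSimpleGroup G → ¬ IsMulCommutative G → CI G →
      ∀ S : Sylow 2 G, ¬ IsMulCommutative (S : Subgroup G) → SzPSU G from
    fun G _ _ => this _ G rfl
  intro n
  induction n using Nat.strong_induction_on with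
  | _ n ih =>
    intro G _ _ hn hs hG hCI S hS
    haveI := hs
    exact szpsu_step hab (fun X _ _ hX => ih _ (hn ▸ hX) X rfl) hG hCI S hS

end CfsgLib.CentralInt
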