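import Cfsg.Agent.Lib.CentralInt.Pairing
import Cfsg.Agent.Lib.Walter.Ab.Main
import Cfsg.Agent.Lib.Walter.Main

/-!
The engine for abelian Sylow 2-subgroups of simple groups, from Walter's theorem.

Blueprint: `blueprint/S3181.md` (Engine).
-/

set_option autoImplicit false
set_option linter.unusedSectionVars false
set_option linter.style.haveILetI false

namespace CfsgLib.CentralInt

open Subgroup

universe u

/-- The list of simple groups with abelian Sylow 2-subgroups. -/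
theorem listed_of_abelian {X : Type u} [Group X] [Finite X] (hs : IsSimpleGroup X) (hX : ¬ IsMulCommutative X)
    (T : Sylow 2 X) (hT : IsMulCommutative (T : Subgroup X)) : CfsgLib.WalterAb.Listed X := by
  haveI : Fact (Nat.Prime 2) := ⟨Nat.prime_two⟩
  refine CfsgLib.WalterAb.listed_of_P (fun Y _ _ => CfsgLib.Walter.p_all Y) X hs hX fun P => ?_
  exact ⟨⟨fun a b => (Sylow.equiv P T).injective (by rw [map_mul, map_mul]; exact hT.1.comm _ _)⟩⟩

theorem abGood : AbGood.{u} := by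
  intro X _ _ hs hX T hT
  haveI := hs
  haveI : Fact (Nat.Prime 2) := ⟨Nat.prime_two⟩
  have hg := (listed_of_abelian hs hX T hT).good T
  obtain ⟨k, hk, htr⟩ := hg.trans
  obtain ⟨i, hi⟩ := IsPGroup.iff_card.mp T.2
  have h2 : 2 ∣ Nat.card (T : Subgroup X) := by
    rcases i with _ | i
    · have := hg.four; rw [hi] at this; norm_num at this
    · exact ⟨2 ^ i, by rw [hi, pow_succ']⟩
  obtain ⟨⟨z, hzT⟩, hz⟩ := exists_prime_orderOf_dvd_card' (G := (T : Subgroup X)) 2 h2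
  rw [orderOf_mk] at hz
  have hz1 : z ≠ 1 := fun e => by rw [e, orderOf_one] at hz; norm_num at hz
  have hsq : ∀ x ∈ (T : Subgroup X), x * x = 1 := by
    intro x hx
    by_cases hx1 : x = 1
    · rw [hx1, one_mul]
    obtain ⟨j, hj⟩ := htr z hzT hz1 x hx hx1
    rw [← hj, conj_mul, ← pow_two, show z ^ 2 = 1 from hz ▸ pow_orderOf_eq_one z, mul_one, mul_inv_cancel]
  set v := (orderOf k).factorization 2
  set m := orderOf k / 2 ^ v
  have hvm : 2 ^ v * m = orderOf k := Nat.ordProj_mul_ordCompl_eq_self _ _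
  have hmodd : Odd m := Nat.not_even_iff_odd.mp fun he =>
    Nat.not_dvd_ordCompl Nat.prime_two (orderOf_pos k).ne' (even_iff_two_dvd.mp he)
  have hord : orderOf (k ^ 2 ^ v) = m := by
    rw [orderOf_pow' _ (pow_ne_zero _ two_ne_zero), Nat.gcd_eq_right (Nat.ordProj_dvd _ _)]
  have hkm : k ^ m ∈ (T : Subgroup X) := by
    have hord2 : orderOf (k ^ m) = 2 ^ v := by
      rw [orderOf_pow' _ hmodd.pos.ne', Nat.gcd_eq_right ⟨2 ^ v, by rw [mul_comm]; exact hvm.symm⟩]
      exact Nat.div_eq_of_eq_mul_left hmodd.pos hvm.symm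
    have hp : IsPGroup 2 (zpowers (k ^ m)) := IsPGroup.of_card (n := v) (by rw [Nat.card_zpowers, hord2])
    exact (T.3 (hp.to_sup_of_normal_right' T.2 (zpowers_le.mpr (pow_mem hk m))) le_sup_right).le
      (mem_sup_left (mem_zpowers _))
  refine ⟨hsq, k ^ 2 ^ v, pow_mem hk _, hord ▸ hmodd, fun x hx hx1 y hy hy1 => ?_⟩
  obtain ⟨j, hj⟩ := htr x hx hx1 y hy hy1
  have hcop : (2 ^ v).Coprime m := (Nat.coprime_two_left.mpr hmodd).pow_left v
  obtain ⟨r, hr⟩ : ∃ r, 2 ^ v * r ≡ 1 [MOD m] := by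
    obtain ⟨b, hb⟩ := exists_pow_eq_self_of_coprime (G := Multiplicative (ZMod m))
      (x := Multiplicative.ofAdd (1 : ZMod m)) (n := 2 ^ v) (by
        rw [orderOf_ofAdd_eq_addOrderOf, ZMod.addOrderOf_one]; exact hcop)
    refine ⟨b, (ZMod.natCast_eq_natCast_iff _ _ _).mp ?_⟩
    have := congrArg Multiplicative.toAdd hb
    simpa [toAdd_pow, mul_comm] using this
  refine ⟨r * j, ?_⟩
  rw [← pow_mul, ← hj, ← mul_assoc]
  obtain ⟨s, hs'⟩ : ∃ s, 2 ^ v * r * j + m * j = j + m * s := by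
    have h : 2 ^ v * r * j ≡ j [MOD m] := by simpa using hr.mul_right j
    rcases le_total j (2 ^ v * r * j) with h' | h'
    · obtain ⟨c, hc⟩ := (Nat.modEq_iff_dvd' h').mp h.symm
      exact ⟨c + j, by rw [Nat.mul_add]; omega⟩
    · obtain ⟨c, hc⟩ := (Nat.modEq_iff_dvd' h').mp h
      have hcj : c ≤ j := le_trans (Nat.le_mul_of_pos_left c hmodd.pos) (hc ▸ Nat.sub_le _ _)
      exact ⟨j - c, by rw [Nat.mul_sub]; have := Nat.mul_le_mul_left m hcj; omega⟩
  have hfix : ∀ (e : ℕ) (w : X), w ∈ (T : Subgroup X) → k ^ (m * e) * w * (k ^ (m * e))⁻¹ = w := by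
    intro e w hw
    have h := congrArg Subtype.val (hT.1.comm ⟨k ^ (m * e), by rw [pow_mul]; exact pow_mem hkm e⟩ ⟨w, hw⟩)
    simp only [Subgroup.coe_mul] at h
    rw [h, mul_inv_cancel_right]
  calc k ^ (2 ^ v * r * j) * x * (k ^ (2 ^ v * r * j))⁻¹
      = k ^ (2 ^ v * r * j) * (k ^ (m * j) * x * (k ^ (m * j))⁻¹) * (k ^ (2 ^ v * r * j))⁻¹ := by rw [hfix j x hx]
    _ = k ^ (2 ^ v * r * j + m * j) * x * (k ^ (2 ^ v * r * j + m * j))⁻¹ := by rw [pow_add]; group
    _ = k ^ (j + m * s) * x * (k ^ (j + m * s))⁻¹ := by rw [hs']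
    _ = k ^ j * (k ^ (m * s) * x * (k ^ (m * s))⁻¹) * (k ^ j)⁻¹ := by rw [pow_add]; group
    _ = k ^ j * x * (k ^ j)⁻¹ := by rw [hfix s x hx]

end CfsgLib.CentralInt
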