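import Cfsg.Agent.Lib.CentralInt.Simple
import Cfsg.Agent.Lib.CentralInt.Engine
import Cfsg.Agent.Lib.CTwoAbelian.PSLTwo
import Cfsg.Agent.S1245
import Cfsg.Prelude.Def_TwoFusion

/-!
Simple groups with abelian Sylow 2-subgroups, in the form asked for.

Blueprint: `blueprint/S3181.md` (S3182).
-/

set_option autoImplicit false
set_option linter.unusedSectionVars false
set_option linter.style.haveILetI false

namespace CfsgLib.CentralInt

open Cfsg Subgroup

universe u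

variable {G : Type u} [Group G] [Finite G]

theorem abelian_cases [IsSimpleGroup G] (hG : ¬ IsMulCommutative G)
    (hall : ∀ S : Sylow 2 G, IsMulCommutative ↥(S : Subgroup G)) :
    (∃ (F : Type) (_ : Field F) (_ : Fintype F),
        (Fintype.card F % 8 = 0 ∨ Fintype.card F % 8 = 3 ∨ Fintype.card F % 8 = 5) ∧
        Nonempty (G ≃* Matrix.ProjectiveSpecialLinearGroup (Fin 2) F)) ∨
    ((∀ S : Sylow 2 G, IsMulCommutative ↥(S : Subgroup G)) ∧
      ∃ t : G, orderOf t = 2 ∧ IsCoatom (Subgroup.centralizer ({t} : Set G)) ∧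
        ∃ E : Subgroup G, Cfsg.IsInternalDirectProduct (Subgroup.zpowers t) E (Subgroup.centralizer ({t} : Set G)) ∧
          ∃ (F : Type) (_ : Field F) (_ : Fintype F), Odd (Fintype.card F) ∧ 3 < Fintype.card F ∧
            ∃ N : Subgroup ↥E, N.Normal ∧ Nonempty (↥N ≃* Matrix.ProjectiveSpecialLinearGroup (Fin 2) F) ∧
              Subgroup.centralizer (N : Set ↥E) = ⊥) ∨
    (∃ (m : ℕ) (F : Type) (_ : Field F) (_ : Fintype F), 1 ≤ m ∧ Fintype.card F = 2 ^ (2 * m + 1) ∧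
        Nonempty (G ≃* ↥(Cfsg.Lie.Sz F (2 ^ (m + 1))))) ∨
    (∃ (n : ℕ) (F : Type) (_ : Field F) (_ : Fintype F), 2 ≤ n ∧ Fintype.card F = 4 ^ n ∧
        Nonempty (G ≃* Cfsg.PSU 3 F (2 ^ n))) := by
  haveI : Fact (Nat.Prime 2) := ⟨Nat.prime_two⟩
  let S : Sylow 2 G := default
  rcases listed_of_abelian inferInstance hG S (hall S) with ⟨F, i1, i2, hq, ⟨e⟩⟩ | hJ
  · left
    rcases hq with ⟨h | h, -⟩ | ⟨n, hn, hc⟩
    · exact ⟨F, i1, i2, Or.inr (Or.inl h), ⟨e⟩⟩
    · exact ⟨F, i1, i2, Or.inr (Or.inr h), ⟨e⟩⟩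
    rcases Nat.lt_or_ge n 3 with h2 | h3
    · obtain rfl : n = 2 := by omega
      haveI : Fact (Nat.Prime 5) := ⟨by norm_num⟩
      obtain ⟨f⟩ := CfsgLib.CTwoAbelian.psl_four_five (F := F) (by rw [hc]; norm_num)
      exact ⟨ZMod 5, inferInstance, inferInstance, Or.inr (Or.inr (by rw [ZMod.card])), ⟨e.trans f⟩⟩
    · refine ⟨F, i1, i2, Or.inl ?_, ⟨e⟩⟩
      rw [hc]
      exact Nat.mod_eq_zero_of_dvd (Nat.pow_dvd_pow 2 h3)
  · refine Or.inr (Or.inl ⟨hall, ?_⟩)
    have h2 : 2 ∣ Nat.card G :=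
      (show 2 ∣ Nat.card (S : Subgroup G) by rw [(hJ.1 S).1]; norm_num).trans (card_subgroup_dvd_card _)
    obtain ⟨t, ht⟩ := exists_prime_orderOf_dvd_card' 2 h2
    obtain ⟨c⟩ := hJ.co ht
    have hprod : Cfsg.IsInternalDirectProduct (zpowers t) c.ι.range (centralizer ({t} : Set G)) := by
      refine ⟨zpowers_le.mpr (mem_centralizer_singleton_iff.mpr rfl), ?_, ?_, ?_, ?_⟩
      · rintro _ ⟨x, rfl⟩; exact c.ι_mem x
      · rintro a ha _ ⟨x, rfl⟩
        obtain ⟨i, rfl⟩ := ha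
        exact ((show Commute (c.ι x) t from c.ι_comm x).zpow_right i).symm.eq
      · rw [eq_bot_iff]
        rintro a ⟨ha, x, rfl⟩
        obtain ⟨i, hi⟩ := ha
        have h1 : c.π ⟨c.ι x, c.ι_mem x⟩ = 1 := by
          rw [show (⟨c.ι x, c.ι_mem x⟩ : centralizer ({t} : Set G)) = c.tC ^ i from Subtype.ext hi.symm, map_zpow,
            c.π_t, one_zpow]
        rw [c.π_ι] at h1
        rw [mem_bot, h1, map_one]
      · refine le_antisymm (sup_le (zpowers_le.mpr (mem_centralizer_singleton_iff.mpr rfl))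
          (by rintro _ ⟨x, rfl⟩; exact c.ι_mem x)) fun g hg => ?_
        rcases c.decomp ⟨g, hg⟩ with h | h <;> rw [show g = _ from h]
        · exact mem_sup_right ⟨_, rfl⟩
        · exact mul_mem (mem_sup_left (mem_zpowers t)) (mem_sup_right ⟨_, rfl⟩)
    have hodd : Odd (Fintype.card c.F) := Nat.odd_iff.mpr (by rcases c.hq with h | h <;> omega)
    have hcz : ∀ z, (∀ y, c.ι z * c.ι y = c.ι y * c.ι z) → z = 1 := fun z hz =>
      c.psl_center fun y => c.ι_inj (by rw [map_mul, map_mul]; exact hz y)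
    let eE : Matrix.ProjectiveSpecialLinearGroup (Fin 2) c.F ≃* c.ι.range := MonoidHom.ofInjective c.ι_inj
    refine ⟨t, ht, ?_, c.ι.range, hprod, c.F, inferInstance, inferInstance, hodd, c.h3, ⊤, inferInstance,
      ⟨(Subgroup.topEquiv).trans eE.symm⟩, ?_⟩
    · refine Cfsg.Agent.S1245.result hG S (hall S) t ht c.ι.range c.ι.range hprod le_rfl
        (by rw [subgroupOf_self]; infer_instance) ⟨c.F, inferInstance, inferInstance, hodd, ⟨eE.symm⟩⟩ ?_
      rw [eq_bot_iff]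
      rintro _ ⟨⟨z, rfl⟩, hz⟩
      rw [mem_bot, hcz z fun y => (mem_centralizer_iff.mp hz (c.ι y) ⟨y, rfl⟩).symm, map_one]
    · rw [eq_bot_iff]
      rintro ⟨_, z, rfl⟩ hz
      refine mem_bot.mpr (Subtype.ext ?_)
      show c.ι z = 1
      rw [hcz z fun y => congrArg Subtype.val (mem_centralizer_iff.mp hz ⟨c.ι y, y, rfl⟩ trivial).symm, map_one]

end CfsgLib.CentralInt
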