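import Cfsg.Agent.S3183
import Cfsg.Agent.Lib.Local
import Cfsg.Agent.Lib.AfterFT.CoreSeparated
import Cfsg.Prelude.Def_TwoFusion

/-!
Groups in which two Sylow 2-subgroups meet inside the centre of each: fusion, and inheritance by subgroups and
quotients.

Blueprint: `blueprint/S3181.md`.
-/

set_option autoImplicit false
set_option linter.unusedSectionVars false
set_option linter.style.haveILetI false

namespace CfsgLib.CentralInt

open Cfsg Subgroup

universe u v

variable {G : Type u} [Group G]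

/-- `x` commutes with every element of `S`. -/
def Cen (S : Subgroup G) (x : G) : Prop := ∀ s ∈ S, s * x = x * s

/-- Two distinct Sylow 2-subgroups meet inside the centre of each. -/
def CI (G : Type u) [Group G] : Prop :=
  ∀ S T : Sylow 2 G, S ≠ T → ∀ x ∈ (S : Subgroup G), x ∈ (T : Subgroup G) → Cen (S : Subgroup G) x

theorem mem_smul {S : Sylow 2 G} {g y : G} :
    y ∈ ((g • S : Sylow 2 G) : Subgroup G) ↔ g⁻¹ * y * g ∈ (S : Subgroup G) := by
  constructor
  · rintro ⟨x, hx, rfl⟩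
    show g⁻¹ * (g * x * g⁻¹) * g ∈ (S : Subgroup G)
    rwa [show g⁻¹ * (g * x * g⁻¹) * g = x by group]
  · exact fun h => ⟨_, h, by simp [mul_assoc]⟩

theorem Cen.conj {S : Subgroup G} {g x : G} (hg : g ∈ normalizer (S : Set G)) (h : Cen S x) :
    Cen S (g * x * g⁻¹) := fun s hs => by
  have h1 : g⁻¹ * s * g ∈ S := (mem_normalizer_iff''.mp hg s).mp hs
  calc s * (g * x * g⁻¹) = g * (g⁻¹ * s * g * x) * g⁻¹ := by group
    _ = g * (x * (g⁻¹ * s * g)) * g⁻¹ := by rw [h _ h1]
    _ = g * x * g⁻¹ * s := by group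

theorem Cen.mul {S : Subgroup G} {x y : G} (hx : Cen S x) (hy : Cen S y) : Cen S (x * y) := fun s hs => by
  rw [← mul_assoc, hx s hs, mul_assoc, hy s hs, mul_assoc]

theorem Cen.one (S : Subgroup G) : Cen S 1 := fun s _ => by rw [mul_one, one_mul]

theorem Cen.inv {S : Subgroup G} {x : G} (hx : Cen S x) : Cen S x⁻¹ := fun s hs =>
  (Commute.inv_right (hx s hs : Commute s x)).eq

theorem exists_noncen {S : Subgroup G} (h : ¬ IsMulCommutative S) : ∃ x ∈ S, ¬ Cen S x := by
  by_contra hc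
  push Not at hc
  exact h ⟨⟨fun a b => Subtype.ext (hc b b.2 a a.2)⟩⟩

section

variable [Finite G]

/-- The hypothesis in the form of the statements. -/
theorem ci_of_hyp
    (hCI : ∀ S T : Sylow 2 G, S ≠ T → ∃ U : Sylow 2 G,
      (S : Subgroup G) ⊓ (T : Subgroup G) ≤ (Subgroup.center ↥(U : Subgroup G)).map (U : Subgroup G).subtype) :
    CI G := fun S T hne x hxS hxT =>
  (Cfsg.Agent.S3183.mem_centre_map.mp
    (((Cfsg.Agent.S3183.result hCI S).2 T hne.symm) ⟨hxS, hxT⟩).1).2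

theorem CI.hyp (h : CI G) :
    ∀ S T : Sylow 2 G, S ≠ T → ∃ U : Sylow 2 G,
      (S : Subgroup G) ⊓ (T : Subgroup G) ≤ (Subgroup.center ↥(U : Subgroup G)).map (U : Subgroup G).subtype :=
  fun S T hne => ⟨S, fun x hx => Cfsg.Agent.S3183.mem_centre_map.mpr ⟨hx.1, h S T hne x hx.1 hx.2⟩⟩

/-- A non-central element of `S` lies in no other Sylow subgroup. -/
theorem CI.unique (h : CI G) {S T : Sylow 2 G} {x : G} (hx : x ∈ (S : Subgroup G))
    (hnc : ¬ Cen (S : Subgroup G) x) (hxT : x ∈ (T : Subgroup G)) : T = S :=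
  by_contra fun hne => hnc (h S T (Ne.symm hne) x hx hxT)

/-- Fusion of a non-central element happens in the normaliser. -/
theorem CI.mem_normalizer (h : CI G) {S : Sylow 2 G} {x g : G} (hx : x ∈ (S : Subgroup G))
    (hnc : ¬ Cen (S : Subgroup G) x) (hg : g * x * g⁻¹ ∈ (S : Subgroup G)) :
    g ∈ normalizer ((S : Subgroup G) : Set G) := by
  refine Sylow.smul_eq_iff_mem_normalizer.mp (by_contra fun hne => hnc ?_)
  have hxT : g * x * g⁻¹ ∈ ((g • S : Sylow 2 G) : Subgroup G) := mem_smul.mpr (by simpa [mul_assoc] using hx)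
  have hc := h (g • S) S hne _ hxT hg
  intro s hs
  have h2 := hc (g * s * g⁻¹) (mem_smul.mpr (by simpa [mul_assoc] using hs))
  have h3 : g * (s * x) * g⁻¹ = g * (x * s) * g⁻¹ := by
    calc g * (s * x) * g⁻¹ = g * s * g⁻¹ * (g * x * g⁻¹) := by group
      _ = g * x * g⁻¹ * (g * s * g⁻¹) := h2
      _ = g * (x * s) * g⁻¹ := by group
  simpa using h3

theorem CI.normalizer_le (h : CI G) {S : Sylow 2 G} {P : Subgroup G} (hP : P ≤ (S : Subgroup G)) {x : G}
    (hx : x ∈ P) (hnc : ¬ Cen (S : Subgroup G) x) :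
    normalizer (P : Set G) ≤ normalizer ((S : Subgroup G) : Set G) := fun g hg =>
  h.mem_normalizer (hP hx) hnc (hP ((mem_normalizer_iff.mp hg x).mp hx))

theorem CI.cent_le (h : CI G) {S : Sylow 2 G} {x : G} (hx : x ∈ (S : Subgroup G))
    (hnc : ¬ Cen (S : Subgroup G) x) :
    centralizer ({x} : Set G) ≤ normalizer ((S : Subgroup G) : Set G) := fun c hc =>
  h.mem_normalizer hx hnc (by rwa [mem_centralizer_singleton_iff.mp hc, mul_inv_cancel_right])

/-- The centre of `S` is strongly closed. -/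
theorem CI.cen_conj (h : CI G) {S : Sylow 2 G} {z g : G} (hz : z ∈ (S : Subgroup G))
    (hc : Cen (S : Subgroup G) z) (hg : g * z * g⁻¹ ∈ (S : Subgroup G)) :
    Cen (S : Subgroup G) (g * z * g⁻¹) := by
  by_contra hn
  have h1 := h.mem_normalizer (g := g⁻¹) hg hn (by simpa [mul_assoc] using hz)
  exact hn (Cen.conj (by simpa using inv_mem h1) hc)

/-- Fusion in `S` is controlled by its normaliser. -/
theorem CI.fusion (h : CI G) {S : Sylow 2 G} {z g : G} (hz : z ∈ (S : Subgroup G))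
    (hg : g * z * g⁻¹ ∈ (S : Subgroup G)) :
    ∃ n ∈ normalizer ((S : Subgroup G) : Set G), n * z * n⁻¹ = g * z * g⁻¹ := by
  haveI : Fact (Nat.Prime 2) := ⟨Nat.prime_two⟩
  by_cases hc : Cen (S : Subgroup G) z
  · obtain ⟨n, hn, he⟩ := Sylow.conj_eq_normalizer_conj_of_mem_centralizer S z g⁻¹
      (mem_centralizer_iff.mpr hc) (by rw [inv_inv]; exact mem_centralizer_iff.mpr (h.cen_conj hz hc hg))
    rw [inv_inv] at he
    exact ⟨n⁻¹, inv_mem hn, by rw [he, inv_inv]⟩
  · exact ⟨g, h.mem_normalizer hz hc hg, rfl⟩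

/-- An invariant subgroup of the centre is strongly closed. -/
theorem CI.strongly_closed (h : CI G) {S : Sylow 2 G} {A : Subgroup G} (hA : A ≤ (S : Subgroup G))
    (hinv : ∀ n ∈ normalizer ((S : Subgroup G) : Set G), ∀ a ∈ A, n * a * n⁻¹ ∈ A) :
    IsStronglyClosed A (S : Subgroup G) := by
  refine ⟨hA, fun x hx g hg => ?_⟩
  obtain ⟨n, hn, he⟩ := h.fusion (hA hx) hg
  exact he ▸ hinv n hn x hx

theorem CI.subgroup (h : CI G) (H : Subgroup G) : CI ↥H := by
  intro P Q hne x hxP hxQ s hs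
  obtain ⟨S, hS⟩ := (P.2.map H.subtype).exists_le_sylow
  obtain ⟨T, hT⟩ := (Q.2.map H.subtype).exists_le_sylow
  have key : ∀ {R : Sylow 2 H}, (R : Subgroup H).map H.subtype ≤ (S : Subgroup G) →
      (R : Subgroup H) = (S : Subgroup G).subgroupOf H := fun {R} hR =>
    (R.3 (S.2.comap_of_injective H.subtype H.subtype_injective) (map_le_iff_le_comap.mp hR)).symm
  have hST : S ≠ T := by
    rintro rfl
    exact hne (Sylow.ext ((key hS).trans (key hT).symm))
  exact Subtype.ext (h S T hST x (hS (mem_map_of_mem H.subtype hxP)) (hT (mem_map_of_mem H.subtype hxQ)) s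
    (hS (mem_map_of_mem H.subtype hs)))

/-- Quotients by a normal 2-subgroup or a normal subgroup of odd order. -/
theorem CI.map (h : CI G) {Q : Type v} [Group Q] {f : G →* Q} (hf : Function.Surjective f)
    (hker : IsPGroup 2 f.ker ∨ Odd (Nat.card f.ker)) : CI Q := by
  haveI : Fact (Nat.Prime 2) := ⟨Nat.prime_two⟩
  intro P R hne y hyP hyR w hw
  obtain ⟨S, rfl⟩ := Sylow.mapSurjective_surjective hf 2 P
  obtain ⟨T, rfl⟩ := Sylow.mapSurjective_surjective hf 2 R
  obtain ⟨x, hx, rfl⟩ := hyP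
  obtain ⟨t, ht, hft⟩ := hyR
  obtain ⟨s, hs, rfl⟩ := hw
  suffices h' : ∃ T' : Sylow 2 G, S ≠ T' ∧ x ∈ (T' : Subgroup G) by
    obtain ⟨T', hne', hxT'⟩ := h'
    rw [← map_mul, ← map_mul, h S T' hne' x hx hxT' s hs]
  have hST : ∀ T' : Sylow 2 G, Sylow.mapSurjective hf T' = Sylow.mapSurjective hf T → S ≠ T' := fun T' he e =>
    hne (e ▸ he)
  rcases hker with h2 | hodd
  · refine ⟨T, hST T rfl, ?_⟩
    obtain ⟨T', hT'⟩ := h2.exists_le_sylow
    obtain ⟨g, rfl⟩ := MulAction.exists_smul_eq G T T'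
    have hle : f.ker ≤ (T : Subgroup G) := fun k hk => by
      have := mem_smul.mp (hT' ((inferInstance : f.ker.Normal).conj_mem k hk g))
      simpa [mul_assoc] using this
    have hk : t⁻¹ * x ∈ f.ker := by rw [MonoidHom.mem_ker, map_mul, map_inv, hft, inv_mul_cancel]
    simpa using mul_mem ht (hle hk)
  · set C := (Subgroup.zpowers (f x)).comap f with hC
    have hxC : Subgroup.zpowers x ≤ C := zpowers_le.mpr (mem_zpowers (f x))
    have htC : Subgroup.zpowers t ≤ C := zpowers_le.mpr (show f t ∈ zpowers (f x) by rw [hft]; exact mem_zpowers _)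
    obtain ⟨c, hc, P, hP, hPC, hxP, htP⟩ := CfsgLib.Local.exists_conj_isPGroup
      (CfsgLib.Local.isPGroup_of_le (zpowers_le.mpr hx) S.2) (CfsgLib.Local.isPGroup_of_le (zpowers_le.mpr ht) T.2)
      hxC htC
    have hinj : ∀ a ∈ P, ∀ b ∈ P, f a = f b → a = b := fun a ha b hb he => by
      have hk : a⁻¹ * b ∈ f.ker := by rw [MonoidHom.mem_ker, map_mul, map_inv, he, inv_mul_cancel]
      obtain ⟨j, hj⟩ := hP ⟨_, mul_mem (inv_mem ha) hb⟩
      have h1 : orderOf (a⁻¹ * b) ∣ 2 ^ j := orderOf_dvd_of_pow_eq_one (congrArg Subtype.val hj)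
      have h2 : orderOf (a⁻¹ * b) ∣ Nat.card f.ker := Subgroup.orderOf_dvd_natCard _ hk
      exact inv_mul_eq_one.mp (orderOf_eq_one_iff.mp
        (Nat.eq_one_of_dvd_coprimes ((Nat.coprime_two_left.mpr hodd).pow_left j) h1 h2))
    have hxm : x = c * t * c⁻¹ := by
      refine hinj x (hxP (mem_zpowers x)) _ (htP (mem_map_of_mem _ (mem_zpowers t))) ?_
      obtain ⟨i, hi⟩ : ∃ i : ℤ, f x ^ i = f c := hc
      rw [map_mul, map_mul, map_inv, hft, ← hi, (Commute.zpow_self (f x) i).eq, mul_inv_cancel_right]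
    refine ⟨c • T, hST _ ?_, mem_smul.mpr (by
      rw [hxm, show c⁻¹ * (c * t * c⁻¹) * c = t by group]; exact ht)⟩
    have hfx : f x ∈ (T : Subgroup G).map f := hft ▸ mem_map_of_mem f ht
    have hfcT : f c ∈ (T : Subgroup G).map f := zpowers_le.mpr hfx hc
    refine Sylow.ext ?_
    ext y
    simp only [Sylow.coe_mapSurjective]
    constructor
    · rintro ⟨a, ha, rfl⟩
      have h1 : f (c⁻¹ * a * c) ∈ (T : Subgroup G).map f := mem_map_of_mem f (mem_smul.mp ha)
      rw [map_mul, map_mul, map_inv] at h1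
      have h2 := mul_mem (mul_mem hfcT h1) (inv_mem hfcT)
      simpa [mul_assoc] using h2
    · intro hy
      obtain ⟨a, ha, he⟩ : (f c)⁻¹ * y * f c ∈ (T : Subgroup G).map f :=
        mul_mem (mul_mem (inv_mem hfcT) hy) hfcT
      refine ⟨c * a * c⁻¹, mem_smul.mpr (by rw [show c⁻¹ * (c * a * c⁻¹) * c = a by group]; exact ha), ?_⟩
      rw [map_mul, map_mul, map_inv, he]
      group

end

end CfsgLib.CentralInt
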