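import Cfsg.Agent.Lib.CentralInt.Shape
import Cfsg.Agent.Lib.PSU3Min.Borel
import Cfsg.Agent.S0283

/-!
`PSU₃(2ⁿ)`, `n ≥ 2`, has the shape.

Blueprint: `blueprint/S3181.md` (Shape).
-/

set_option autoImplicit false
set_option linter.unusedSectionVars false
set_option linter.style.haveILetI false

namespace CfsgLib.CentralInt

open Cfsg Subgroup CfsgLib.PSUBorel CfsgLib.PSU3Min
open scoped commutatorElement

universe u

variable {F : Type} [Field F] [Fintype F] [CharP F 2] (c : Conj F)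

/-- The two coordinates determine an element of the unipotent radical. -/
theorem UG_ext {u v : SUs c 3} (hu : u ∈ UG c) (hv : v ∈ UG c) (h1 : u.1.1 0 1 = v.1.1 0 1)
    (h2 : u.1.1 0 2 = v.1.1 0 2) : u = v := by
  obtain ⟨a10, a20, a21⟩ := (mem_BG_iff c).mp (UG_le c hu)
  obtain ⟨b10, b20, b21⟩ := (mem_BG_iff c).mp (UG_le c hv)
  refine SUs_ext c (Matrix.ext fun i j => ?_)
  fin_cases i <;> fin_cases j
  · exact (UU_diag c hu 0).trans (UU_diag c hv 0).symm
  · exact h1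
  · exact h2
  · exact a10.trans b10.symm
  · exact (UU_diag c hu 1).trans (UU_diag c hv 1).symm
  · exact (UG_rel c hu).1.trans ((congrArg (fun t => -c.σ t) h1).trans (UG_rel c hv).1.symm)
  · exact a20.trans b20.symm
  · exact a21.trans b21.symm
  · exact (UU_diag c hu 2).trans (UU_diag c hv 2).symm

theorem UG_mul01 {u v : SUs c 3} (hu : u ∈ UG c) (hv : v ∈ UG c) :
    (u * v).1.1 0 1 = u.1.1 0 1 + v.1.1 0 1 := by
  rw [mul01 c (UG_le c hv), UU_diag c hu, UU_diag c hv, one_mul, mul_one, add_comm]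

theorem UG_mul02 {u v : SUs c 3} (hu : u ∈ UG c) (hv : v ∈ UG c) :
    (u * v).1.1 0 2 = u.1.1 0 2 + v.1.1 0 2 + u.1.1 0 1 * c.σ (v.1.1 0 1) := by
  rw [mul02 c u v, UU_diag c hu, UU_diag c hv, (UG_rel c hv).1, CharTwo.neg_eq]
  ring

theorem UG_lift (a : F) : ∃ u ∈ UG c, u.1.1 0 1 = a := by
  obtain ⟨e, he⟩ := c.exists_trace_one
  have hb : e * (a * c.σ a) + c.σ (e * (a * c.σ a)) + a * c.σ a = 0 := by
    rw [map_mul, map_mul, c.invol, mul_comm (c.σ a) a, ← add_mul, he, one_mul, CharTwo.add_self_eq_zero]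
  refine ⟨r3 c a _ hb, mem_UU_of_diag c ((mem_BG_iff c).mpr ⟨?_, ?_, ?_⟩) fun i => ?_, ?_⟩
  · simp [r3, m3]
  · simp [r3, m3]
  · simp [r3, m3]
  · fin_cases i <;> simp [r3, m3]
  · simp [r3, m3]

theorem cen_UG {u : SUs c 3} (hu : u ∈ UG c) : (∀ v ∈ UG c, v * u = u * v) ↔ u.1.1 0 1 = 0 := by
  refine ⟨fun h => ?_, fun h v hv => UG_ext c (mul_mem hv hu) (mul_mem hu hv) ?_ ?_⟩
  · by_contra ha
    obtain ⟨t, ht⟩ := c.exists_moved
    have key : ∀ b : F, b * c.σ (u.1.1 0 1) = u.1.1 0 1 * c.σ b := fun b => by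
      obtain ⟨v, hv, rfl⟩ := UG_lift c b
      have e := congrArg (fun g : SUs c 3 => g.1.1 0 2) (h v hv)
      simp only [UG_mul02 c hv hu, UG_mul02 c hu hv] at e
      linear_combination e
    have h1 := key 1
    rw [one_mul, map_one, mul_one] at h1
    have h2 := key t
    rw [h1, mul_comm t] at h2
    exact ht (mul_left_cancel₀ ha h2).symm
  · rw [UG_mul01 c hv hu, UG_mul01 c hu hv, add_comm]
  · rw [UG_mul02 c hv hu, UG_mul02 c hu hv, h, map_zero, mul_zero, zero_mul]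
    ring

/-- Conjugation by a diagonal element. -/
theorem dg_conj (x : Fˣ) {u : SUs c 3} (hu : u ∈ UG c) :
    (dg c x * u * (dg c x)⁻¹).1.1 0 1 * (c.σ (x : F) / x) = (x : F) * u.1.1 0 1 ∧
    (dg c x * u * (dg c x)⁻¹).1.1 0 2 * (c.σ (x : F))⁻¹ = (x : F) * u.1.1 0 2 := by
  set u' := dg c x * u * (dg c x)⁻¹ with hu'
  have hu'U : u' ∈ UG c := conj_UG c (dg_mem c x) hu
  have e : u' * dg c x = dg c x * u := by rw [hu', inv_mul_cancel_right]
  have e1 := congrArg (fun g : SUs c 3 => g.1.1 0 1) e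
  have e2 := congrArg (fun g : SUs c 3 => g.1.1 0 2) e
  simp only [mul01 c (dg_mem c x), mul01 c (UG_le c hu), mul02] at e1 e2
  simp [dg, UU_diag c hu, UU_diag c hu'U] at e1 e2
  exact ⟨e1, e2⟩

/-- The multiplier of the first coordinate. -/
noncomputable def mu (x : Fˣ) : Fˣ := x ^ 2 * (Units.map c.σ.toMonoidHom x)⁻¹

theorem dg_conj01 (x : Fˣ) {u : SUs c 3} (hu : u ∈ UG c) :
    (dg c x * u * (dg c x)⁻¹).1.1 0 1 = (mu c x : F) * u.1.1 0 1 := by
  have h := (dg_conj c x hu).1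
  have hs : c.σ (x : F) ≠ 0 := (map_ne_zero c.σ).mpr x.ne_zero
  have := x.ne_zero
  simp [mu, Units.val_inv_eq_inv_val]
  field_simp at h ⊢
  linear_combination h

theorem dg_conj02 (x : Fˣ) {u : SUs c 3} (hu : u ∈ UG c) :
    (dg c x * u * (dg c x)⁻¹).1.1 0 2 = (x : F) * c.σ (x : F) * u.1.1 0 2 := by
  have h := (dg_conj c x hu).2
  have hs : c.σ (x : F) ≠ 0 := (map_ne_zero c.σ).mpr x.ne_zero
  field_simp at h
  linear_combination h

theorem mu_order {gen : Fˣ} (hgen : ∀ y, y ∈ zpowers gen) (hq : 4 ≤ c.q) :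
    c.q ^ 2 - 1 ∣ 3 * orderOf (mu c gen) := by
  set j := orderOf (mu c gen)
  have hj : mu c gen ^ j = 1 := pow_orderOf_eq_one _
  have hsg : Units.map c.σ.toMonoidHom gen = gen ^ c.q := Units.ext (by simp [c.hσ])
  have hg : orderOf gen = c.q ^ 2 - 1 := by
    rw [orderOf_eq_card_of_forall_mem_zpowers hgen, card_units]
  have h1 : gen ^ ((c.q - 2) * j) = 1 := by
    have : mu c gen * gen ^ (c.q - 2) = 1 := by
      rw [mu, hsg, mul_right_comm, ← pow_add, show 2 + (c.q - 2) = c.q by omega, mul_inv_cancel]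
    have h' := congrArg (· ^ j) this
    simp only [mul_pow, hj, one_mul, one_pow, ← pow_mul] at h'
    exact h'
  have h2 : c.q ^ 2 - 1 ∣ (c.q - 2) * j := hg ▸ orderOf_dvd_of_pow_eq_one h1
  have h3 : Nat.gcd (c.q ^ 2 - 1) (c.q - 2) ∣ 3 := by
    obtain ⟨t, ht⟩ : ∃ t, c.q = t + 2 := ⟨c.q - 2, by omega⟩
    have e : c.q ^ 2 - 1 = (t + 4) * t + 3 := by
      rw [ht, show (t + 2) ^ 2 = (t + 4) * t + 3 + 1 by ring]; rfl
    rw [e, ht, Nat.add_sub_cancel, Nat.gcd_comm, Nat.add_comm, Nat.gcd_add_mul_right_right]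
    exact Nat.gcd_dvd_right _ _
  have h5 : c.q ^ 2 - 1 ∣ Nat.gcd ((c.q ^ 2 - 1) * j) ((c.q - 2) * j) := Nat.dvd_gcd (dvd_mul_right _ _) h2
  rw [Nat.gcd_mul_right] at h5
  exact h5.trans (Nat.mul_dvd_mul_right h3 j)

/-- A non-zero additive subgroup stable under the multiplier is everything. -/
theorem full_of_stable {gen : Fˣ} (hgen : ∀ y, y ∈ zpowers gen) (hq : 4 ≤ c.q) (A : AddSubgroup F)
    (hA : ∀ a ∈ A, (mu c gen : F) * a ∈ A) {a0 : F} (ha0 : a0 ∈ A) (h0 : a0 ≠ 0) : ∀ x : F, x ∈ A := by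
  classical
  let R : AddSubgroup F :=
    { carrier := {r | ∀ a ∈ A, r * a ∈ A}
      zero_mem' := fun a _ => by rw [zero_mul]; exact zero_mem A
      add_mem' := fun {r s} hr hs a ha => by rw [add_mul]; exact add_mem (hr a ha) (hs a ha)
      neg_mem' := fun {r} hr a ha => by rw [neg_mul]; exact neg_mem (hr a ha) }
  let M : Subgroup Fˣ :=
    { carrier := {u | (u : F) ∈ R}
      one_mem' := fun a ha => by rw [Units.val_one, one_mul]; exact ha
      mul_mem' := fun {u v} hu hv a ha => by rw [Units.val_mul, mul_assoc]; exact hu _ (hv a ha)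
      inv_mem' := fun {u} hu => by
        have hpow : ∀ i : ℕ, ((u ^ i : Fˣ) : F) ∈ R := by
          intro i
          induction i with
          | zero => exact fun a ha => by rw [pow_zero, Units.val_one, one_mul]; exact ha
          | succ i ih => exact fun a ha => by rw [pow_succ, Units.val_mul, mul_assoc]; exact ih _ (hu a ha)
        have h : u⁻¹ = u ^ (Nat.card Fˣ - 1) := by
          refine inv_eq_of_mul_eq_one_left ?_
          rw [← pow_succ, Nat.sub_add_cancel Nat.card_pos]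
          exact pow_card_eq_one'
        show ((u⁻¹ : Fˣ) : F) ∈ R
        rw [h]; exact hpow _ }
  have hcard : Nat.card M + 1 = Nat.card R := by
    haveI := Fintype.ofFinite R
    haveI := Fintype.ofFinite M
    rw [Nat.card_eq_fintype_card, Nat.card_eq_fintype_card]
    have e : Fintype.card M = Fintype.card {r : R // r ≠ 0} := Fintype.card_congr
      { toFun := fun u => ⟨⟨((u : Fˣ) : F), u.2⟩, fun h => (u : Fˣ).ne_zero (congrArg Subtype.val h)⟩
        invFun := fun r => ⟨Units.mk0 (r.1 : F) (fun h => r.2 (Subtype.ext h)), r.1.2⟩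
        left_inv := fun u => Subtype.ext (Units.ext rfl)
        right_inv := fun r => rfl }
    rw [e, Fintype.card_subtype_compl, Fintype.card_subtype_eq]
    have : 1 ≤ Fintype.card R := Fintype.card_pos
    omega
  have hd : Nat.card R ∣ c.q ^ 2 := by
    have := AddSubgroup.card_addSubgroup_dvd_card R
    rwa [Nat.card_eq_fintype_card (α := F), c.card] at this
  have hm : c.q ^ 2 - 1 ∣ 3 * (Nat.card R - 1) := by
    refine (mu_order c hgen hq).trans (Nat.mul_dvd_mul_left 3 ?_)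
    rw [← hcard, Nat.add_sub_cancel]
    exact Subgroup.orderOf_dvd_natCard M (show mu c gen ∈ M from hA)
  have hR : Nat.card R = c.q ^ 2 := by
    obtain ⟨k, hk⟩ := hd
    have hpos : 1 < Nat.card R := by
      have : 0 < Nat.card M := Nat.card_pos
      omega
    rcases Nat.lt_or_ge k 2 with hk2 | hk2
    · interval_cases k
      · rw [mul_zero] at hk
        have := pow_eq_zero_iff (a := c.q) two_ne_zero |>.mp hk
        omega
      · rw [mul_one] at hk; exact hk.symm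
    exfalso
    have hle := Nat.le_of_dvd (by omega) hm
    have h2 : 2 * Nat.card R ≤ c.q ^ 2 := by rw [hk, mul_comm 2]; exact Nat.mul_le_mul_left _ hk2
    obtain ⟨l, hl⟩ := hm
    have hq2 : 16 ≤ c.q ^ 2 := by nlinarith
    have hl1 : l < 2 := by
      by_contra hc
      have : 2 * (c.q ^ 2 - 1) ≤ (c.q ^ 2 - 1) * l := by
        rw [mul_comm 2]; exact Nat.mul_le_mul_left _ (by omega)
      omega
    interval_cases l
    · omega
    rw [mul_one] at hl
    have h3 : 3 * Nat.card R = c.q ^ 2 + 2 := by omega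
    rcases Nat.lt_or_ge k 3 with h | h
    · obtain rfl : k = 2 := by omega
      omega
    · have : 3 * Nat.card R ≤ c.q ^ 2 := by rw [hk, mul_comm 3]; exact Nat.mul_le_mul_left _ h
      omega
  intro x
  have hRtop : R = ⊤ := AddSubgroup.eq_top_of_card_eq _ (by rw [hR, Nat.card_eq_fintype_card, c.card])
  have hx := (hRtop ▸ AddSubgroup.mem_top (x / a0) : x / a0 ∈ R) a0 ha0
  rwa [div_mul_cancel₀ _ h0] at hx

/-- A bijection of two-power order on an even finite set with a fixed point has another one. -/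
theorem exists_other_fixed {α : Type*} [Finite α] (f : α → α) {j : ℕ} (hf : f^[2 ^ j] = id) {x0 : α}
    (hx0 : f x0 = x0) (heven : 2 ∣ Nat.card α) : ∃ x, x ≠ x0 ∧ f x = x := by
  classical
  haveI := Fintype.ofFinite α
  by_contra hne
  push Not at hne
  haveI : Fact (Nat.Prime 2) := ⟨Nat.prime_two⟩
  have h := Equiv.Perm.card_fixedPoints_modEq (f := (f : Function.End α)) (p := 2) (n := j) hf
  have hfix : Fintype.card ↑(Function.fixedPoints f) = 1 :=
    Fintype.card_eq_one_iff.mpr ⟨⟨x0, hx0⟩, fun y => Subtype.ext (by_contra fun hy => hne y hy y.2)⟩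
  rw [Nat.card_eq_fintype_card] at heven
  have h' : Fintype.card α % 2 = 1 := by
    have := h.trans (by rw [hfix])
    simpa [Nat.ModEq] using this
  omega

set_option maxHeartbeats 4000000 in
theorem psu_hasShape {n : ℕ} (hn : 2 ≤ n) (hF : Fintype.card F = (2 ^ n) ^ 2) :
    HasShape (Cfsg.PSU 3 F (2 ^ n)) := by
  classical
  haveI : Fact (Nat.Prime 2) := ⟨Nat.prime_two⟩
  obtain ⟨-, σ₀, hσ₀⟩ := CfsgLib.UnitaryBasic.frob_exists hF
  let c : Conj F := ⟨2 ^ n, σ₀, hF, hσ₀⟩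
  have hq : 4 ≤ c.q := (show (4 : ℕ) = 2 ^ 2 from rfl) ▸ Nat.pow_le_pow_right (by norm_num) hn
  have hq4 : c.q ≠ 2 := by omega
  haveI : IsSimpleGroup (Cfsg.PSU 3 F (2 ^ n)) := Cfsg.Agent.S0283.result hF 3 le_rfl fun h => hq4 h.2
  obtain ⟨E⟩ := exists_iso c (n := 3)
  let φ : SUs c 3 →* Cfsg.PSU 3 F (2 ^ n) :=
    (QuotientGroup.mk' (Subgroup.center (Cfsg.SU 3 F (2 ^ n)))).comp E.toMonoidHom
  have hker : ∀ z, φ z = 1 → z ∈ center (SUs c 3) := fun z hz => mem_center_iff.mpr fun x => E.injective (by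
    rw [map_mul, map_mul]
    exact mem_center_iff.mp ((QuotientGroup.eq_one_iff (E z)).mp hz) (E x))
  have hsurj : Function.Surjective φ := (QuotientGroup.mk'_surjective _).comp E.surjective
  have hc : Cover c 2 φ := by
    refine ⟨hsurj, fun z hz => hker z hz, Nat.gcd 3 (2 ^ n + 1),
      Nat.Coprime.coprime_dvd_left (Nat.gcd_dvd_left _ _) (by norm_num), fun z hz => ?_⟩
    apply E.injective
    rw [map_pow, map_one, ← Cfsg.Agent.S0280.center_card hF 3 (by norm_num)]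
    exact congrArg Subtype.val (pow_card_eq_one' (x := (⟨E z, (QuotientGroup.eq_one_iff (E z)).mp hz⟩ :
      Subgroup.center (Cfsg.SU 3 F (2 ^ n)))))
  obtain ⟨T, hT⟩ := exists_sylow c 2 hc
  have hinj : ∀ {u v : SUs c 3}, u ∈ UG c → v ∈ UG c → φ u = φ v → u = v := fun {u v} hu hv he => by
    obtain ⟨j, hj⟩ := exists_ppow c 2 hu
    exact eq_of_map c 2 hc hv hj he
  set B := (BG c).map φ with hB
  have hTmem : ∀ {x}, x ∈ (T : Subgroup (Cfsg.PSU 3 F (2 ^ n))) ↔ ∃ u ∈ UG c, φ u = x := fun {x} => by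
    rw [hT]; exact mem_map
  have hTB : (T : Subgroup (Cfsg.PSU 3 F (2 ^ n))) ≤ B := hT ▸ map_mono (UG_le c)
  have hcom : B.comap φ = BG c :=
    comap_map_eq_self (fun z hz => center_le_BG c (hker z hz))
  have hBT : ∀ b ∈ B, ∀ x ∈ (T : Subgroup (Cfsg.PSU 3 F (2 ^ n))), b * x * b⁻¹ ∈ (T : Subgroup (Cfsg.PSU 3 F (2 ^ n))) := by
    rintro _ ⟨b, hb, rfl⟩ x hx
    obtain ⟨u, hu, rfl⟩ := hTmem.mp hx
    exact hTmem.mpr ⟨b * u * b⁻¹, conj_UG c hb hu, by simp⟩
  have hcen : ∀ {u}, u ∈ UG c → (Cen (T : Subgroup (Cfsg.PSU 3 F (2 ^ n))) (φ u) ↔ u.1.1 0 1 = 0) := by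
    intro u hu
    rw [← cen_UG c hu]
    refine ⟨fun h v hv => hinj (mul_mem hv hu) (mul_mem hu hv) ?_, fun h x hx => ?_⟩
    · rw [map_mul, map_mul]; exact h _ (hTmem.mpr ⟨v, hv, rfl⟩)
    · obtain ⟨v, hv, rfl⟩ := hTmem.mp hx
      rw [← map_mul, ← map_mul, h v hv]
  have hfix : ∀ {u}, u ∈ UG c → u.1.1 0 1 = 0 → c.σ (u.1.1 0 2) = u.1.1 0 2 := by
    intro u hu h
    have e := (UG_rel c hu).2
    rw [h, zero_mul, add_zero] at e
    exact (CharTwo.add_eq_zero.mp e).symm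
  obtain ⟨gen, hgen⟩ := IsCyclic.exists_generator (α := Fˣ)
  set d := dg c gen with hd
  set k := φ d with hk
  have hkB : k ∈ B := mem_map_of_mem φ (dg_mem c gen)
  have hdpow : ∀ i : ℕ, d ^ i ∈ BG c ∧ (d ^ i).1.1 0 0 = ((gen ^ i : Fˣ) : F) := fun i => by
    refine ⟨pow_mem (dg_mem c gen) i, ?_⟩
    induction i with
    | zero => simp [PSUBorel.coe_one]
    | succ i ih =>
      rw [pow_succ, mul00 c (dg_mem c gen), ih, pow_succ, Units.val_mul]
      simp [hd, dg]
  have hlift : ∀ b ∈ BG c, ∃ i : ℕ, ∃ u ∈ UG c, b = d ^ i * u := fun b hb => by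
    obtain ⟨i, hi⟩ := (mem_powers_iff_mem_zpowers (x := gen)).mpr (hgen (corner c ⟨b, hb⟩))
    refine ⟨i, (d ^ i)⁻¹ * b, mem_UG_of_corner c (mul_mem (inv_mem (hdpow i).1) hb) ?_, (mul_inv_cancel_left _ _).symm⟩
    have h1 : corner c (⟨d ^ i, (hdpow i).1⟩⁻¹ * ⟨b, hb⟩) = 1 := by
      rw [map_mul, map_inv, show corner c ⟨d ^ i, (hdpow i).1⟩ = gen ^ i from Units.ext (hdpow i).2]
      exact inv_mul_eq_one.mpr hi
    exact congrArg Units.val h1
  have hdc : ∀ (i : ℕ) {u}, u ∈ UG c → d ^ i * u * (d ^ i)⁻¹ ∈ UG c ∧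
      (d ^ i * u * (d ^ i)⁻¹).1.1 0 1 = (mu c gen : F) ^ i * u.1.1 0 1 ∧
      (d ^ i * u * (d ^ i)⁻¹).1.1 0 2 = ((gen : F) * c.σ (gen : F)) ^ i * u.1.1 0 2 := by
    intro i
    induction i with
    | zero => intro u hu; simp [hu]
    | succ i ih =>
      intro u hu
      obtain ⟨h0, h1, h2⟩ := ih hu
      rw [show d ^ (i + 1) * u * (d ^ (i + 1))⁻¹ = d * (d ^ i * u * (d ^ i)⁻¹) * d⁻¹ by rw [pow_succ']; group]
      exact ⟨conj_UG c (dg_mem c gen) h0, by rw [hd, dg_conj01 c gen h0, h1, pow_succ']; ring,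
        by rw [hd, dg_conj02 c gen h0, h2, pow_succ']; ring⟩
  refine hasShape_of T (k := k) ⟨mem_normalizer_fintype fun x hx => hBT k hkB x hx, ?_, ?_, fun x hx => ?_,
    fun x hx y hy => ?_, fun z hz hzc => ?_, ?_, fun z hz hzc hz1 w hw hwc hw1 => ?_, fun σ hσ hσT hσk => ?_⟩
  · have h1 : d ^ (c.q ^ 2 - 1) = 1 := by
      have hx : gen ^ (c.q ^ 2 - 1) = 1 := by rw [← card_units c]; exact pow_card_eq_one'
      have hdiag : ∀ i : ℕ, d ^ i = dg c (gen ^ i) := by
        intro i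
        induction i with
        | zero =>
          refine SUs_ext c (Matrix.ext fun a b => ?_)
          fin_cases a <;> fin_cases b <;> simp [dg, PSUBorel.coe_one]
        | succ i ih =>
          rw [pow_succ, ih, hd]
          refine SUs_ext c ?_
          rw [PSUBorel.coe_mul]
          simp only [dg, Matrix.diagonal_mul_diagonal]
          congr 1
          ext a
          fin_cases a <;> simp [pow_succ, mul_inv] <;> ring
      rw [hdiag, hx]
      refine SUs_ext c (Matrix.ext fun a b => ?_)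
      fin_cases a <;> fin_cases b <;> simp [dg, PSUBorel.coe_one]
    refine Odd.of_dvd_nat ?_ (orderOf_dvd_of_pow_eq_one (x := k) (n := c.q ^ 2 - 1) (by rw [hk, ← map_pow, h1, map_one]))
    refine Nat.not_even_iff_odd.mp fun he => ?_
    exact not_dvd_sq_sub_one c 2 (even_iff_two_dvd.mp he)
  · obtain ⟨u, hu, hu1⟩ := UG_lift c 1
    by_contra hne
    push Not at hne
    have hc' : Cen (T : Subgroup (Cfsg.PSU 3 F (2 ^ n))) (φ u) := fun s hs => hne s hs _ (hTmem.mpr ⟨u, hu, rfl⟩)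
    exact one_ne_zero (hu1.symm.trans ((hcen hu).mp hc'))
  · obtain ⟨u, hu, rfl⟩ := hTmem.mp hx
    rw [← map_mul, hcen (mul_mem hu hu), UG_mul01 c hu hu, CharTwo.add_self_eq_zero]
  · obtain ⟨u, hu, rfl⟩ := hTmem.mp hx
    obtain ⟨v, hv, rfl⟩ := hTmem.mp hy
    have hcm : ⁅u, v⁆ ∈ UG c := by
      rw [commutatorElement_def]
      exact mul_mem (mul_mem (mul_mem hu hv) (inv_mem hu)) (inv_mem hv)
    rw [← map_commutatorElement, hcen hcm]
    have e := congrArg (fun g : SUs c 3 => g.1.1 0 1)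
      (show ⁅u, v⁆ * (v * u) = u * v by rw [commutatorElement_def]; group)
    simp only [UG_mul01 c hcm (mul_mem hv hu), UG_mul01 c hv hu, UG_mul01 c hu hv] at e
    linear_combination e
  · obtain ⟨u, hu, rfl⟩ := hTmem.mp hz
    have h0 := (hcen hu).mp hzc
    rw [← map_mul, ← map_one φ]
    refine congrArg φ (UG_ext c (mul_mem hu hu) (one_mem _) ?_ ?_)
    · rw [UG_mul01 c hu hu, h0, add_zero, PSUBorel.coe_one]; rfl
    · rw [UG_mul02 c hu hu, h0, zero_mul, add_zero, CharTwo.add_self_eq_zero, PSUBorel.coe_one]; rfl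
  · obtain ⟨t, ht⟩ := c.exists_moved
    have hex : ∀ b : F, c.σ b = b → ∃ u ∈ UG c, u.1.1 0 1 = 0 ∧ u.1.1 0 2 = b := fun b hb => by
      refine ⟨r3 c 0 b (by rw [map_zero, mul_zero, add_zero, hb, CharTwo.add_self_eq_zero]),
        mem_UU_of_diag c ((mem_BG_iff c).mpr ⟨by simp [r3, m3], by simp [r3, m3], by simp [r3, m3]⟩)
          (fun i => by fin_cases i <;> simp [r3, m3]), by simp [r3, m3], by simp [r3, m3]⟩
    obtain ⟨u, hu, hu1, hu2⟩ := hex 1 (map_one _)
    obtain ⟨b, hbfix, hb0, hb1⟩ : ∃ b : F, c.σ b = b ∧ b ≠ 0 ∧ b ≠ 1 := by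
      by_contra hne
      push Not at hne
      have hnz : ∀ x : F, x ≠ 0 → x * c.σ x = 1 := fun x hx => hne _ (by rw [map_mul, c.invol, mul_comm])
        (mul_ne_zero hx ((map_ne_zero c.σ).mpr hx))
      have hg : gen ^ (c.q + 1) = 1 := Units.ext (by
        rw [Units.val_pow_eq_pow_val, pow_succ', ← c.hσ, hnz _ gen.ne_zero, Units.val_one])
      have h' := Nat.le_of_dvd (by omega) (orderOf_dvd_of_pow_eq_one hg)
      rw [orderOf_eq_card_of_forall_mem_zpowers hgen, card_units c] at h'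
      have : c.q * 4 ≤ c.q ^ 2 := by rw [pow_two]; exact Nat.mul_le_mul_left _ hq
      omega
    obtain ⟨v, hv, hv1, hv2⟩ := hex b hbfix
    refine ⟨φ u, φ v, hTmem.mpr ⟨u, hu, rfl⟩, (hcen hu).mpr hu1, hTmem.mpr ⟨v, hv, rfl⟩, (hcen hv).mpr hv1,
      fun h => ?_, fun h => ?_, fun h => ?_⟩
    · have := hinj hu (one_mem _) (h.trans (map_one φ).symm)
      exact one_ne_zero (hu2.symm.trans (by rw [this, PSUBorel.coe_one]; rfl))
    · have := hinj hv (one_mem _) (h.trans (map_one φ).symm)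
      exact hb0 (hv2.symm.trans (by rw [this, PSUBorel.coe_one]; rfl))
    · exact hb1 (hv2.symm.trans ((hinj hu hv h) ▸ hu2))
  · obtain ⟨u, hu, rfl⟩ := hTmem.mp hz
    obtain ⟨v, hv, rfl⟩ := hTmem.mp hw
    have hu0 := (hcen hu).mp hzc
    have hv0 := (hcen hv).mp hwc
    have hub : u.1.1 0 2 ≠ 0 := fun h => hz1 (by
      rw [show u = 1 from UG_ext c hu (one_mem _) (by rw [hu0, PSUBorel.coe_one]; rfl) (by rw [h, PSUBorel.coe_one]; rfl), map_one])
    have hvb : v.1.1 0 2 ≠ 0 := fun h => hw1 (by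
      rw [show v = 1 from UG_ext c hv (one_mem _) (by rw [hv0, PSUBorel.coe_one]; rfl) (by rw [h, PSUBorel.coe_one]; rfl), map_one])
    obtain ⟨x, hx⟩ := c.exists_norm (d := v.1.1 0 2 / u.1.1 0 2)
      (by rw [map_div₀, hfix hu hu0, hfix hv hv0])
    have hx0 : x ≠ 0 := fun h => by
      rw [h, zero_mul] at hx
      exact div_ne_zero hvb hub hx.symm
    obtain ⟨i, hi⟩ := (mem_powers_iff_mem_zpowers (x := gen)).mpr (hgen (Units.mk0 x hx0))
    refine ⟨i, ?_⟩
    obtain ⟨h0, h1, h2⟩ := hdc i hu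
    rw [hk, ← map_pow, ← map_inv, ← map_mul, ← map_mul]
    refine congrArg φ (UG_ext c h0 hv (by rw [h1, hu0, mul_zero, hv0]) ?_)
    have hgx : (gen : F) ^ i = x := by simpa using congrArg Units.val hi
    rw [h2, mul_pow, ← map_pow, hgx, hx, div_mul_cancel₀ _ hub]
  -- rigidity
  obtain ⟨j, hj⟩ := hσ
  refine ⟨1, ?_⟩
  rw [map_one]
  symm
  have hbij : ∀ x ∈ (T : Subgroup (Cfsg.PSU 3 F (2 ^ n))), ∃ y ∈ (T : Subgroup (Cfsg.PSU 3 F (2 ^ n))), σ y = x := by
    intro x hx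
    obtain ⟨⟨y, hy⟩, hyx⟩ := (Finite.injective_iff_surjective
      (f := fun t : (T : Subgroup (Cfsg.PSU 3 F (2 ^ n))) => (⟨σ t, hσT t t.2⟩ : (T : Subgroup (Cfsg.PSU 3 F (2 ^ n))))
      )).mp (fun a b h => Subtype.ext (σ.injective (congrArg Subtype.val h))) ⟨x, hx⟩
    exact ⟨y, hy, congrArg Subtype.val hyx⟩
  have hσc : ∀ x ∈ (T : Subgroup (Cfsg.PSU 3 F (2 ^ n))),
      Cen (T : Subgroup (Cfsg.PSU 3 F (2 ^ n))) x → Cen (T : Subgroup (Cfsg.PSU 3 F (2 ^ n))) (σ x) := by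
    intro x _ hxc s hs
    obtain ⟨y, hy, rfl⟩ := hbij s hs
    rw [← map_mul, ← map_mul, hxc y hy]
  have hσd : ∀ i : ℕ, σ (k ^ i) = k ^ i := fun i => by rw [map_pow, hσk]
  -- the image in coordinates
  have hL : ∀ a : F, ∃ u ∈ UG c, u.1.1 0 1 = a := UG_lift c
  choose L hLU hLa using hL
  have hS : ∀ u : SUs c 3, ∃ v : SUs c 3, u ∈ UG c → v ∈ UG c ∧ φ v = σ (φ u) := fun u => by
    by_cases hu : u ∈ UG c
    · obtain ⟨v, hv, he⟩ := hTmem.mp (hσT _ (hTmem.mpr ⟨u, hu, rfl⟩))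
      exact ⟨v, fun _ => ⟨hv, he⟩⟩
    · exact ⟨1, fun h => absurd h hu⟩
  choose S hS using hS
  have hSm : ∀ {u v}, u ∈ UG c → v ∈ UG c → S (u * v) = S u * S v := fun {u v} hu hv =>
    hinj (hS _ (mul_mem hu hv)).1 (mul_mem (hS _ hu).1 (hS _ hv).1)
      (by rw [(hS _ (mul_mem hu hv)).2, map_mul, map_mul, map_mul, (hS _ hu).2, (hS _ hv).2])
  have hSz : ∀ {u}, u ∈ UG c → u.1.1 0 1 = 0 → (S u).1.1 0 1 = 0 := fun {u} hu h0 => by
    rw [← hcen (hS u hu).1, (hS u hu).2]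
    exact hσc _ (hTmem.mpr ⟨u, hu, rfl⟩) ((hcen hu).mpr h0)
  have hSd : ∀ (i : ℕ) {u}, u ∈ UG c → S (d ^ i * u * (d ^ i)⁻¹) = d ^ i * S u * (d ^ i)⁻¹ := fun i {u} hu =>
    hinj (hS _ (hdc i hu).1).1 (hdc i (hS u hu).1).1 (by
      rw [(hS _ (hdc i hu).1).2, map_mul, map_mul, map_inv, map_mul, map_mul, map_inv, map_pow, ← hk, hσd,
        ← (hS u hu).2, map_mul, map_mul, map_inv, map_pow])
  have hSiter : ∀ (i : ℕ) {u}, u ∈ UG c → S^[i] u ∈ UG c ∧ φ (S^[i] u) = (σ ^ i) (φ u) := by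
    intro i
    induction i with
    | zero => intro u hu; exact ⟨hu, rfl⟩
    | succ i ih =>
      intro u hu
      obtain ⟨h1, h2⟩ := ih hu
      rw [Function.iterate_succ_apply']
      exact ⟨(hS _ h1).1, by rw [(hS _ h1).2, h2, pow_succ', MulAut.mul_apply]⟩
  have hSid : ∀ {u}, u ∈ UG c → S^[2 ^ j] u = u := fun {u} hu =>
    hinj (hSiter _ hu).1 hu (by rw [(hSiter _ hu).2, hj, MulAut.one_apply])
  -- the centre is fixed
  let Z0 := {u : SUs c 3 // u ∈ UG c ∧ u.1.1 0 1 = 0}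
  let fz : Z0 → Z0 := fun u => ⟨S u.1, (hS u.1 u.2.1).1, hSz u.2.1 u.2.2⟩
  have hfz : ∀ (i : ℕ) (u : Z0), (fz^[i] u).1 = S^[i] u.1 := by
    intro i
    induction i with
    | zero => intro u; rfl
    | succ i ih =>
      intro u
      rw [Function.iterate_succ_apply', Function.iterate_succ_apply']
      exact congrArg S (ih u)
  have hS1 : S 1 = 1 := by
    have := hSm (one_mem (UG c)) (one_mem (UG c))
    rw [one_mul] at this
    exact left_eq_mul.mp this
  obtain ⟨t0, ht0⟩ := c.exists_moved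
  have hz0 : ∃ u : SUs c 3, u ∈ UG c ∧ u.1.1 0 1 = 0 ∧ u ≠ 1 := by
    refine ⟨r3 c 0 1 (by rw [map_zero, mul_zero, add_zero, map_one, CharTwo.add_self_eq_zero]),
      mem_UU_of_diag c ((mem_BG_iff c).mpr ⟨by simp [r3, m3], by simp [r3, m3], by simp [r3, m3]⟩)
        (fun i => by fin_cases i <;> simp [r3, m3]), by simp [r3, m3], fun h => one_ne_zero (α := F) ?_⟩
    simpa [r3, m3, PSUBorel.coe_one] using congrArg (fun g : SUs c 3 => g.1.1 0 2) h
  have heven : 2 ∣ Nat.card Z0 := by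
    obtain ⟨u, hu, hu0, hu1⟩ := hz0
    let H : Subgroup (SUs c 3) :=
      { carrier := {u | u ∈ UG c ∧ u.1.1 0 1 = 0}
        one_mem' := ⟨one_mem _, by rw [PSUBorel.coe_one]; rfl⟩
        mul_mem' := fun {a b} ha hb => ⟨mul_mem ha.1 hb.1, by rw [UG_mul01 c ha.1 hb.1, ha.2, hb.2, add_zero]⟩
        inv_mem' := fun {a} ha => by
          refine ⟨inv_mem ha.1, ?_⟩
          have := UG_mul01 c (inv_mem ha.1) ha.1
          rw [inv_mul_cancel, ha.2, add_zero, PSUBorel.coe_one] at this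
          exact this.symm }
    have h2 : u * u = 1 := UG_ext c (mul_mem hu hu) (one_mem _)
      (by rw [UG_mul01 c hu hu, hu0, add_zero, PSUBorel.coe_one]; rfl)
      (by rw [UG_mul02 c hu hu, hu0, zero_mul, add_zero, CharTwo.add_self_eq_zero, PSUBorel.coe_one]; rfl)
    show 2 ∣ Nat.card H
    rw [← orderOf_eq_prime (p := 2) (by rw [pow_two]; exact h2) hu1]
    exact Subgroup.orderOf_dvd_natCard H ⟨hu, hu0⟩
  obtain ⟨z0, hz01, hz0f⟩ := exists_other_fixed fz (j := j)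
    (funext fun u => Subtype.ext ((hfz _ u).trans (hSid u.2.1))) (x0 := ⟨1, one_mem _, by rw [PSUBorel.coe_one]; rfl⟩)
    (Subtype.ext hS1) heven
  have hz0S : S z0.1 = z0.1 := congrArg Subtype.val hz0f
  have hz0b : z0.1.1.1 0 2 ≠ 0 := fun h => hz01 (Subtype.ext (UG_ext c z0.2.1 (one_mem _)
    (by rw [z0.2.2, PSUBorel.coe_one]; rfl) (by rw [h, PSUBorel.coe_one]; rfl)))
  have hZfix : ∀ {u}, u ∈ UG c → u.1.1 0 1 = 0 → S u = u := by
    intro u hu hu0
    by_cases hub : u.1.1 0 2 = 0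
    · rw [show u = 1 from UG_ext c hu (one_mem _) (by rw [hu0, PSUBorel.coe_one]; rfl) (by rw [hub, PSUBorel.coe_one]; rfl), hS1]
    obtain ⟨x, hx⟩ := c.exists_norm (d := u.1.1 0 2 / z0.1.1.1 0 2)
      (by rw [map_div₀, hfix hu hu0, hfix z0.2.1 z0.2.2])
    have hx0 : x ≠ 0 := fun h => by
      rw [h, zero_mul] at hx
      exact div_ne_zero hub hz0b hx.symm
    obtain ⟨i, hi⟩ := (mem_powers_iff_mem_zpowers (x := gen)).mpr (hgen (Units.mk0 x hx0))
    obtain ⟨h0, h1, h2⟩ := hdc i z0.2.1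
    have hgx : (gen : F) ^ i = x := by simpa using congrArg Units.val hi
    have e : d ^ i * z0.1 * (d ^ i)⁻¹ = u := UG_ext c h0 hu (by rw [h1, z0.2.2, mul_zero, hu0])
      (by rw [h2, mul_pow, ← map_pow, hgx, hx, div_mul_cancel₀ _ hz0b])
    rw [← e, hSd i z0.2.1, hz0S]
  -- the first coordinate is fixed
  let g : F → F := fun a => (S (L a)).1.1 0 1
  have hg : ∀ {u}, u ∈ UG c → (S u).1.1 0 1 = g (u.1.1 0 1) := by
    intro u hu
    set a := u.1.1 0 1
    have hz : (L a)⁻¹ * u ∈ UG c := mul_mem (inv_mem (hLU a)) hu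
    have h01 : ((L a)⁻¹ * u).1.1 0 1 = 0 := by
      have := UG_mul01 c (hLU a) hz
      rw [mul_inv_cancel_left, hLa] at this
      exact left_eq_add.mp this
    conv_lhs => rw [← mul_inv_cancel_left (L a) u]
    rw [hSm (hLU a) hz, UG_mul01 c (hS _ (hLU a)).1 (hS _ hz).1, hSz hz h01, add_zero]
  have hgadd : ∀ a b, g (a + b) = g a + g b := fun a b => by
    have := hg (mul_mem (hLU a) (hLU b))
    rw [hSm (hLU a) (hLU b), UG_mul01 c (hS _ (hLU a)).1 (hS _ (hLU b)).1, UG_mul01 c (hLU a) (hLU b), hLa,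
      hLa] at this
    exact this.symm
  have hgmu : ∀ a, g ((mu c gen : F) * a) = (mu c gen : F) * g a := fun a => by
    obtain ⟨h0, h1, -⟩ := hdc 1 (hLU a)
    have := hg h0
    rw [hSd 1 (hLU a), (hdc 1 (hS _ (hLU a)).1).2.1, h1, hLa, pow_one] at this
    exact this.symm
  have hg0 : g 0 = 0 := by simpa using hgadd 0 0
  let A : AddSubgroup F :=
    { carrier := {a | g a = a}
      zero_mem' := hg0
      add_mem' := fun {a b} ha hb => by show g (a + b) = a + b; rw [hgadd, show g a = a from ha, show g b = b from hb]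
      neg_mem' := fun {a} ha => by show g (-a) = -a; rw [CharTwo.neg_eq]; exact ha }
  have hgit : ∀ (i : ℕ) (a : F), g^[i] a = (S^[i] (L a)).1.1 0 1 := by
    intro i
    induction i with
    | zero => intro a; exact (hLa a).symm
    | succ i ih =>
      intro a
      rw [Function.iterate_succ_apply', Function.iterate_succ_apply', ih, ← hg (hSiter i (hLU a)).1]
  have hFev : 2 ∣ Nat.card F := by
    rw [Nat.card_eq_fintype_card, c.card]
    exact (dvd_pow_self 2 (by omega : n ≠ 0)).trans (dvd_pow_self _ two_ne_zero)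
  obtain ⟨a0, ha0, ha0f⟩ := exists_other_fixed g (j := j)
    (funext fun a => by rw [hgit, hSid (hLU a), hLa]; rfl) hg0 hFev
  have hgid : ∀ a, g a = a := full_of_stable c hgen hq A
    (fun a ha => by show g _ = _; rw [hgmu, show g a = a from ha]) ha0f ha0
  -- the second coordinate is fixed
  let h : F → F := fun a => (S (L a)).1.1 0 2 + (L a).1.1 0 2
  have hd2 : ∀ {u}, u ∈ UG c → (S u).1.1 0 2 + u.1.1 0 2 = h (u.1.1 0 1) := by
    intro u hu
    set a := u.1.1 0 1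
    have hz : (L a)⁻¹ * u ∈ UG c := mul_mem (inv_mem (hLU a)) hu
    have h01 : ((L a)⁻¹ * u).1.1 0 1 = 0 := by
      have := UG_mul01 c (hLU a) hz
      rw [mul_inv_cancel_left, hLa] at this
      exact left_eq_add.mp this
    have e1 : S u = S (L a) * ((L a)⁻¹ * u) := by
      conv_lhs => rw [← mul_inv_cancel_left (L a) u, hSm (hLU a) hz, hZfix hz h01]
    have e2 := UG_mul02 c (hS _ (hLU a)).1 hz
    have e3 := UG_mul02 c (hLU a) hz
    rw [mul_inv_cancel_left] at e3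
    rw [← e1] at e2
    rw [h01, map_zero, mul_zero, add_zero] at e2 e3
    rw [e2, e3]
    linear_combination CharTwo.add_self_eq_zero (((L a)⁻¹ * u).1.1 0 2)
  have hhadd : ∀ a b, h (a + b) = h a + h b := fun a b => by
    have e := hd2 (mul_mem (hLU a) (hLU b))
    rw [hSm (hLU a) (hLU b), UG_mul02 c (hS _ (hLU a)).1 (hS _ (hLU b)).1, UG_mul02 c (hLU a) (hLU b),
      UG_mul01 c (hLU a) (hLU b), hg (hLU a), hg (hLU b), hgid, hgid, hLa, hLa] at e
    rw [← e]
    show _ = (S (L a)).1.1 0 2 + (L a).1.1 0 2 + ((S (L b)).1.1 0 2 + (L b).1.1 0 2)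
    linear_combination CharTwo.add_self_eq_zero (a * c.σ b)
  have hhfix : ∀ a, c.σ (h a) = h a := fun a => by
    have e1 := (UG_rel c (hS _ (hLU a)).1).2
    have e2 := (UG_rel c (hLU a)).2
    rw [hg (hLU a), hgid, hLa] at e1
    rw [hLa] at e2
    show c.σ (_ + _) = _ + _
    rw [map_add]
    linear_combination e1 + e2 - (CharTwo.add_self_eq_zero (a * c.σ a)) -
      CharTwo.add_self_eq_zero ((S (L a)).1.1 0 2) - CharTwo.add_self_eq_zero ((L a).1.1 0 2)
  have hhmu : ∀ a, h ((mu c gen : F) * a) = ((gen : F) * c.σ (gen : F)) * h a := fun a => by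
    obtain ⟨h0, h1, h2⟩ := hdc 1 (hLU a)
    have e := hd2 h0
    rw [hSd 1 (hLU a), (hdc 1 (hS _ (hLU a)).1).2.2, h2, h1, hLa, pow_one, pow_one] at e
    rw [← e]; ring
  let A' : AddSubgroup F :=
    { carrier := {a | h a = 0}
      zero_mem' := by simpa using hhadd 0 0
      add_mem' := fun {a b} ha hb => by show h (a + b) = 0; rw [hhadd, show h a = 0 from ha, show h b = 0 from hb, add_zero]
      neg_mem' := fun {a} ha => by show h (-a) = 0; rw [CharTwo.neg_eq]; exact ha }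
  obtain ⟨a1, ha1, ha1h⟩ : ∃ a, a ≠ 0 ∧ h a = 0 := by
    by_contra hne
    push Not at hne
    have hinj' : Function.Injective h := fun a b e => by
      by_contra hab
      refine hne (a + b) (fun h0 => hab (CharTwo.add_eq_zero.mp h0)) ?_
      rw [hhadd, e, CharTwo.add_self_eq_zero]
    obtain ⟨a, ha⟩ := (Finite.injective_iff_surjective.mp hinj') t0
    exact ht0 (ha ▸ hhfix a)
  have hh0 : ∀ a, h a = 0 := full_of_stable c hgen hq A'
    (fun a ha => by show h _ = 0; rw [hhmu, show h a = 0 from ha, mul_zero]) ha1h ha1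
  have hSfix : ∀ {u}, u ∈ UG c → S u = u := fun {u} hu =>
    UG_ext c (hS u hu).1 hu (by rw [hg hu, hgid]) (CharTwo.add_eq_zero.mp (by rw [hd2 hu, hh0]))
  -- the doubly transitive action
  let w : SUs c 3 := ⟨⟨!![0, 0, 1; 0, 1, 0; 1, 0, 0], by simp [Matrix.det_fin_three, CharTwo.neg_eq]⟩, by
    show Cond c !![0, 0, 1; 0, 1, 0; 1, 0, 0]
    ext i j
    rw [Matrix.mul_apply]
    simp only [mul_aJ]
    fin_cases i <;> fin_cases j <;> simp [aJ, Fin.sum_univ_three, Fin.rev]⟩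
  have hw : φ w ∉ B := fun h => by
    have : w ∈ BG c := hcom ▸ h
    have h20 := ((mem_BG_iff c).mp this).2.1
    simp [w] at h20
  refine rigid (B := B) (T := (T : Subgroup (Cfsg.PSU 3 F (2 ^ n)))) (k := k) (w := φ w) ?_ hTB hkB hw ?_ ?_ ?_ ?_
  · rintro _ ⟨b, hb, rfl⟩
    obtain ⟨i, u, hu, rfl⟩ := hlift b hb
    rw [map_mul, map_pow, ← hk, map_mul, hσd, ← (hS u hu).2, hSfix hu]
  · have hwd : w⁻¹ * d * w ∈ BG c := by
      have hw2 : w⁻¹ = w := inv_eq_of_mul_eq_one_right (SUs_ext c (Matrix.ext fun i j => by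
        rw [PSUBorel.coe_mul, PSUBorel.coe_one]
        fin_cases i <;> fin_cases j <;> simp [w, Matrix.mul_apply, Fin.sum_univ_three]))
      rw [hw2, mem_BG_iff]
      refine ⟨?_, ?_, ?_⟩ <;> rw [PSUBorel.coe_mul, PSUBorel.coe_mul] <;>
        simp [w, hd, dg, Matrix.mul_apply, Fin.sum_univ_three, Matrix.diagonal, Matrix.vecHead, Matrix.vecTail]
    rw [hk, ← map_inv, ← map_mul, ← map_mul]
    exact mem_map_of_mem φ hwd
  · -- transitivity
    have hTcard : Nat.card (T : Subgroup (Cfsg.PSU 3 F (2 ^ n))) = c.q ^ 3 := by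
      rw [← card_UG c 2]
      refine (Nat.card_eq_of_bijective (fun u : UG c => (⟨φ u, hTmem.mpr ⟨u, u.2, rfl⟩⟩ : (T : Subgroup _)))
        ⟨fun a b h => Subtype.ext (hinj a.2 b.2 (congrArg Subtype.val h)), fun x => ?_⟩).symm
      obtain ⟨u, hu, he⟩ := hTmem.mp x.2
      exact ⟨⟨u, hu⟩, Subtype.ext he⟩
    let f : Option (T : Subgroup (Cfsg.PSU 3 F (2 ^ n))) → Cfsg.PSU 3 F (2 ^ n) ⧸ B := fun o =>
      o.elim (QuotientGroup.mk (1 : Cfsg.PSU 3 F (2 ^ n))) fun u => QuotientGroup.mk ((u : Cfsg.PSU 3 F (2 ^ n)) * φ w)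
    have hfi : Function.Injective f := by
      rintro (_ | a) (_ | b) e
      · rfl
      · exfalso
        refine hw ?_
        have := QuotientGroup.eq.mp e
        rw [inv_one, one_mul] at this
        simpa using mul_mem (inv_mem (hTB b.2)) this
      · exfalso
        refine hw ?_
        have := QuotientGroup.eq.mp e.symm
        rw [inv_one, one_mul] at this
        simpa using mul_mem (inv_mem (hTB a.2)) this
      · have e' := QuotientGroup.eq.mp e
        refine congrArg some (Subtype.ext (by_contra fun hab => hw ?_))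
        obtain ⟨u, hu, hue⟩ := hTmem.mp (mul_mem (inv_mem a.2) b.2)
        have hu1 : u ≠ 1 := fun h1 => hab (inv_mul_eq_one.mp (by rw [← hue, h1, map_one]))
        have h5 : φ (w⁻¹ * u * w) ∈ B := by
          rw [map_mul, map_mul, map_inv, hue]
          simpa [mul_assoc] using e'
        have h6 : w⁻¹ * u * w ∈ BG c := by rw [← hcom]; exact h5
        obtain ⟨i, hi⟩ := exists_ppow c 2 hu
        have h7 : w⁻¹ * u * w ∈ UG c := mem_UG_of_ppow c 2 h6 (k := i) (by
          rw [show w⁻¹ * u * w = w⁻¹ * u * w⁻¹⁻¹ by rw [inv_inv], conj_pow, hi, mul_one, mul_inv_cancel])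
        exact mem_map_of_mem φ (ti c hu hu1 h7)
    have hidx : B.index = c.q ^ 3 + 1 := by
      rw [← index_BG c 2, ← hcom, index_comap_of_surjective _ hsurj]
    have hfb : Function.Bijective f := hfi.bijective_of_nat_card_le (by
      rw [Finite.card_option, hTcard, ← hidx]; rfl)
    intro g hg
    obtain ⟨o, ho⟩ := hfb.2 (QuotientGroup.mk g)
    rcases o with _ | u
    · exfalso
      have := QuotientGroup.eq.mp ho
      rw [inv_one, one_mul] at this
      exact hg this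
    · exact ⟨u, u.2, QuotientGroup.eq.mp ho⟩
  · -- uniqueness
    intro x hx hx2
    obtain ⟨u, hu, rfl⟩ := hTmem.mp hx
    by_contra hne
    have hu1 : u ≠ 1 := fun h1 => hne (by rw [h1, map_one])
    obtain ⟨h0, hc1, hc2⟩ := hdc 1 hu
    simp only [pow_one] at h0 hc1 hc2
    set v := u⁻¹ * (d * u * d⁻¹)
    have hvU : v ∈ UG c := mul_mem (inv_mem hu) h0
    have hwd : φ (w⁻¹ * v * w) ∈ B := by
      have hkw : (φ w)⁻¹ * k * φ w ∈ B := by
        have hw2 : w⁻¹ = w := inv_eq_of_mul_eq_one_right (SUs_ext c (Matrix.ext fun i j => by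
          rw [PSUBorel.coe_mul, PSUBorel.coe_one]
          fin_cases i <;> fin_cases j <;> simp [w, Matrix.mul_apply, Fin.sum_univ_three]))
        rw [hk, ← map_inv, ← map_mul, ← map_mul]
        refine mem_map_of_mem φ ?_
        rw [hw2, mem_BG_iff]
        refine ⟨?_, ?_, ?_⟩ <;> rw [PSUBorel.coe_mul, PSUBorel.coe_mul] <;>
          simp [w, hd, dg, Matrix.mul_apply, Fin.sum_univ_three, Matrix.diagonal, Matrix.vecHead, Matrix.vecTail]
      have := mul_mem hx2 (inv_mem hkw)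
      rw [show φ (w⁻¹ * v * w) = (φ u * φ w)⁻¹ * k * (φ u * φ w) * ((φ w)⁻¹ * k * φ w)⁻¹ by
        simp only [v, hk, map_mul, map_inv]; group]
      exact this
    by_cases hv1 : v = 1
    · refine hu1 ?_
      have e : d * u * d⁻¹ = u := (inv_mul_eq_one.mp hv1).symm
      rw [e] at hc1 hc2
      have ha : u.1.1 0 1 = 0 := by
        by_contra ha
        have hm1 : mu c gen = 1 := Units.ext (mul_right_cancel₀ ha (by rw [Units.val_one, one_mul]; exact hc1.symm))
        have h3 := mu_order c hgen hq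
        rw [hm1, orderOf_one] at h3
        have := Nat.le_of_dvd (by norm_num) h3
        have : c.q * 4 ≤ c.q ^ 2 := by rw [pow_two]; exact Nat.mul_le_mul_left _ hq
        omega
      refine UG_ext c hu (one_mem _) (by rw [ha, PSUBorel.coe_one]; rfl) ?_
      rw [PSUBorel.coe_one]
      show _ = (0 : F)
      by_contra hb
      have hg1 : gen ^ (c.q + 1) = 1 := Units.ext (by
        rw [Units.val_pow_eq_pow_val, pow_succ', ← c.hσ, Units.val_one]
        exact mul_right_cancel₀ hb (by rw [one_mul]; exact hc2.symm))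
      have h' := Nat.le_of_dvd (by omega) (orderOf_dvd_of_pow_eq_one hg1)
      rw [orderOf_eq_card_of_forall_mem_zpowers hgen, card_units c] at h'
      have : c.q * 4 ≤ c.q ^ 2 := by rw [pow_two]; exact Nat.mul_le_mul_left _ hq
      omega
    · have h6 : w⁻¹ * v * w ∈ BG c := by rw [← hcom]; exact hwd
      obtain ⟨i, hi⟩ := exists_ppow c 2 hvU
      have h7 : w⁻¹ * v * w ∈ UG c := mem_UG_of_ppow c 2 h6 (k := i) (by
        rw [show w⁻¹ * v * w = w⁻¹ * v * w⁻¹⁻¹ by rw [inv_inv], conj_pow, hi, mul_one, mul_inv_cancel])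
      exact hw (mem_map_of_mem φ (ti c hvU hv1 h7))
  · -- trivial core
    intro e he
    have hne : B.normalCore ≠ ⊤ := fun h => hw (B.normalCore_le (h ▸ mem_top _))
    have h0 : B.normalCore = ⊥ :=
      ((normalCore_normal B).eq_bot_or_eq_top).resolve_right hne
    rw [← mem_bot, ← h0]
    intro g
    simpa using he g⁻¹

end CfsgLib.CentralInt
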