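import Cfsg.Agent.Lib.CentralInt.Shape
import Cfsg.Agent.Lib.S3Simple.Models
import Cfsg.Agent.Lib.Suzuki.Lie
import Cfsg.Agent.Lib.Suzuki.Sylow

/-!
The Suzuki groups have the shape.

Blueprint: `blueprint/S3181.md` (Shape).
-/

set_option autoImplicit false
set_option linter.unusedSectionVars false
set_option linter.style.haveILetI false

namespace CfsgLib.CentralInt

open Cfsg Subgroup CfsgLib.Suzuki
open scoped commutatorElement

universe u

variable {F : Type} [Field F] [Fintype F] {m : ℕ} (hF : Fintype.card F = 2 ^ (2 * m + 1)) (hm : 1 ≤ m)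
include hF hm

theorem cen_U {a b : F} : Cen (U hF) (uS hF a b) ↔ a = 0 := by
  refine ⟨fun h => mem_center_U hF hm fun c d => (h _ ⟨c, d, rfl⟩).symm, ?_⟩
  rintro rfl _ ⟨c, d, rfl⟩
  rw [uS_mul, uS_mul, th_zero]
  ring_nf

theorem sz_hasShape : HasShape ↥(Cfsg.Sz F m) := by
  haveI : Fact (Nat.Prime 2) := ⟨Nat.prime_two⟩
  have h2 := two_eq_zero hF
  obtain ⟨k, hk⟩ := CfsgLib.S3Simple.SzModel.exists_twoLocal hF hm
  refine hasShape_of (Usyl hF hm) (k := k) ?_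
  rw [coe_Usyl hF hm]
  have hsq : ∀ z ∈ U hF, Cen (U hF) z → z * z = 1 := by
    rintro _ ⟨a, b, rfl⟩ hc
    rw [(cen_U hF hm).mp hc, uS_sq, mul_zero, uS_zero]
  refine ⟨mem_normalizer_iff.mpr fun x => (hk.norm x).symm, hk.odd, ?_, ?_, ?_, hsq, ?_,
    fun z hz hzc hz1 w hw hwc hw1 => hk.trans z hz (hsq z hz hzc) hz1 w hw (hsq w hw hwc) hw1, ?_⟩
  · by_contra hc
    push Not at hc
    exact one_ne_zero ((cen_U hF hm (a := (1 : F)) (b := 0)).mp fun s hs => hc s hs _ ⟨1, 0, rfl⟩)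
  · rintro _ ⟨a, b, rfl⟩
    rw [uS_sq]
    exact (cen_U hF hm).mpr rfl
  · rintro _ ⟨a, b, rfl⟩ _ ⟨c, d, rfl⟩
    rw [commutatorElement_def, uS_commutator hF a b c d]
    exact (cen_U hF hm).mpr rfl
  · obtain ⟨r, hr0, hr1⟩ := exists_not_zero_one hF hm
    refine ⟨uS hF 0 1, uS hF 0 r, ⟨0, 1, rfl⟩, (cen_U hF hm).mpr rfl, ⟨0, r, rfl⟩, (cen_U hF hm).mpr rfl,
      fun h => ?_, fun h => ?_, fun h => hr1 (uS_inj hF h).2.symm⟩
    · rw [← uS_zero hF] at h; exact one_ne_zero (uS_inj hF h).2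
    · rw [← uS_zero hF] at h; exact hr0 (uS_inj hF h).2
  · rintro σ ⟨j, hj⟩ - -
    obtain ⟨i, -, hi⟩ := (Nat.dvd_prime_pow Nat.prime_two).mp (orderOf_dvd_of_pow_eq_one hj)
    exact CfsgLib.S3Simple.SzModel.inner_of_two hF hm σ hi

omit hF hm in
theorem suzuki_hasShape {X : Type u} [Group X] [Finite X] (hs : Lie.IsoSuzuki X) : HasShape X := by
  obtain ⟨F, i1, i2, m, hm, hc, ⟨e0⟩⟩ := hs
  let e := e0.trans (lieEquiv hc hm).symm
  haveI : Finite ↥(Cfsg.Sz F m) := Finite.of_equiv X e.toEquiv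
  exact (sz_hasShape hc hm).congr e.symm

omit hF hm in
theorem card_cen {X : Type u} [Group X] (T : Subgroup X) :
    Nat.card {z : X // z ∈ T ∧ Cen T z} = Nat.card (center T) :=
  Nat.card_congr
    { toFun := fun z => ⟨⟨z.1, z.2.1⟩, mem_center_iff.mpr fun s => Subtype.ext (z.2.2 s s.2)⟩
      invFun := fun z => ⟨z.1.1, z.1.2, fun s hs => congrArg Subtype.val (mem_center_iff.mp z.2 ⟨s, hs⟩)⟩
      left_inv := fun _ => rfl
      right_inv := fun _ => rfl }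

omit hF hm in
/-- A Sylow 2-subgroup of `Sz(8)` has order 64 and eight central elements. -/
theorem suzuki_eight_sylow {X : Type u} [Group X] [Finite X] {F : Type} [Field F] [Fintype F]
    (hF : Fintype.card F = 8) (e0 : X ≃* ↥(Lie.Sz F 4)) (T : Sylow 2 X) :
    Nat.card (T : Subgroup X) = 64 ∧ Nat.card {z : X // z ∈ (T : Subgroup X) ∧ Cen (T : Subgroup X) z} = 8 := by
  haveI : Fact (Nat.Prime 2) := ⟨Nat.prime_two⟩
  have hc : Fintype.card F = 2 ^ (2 * 1 + 1) := by rw [hF]; norm_num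
  let e : X ≃* ↥(Cfsg.Sz F 1) := e0.trans (lieEquiv hc le_rfl).symm
  haveI : Finite ↥(Cfsg.Sz F 1) := Finite.of_equiv X e.toEquiv
  obtain ⟨hcard, -, -, hZ⟩ := sylow_structure hc le_rfl (T.mapSurjective (f := e.toMonoidHom) e.surjective)
  let ψ : (T : Subgroup X) ≃* ↥((T.mapSurjective (f := e.toMonoidHom) e.surjective : Sylow 2 ↥(Cfsg.Sz F 1)) :
      Subgroup ↥(Cfsg.Sz F 1)) := e.subgroupMap (T : Subgroup X)
  refine ⟨?_, ?_⟩
  · rw [Nat.card_congr ψ.toEquiv]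
    exact hcard.trans (by norm_num)
  · rw [card_cen, Nat.card_congr (Subgroup.centerCongr ψ).toEquiv]
    exact hZ.trans (by norm_num)

end CfsgLib.CentralInt
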