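import Cfsg.Agent.Lib.CentralInt.Cover
import Cfsg.Agent.Lib.CentralInt.ShapeSz
import Cfsg.Agent.Lib.CentralInt.ShapePSU
import Cfsg.Agent.Lib.S3Simple.Component
import Cfsg.Agent.Lib.PSolvable
import Cfsg.Agent.Lib.Fusion.ConstrainedGroups
import Cfsg.Agent.S4593
import Cfsg.Agent.S0205

/-!
A group with trivial core, non-abelian and non-normal Sylow 2-subgroups meeting only in their centres.

Blueprint: `blueprint/S3181.md` (Core).
-/

set_option autoImplicit false
set_option linter.unusedSectionVars false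
set_option linter.style.haveILetI false

namespace CfsgLib.CentralInt

open Cfsg Subgroup
open scoped commutatorElement

universe u

/-- A Suzuki group or a three-dimensional unitary group in characteristic two. -/
def SzPSU (X : Type u) [Group X] : Prop :=
  Lie.IsoSuzuki X ∨ ∃ (F : Type) (_ : Field F) (_ : Fintype F) (n : ℕ),
    2 ≤ n ∧ Fintype.card F = (2 ^ n) ^ 2 ∧ Nonempty (X ≃* Cfsg.PSU 3 F (2 ^ n))

theorem SzPSU.hasShape {X : Type u} [Group X] [Finite X] (h : SzPSU X) : HasShape X := by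
  rcases h with hs | ⟨F, i1, i2, n, hn, hF, ⟨e⟩⟩
  · exact suzuki_hasShape hs
  · haveI : CharP F 2 := CfsgLib.Bender.charP_two_of_card (n := n * 2) (by rw [hF, ← pow_mul]) (by omega)
    haveI : Finite (Cfsg.PSU 3 F (2 ^ n)) := Finite.of_equiv X e.toEquiv
    exact (psu_hasShape hn hF).congr e.symm

theorem SzPSU.not_comm {X : Type u} [Group X] [Finite X] (h : SzPSU X) (T : Sylow 2 X) :
    ¬ IsMulCommutative (T : Subgroup X) := fun hc => by
  obtain ⟨k, hk⟩ := h.hasShape T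
  obtain ⟨x, hx, y, hy, hxy⟩ := hk.nonab
  exact hxy (congrArg Subtype.val (hc.1.comm ⟨x, hx⟩ ⟨y, hy⟩))

variable {H : Type u} [Group H] [Finite H]

/-- The structure of the group: `R = O₂(H)` is central in `S`, `K` is the only component and `S = (S ∩ K) R`. -/
structure Struct (S : Sylow 2 H) (K : Subgroup H) : Prop where
  comp : IsComponent K
  normal : K.Normal
  central : ∀ r ∈ pCore 2 H, Cen (S : Subgroup H) r
  zc : (center ↥K).map K.subtype ≤ pCore 2 H
  decomp : ∀ s ∈ (S : Subgroup H), ∃ t ∈ (S : Subgroup H) ⊓ K, ∃ r ∈ pCore 2 H, t * r = s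
  alt : SzPSU (↥K ⧸ center ↥K) ∨
    (Nat.card (center ↥K) = 2 ∧
      (∀ x ∈ (S : Subgroup H) ⊓ K, ∀ y ∈ (S : Subgroup H) ⊓ K, ⁅x, y⁆ ∈ (center ↥K).map K.subtype) ∧
      ∃ (F : Type) (_ : Field F) (_ : Fintype F), Fintype.card F = 4 ∧
        Nonempty (↥K ⧸ center ↥K ≃* Matrix.ProjectiveSpecialLinearGroup (Fin 2) F))

variable {K : Subgroup H}

theorem quot_not_comm (hK : IsComponent K) : ¬ IsMulCommutative (↥K ⧸ center ↥K) :=
  CfsgLib.S3Simple.component_not_comm hK

theorem quot_center (hK : IsComponent K) : center (↥K ⧸ center ↥K) = ⊥ := by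
  haveI := hK.2.2
  refine ((center _).normal_of_characteristic.eq_bot_or_eq_top).resolve_right fun h => quot_not_comm hK ?_
  exact ⟨⟨fun a b => mem_center_iff.mp (h ▸ mem_top b) a⟩⟩

theorem quot_core (hK : IsComponent K) : pPrimeCore 2 (↥K ⧸ center ↥K) = ⊥ := by
  haveI := hK.2.2
  have hn : (pPrimeCore 2 (↥K ⧸ center ↥K)).Normal :=
    (CfsgLib.sSup_prop_of_closed_sup (fun A : Subgroup (↥K ⧸ center ↥K) => A.Normal ∧ (Nat.card A).Coprime 2)
      ⟨inferInstance, by simp⟩ (fun A B => CfsgLib.pPrimeCore_mem_sup 2) (fun A hA => hA)).1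
  refine hn.eq_bot_or_eq_top.resolve_right fun h => quot_not_comm hK ?_
  have hodd : Odd (Nat.card (↥K ⧸ center ↥K)) := by
    have := CfsgLib.card_pPrimeCore_coprime (G := ↥K ⧸ center ↥K) 2
    rw [h, card_top] at this
    exact Nat.coprime_two_right.mp this
  haveI : Group.IsSolvable (↥K ⧸ center ↥K) := Cfsg.Agent.S0205.result hodd
  exact ⟨⟨IsSimpleGroup.comm_iff_isSolvable.mpr inferInstance⟩⟩

/-- The Sylow subgroup of a component. -/
theorem exists_sylow_inf (S : Sylow 2 H) (hK : IsComponent K) :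
    ∃ P : Sylow 2 ↥K, ∀ x : ↥K, x ∈ (P : Subgroup ↥K) ↔ (x : H) ∈ (S : Subgroup H) := by
  haveI : Fact (Nat.Prime 2) := ⟨Nat.prime_two⟩
  obtain ⟨-, -, hidx⟩ := Cfsg.FusionSystem.isSylowIn_inf_of_isSubnormal S hK.1
  rw [inf_relIndex_right] at hidx
  exact ⟨(S.2.comap_of_injective K.subtype K.subtype_injective).toSylow hidx, fun x => Iff.rfl⟩

theorem not_central (S : Sylow 2 H) (hK : IsComponent K) :
    ∃ x : ↥K, (x : H) ∈ (S : Subgroup H) ∧ x ∉ center ↥K := by
  haveI : Fact (Nat.Prime 2) := ⟨Nat.prime_two⟩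
  obtain ⟨P, hP⟩ := exists_sylow_inf S hK
  by_contra h
  push Not at h
  have hle : (P : Subgroup ↥K) ≤ center ↥K := fun x hx => h x ((hP x).mp hx)
  have hodd : Odd (Nat.card (↥K ⧸ center ↥K)) := by
    refine Nat.not_even_iff_odd.mp fun he => P.not_dvd_index ((even_iff_two_dvd.mp he).trans ?_)
    rw [← index_eq_card]
    exact index_dvd_of_le hle
  haveI := hK.2.2
  haveI : Group.IsSolvable (↥K ⧸ center ↥K) := Cfsg.Agent.S0205.result hodd
  exact quot_not_comm hK ⟨⟨IsSimpleGroup.comm_iff_isSolvable.mpr inferInstance⟩⟩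

/-- The two-power order of the automorphism induced by an element of `S`. -/
theorem actQ_pow {S : Sylow 2 H} {s : H} (hs : s ∈ (S : Subgroup H)) (hn : s ∈ normalizer (K : Set H)) :
    ∃ j : ℕ, (CfsgLib.S3Simple.actQ K ⟨s, hn⟩) ^ (2 ^ j) = 1 := by
  obtain ⟨j, hj⟩ := S.2 ⟨s, hs⟩
  refine ⟨j, ?_⟩
  rw [← map_pow, show (⟨s, hn⟩ : normalizer (K : Set H)) ^ 2 ^ j = 1 from Subtype.ext (by simpa using congrArg Subtype.val hj),
    map_one]

/-- An element of `S` inducing an inner automorphism differs from an element of `S ∩ K` by one centralising `K`. -/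
theorem split_inner (S : Sylow 2 H) (hK : IsComponent K) {P : Sylow 2 ↥K}
    (hP : ∀ x : ↥K, x ∈ (P : Subgroup ↥K) ↔ (x : H) ∈ (S : Subgroup H)) {s : H} (hs : s ∈ (S : Subgroup H))
    (hn : s ∈ normalizer (K : Set H))
    (hin : CfsgLib.S3Simple.actQ K ⟨s, hn⟩ ∈ (MulAut.conj (G := ↥K ⧸ center ↥K)).range) :
    ∃ t ∈ (S : Subgroup H) ⊓ K, t⁻¹ * s ∈ centralizer (K : Set H) := by
  haveI : Fact (Nat.Prime 2) := ⟨Nat.prime_two⟩
  obtain ⟨g, hg⟩ := hin
  set q := QuotientGroup.mk' (center ↥K)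
  set P' := P.mapSurjective (f := q) (QuotientGroup.mk'_surjective _)
  obtain ⟨j, hj⟩ := actQ_pow hs hn
  have hg2 : g ^ 2 ^ j = 1 := by
    have h1 : MulAut.conj (g ^ 2 ^ j) = 1 := by rw [map_pow, hg, hj]
    rw [← mem_bot, ← quot_center hK, mem_center_iff]
    intro y
    have h2 := DFunLike.congr_fun h1 y
    rw [MulAut.conj_apply, MulAut.one_apply, mul_inv_eq_iff_eq_mul] at h2
    exact h2.symm
  have hgN : g ∈ normalizer ((P' : Subgroup (↥K ⧸ center ↥K)) : Set (↥K ⧸ center ↥K)) := by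
    refine mem_normalizer_fintype ?_
    intro y hy
    obtain ⟨x, hx, rfl⟩ := hy
    rw [← MulAut.conj_apply, hg, CfsgLib.S3Simple.actQ_apply]
    refine ⟨_, ?_, rfl⟩
    show _ ∈ (P : Subgroup ↥K)
    rw [hP]
    exact mul_mem (mul_mem hs ((hP x).mp hx)) ((S : Subgroup H).inv_mem hs)
  have hg2' : IsPGroup 2 (zpowers g) := by
    obtain ⟨i, -, hi⟩ := (Nat.dvd_prime_pow Nat.prime_two).mp (orderOf_dvd_of_pow_eq_one hg2)
    exact IsPGroup.of_card (n := i) (by rw [Nat.card_zpowers, hi])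
  have hgP : g ∈ (P' : Subgroup (↥K ⧸ center ↥K)) :=
    (P'.3 (hg2'.to_sup_of_normal_right' P'.2 (zpowers_le.mpr hgN)) le_sup_right).le
      (mem_sup_left (mem_zpowers g))
  obtain ⟨t, ht, htg⟩ := hgP
  refine ⟨t, ⟨(hP t).mp ht, t.2⟩, ?_⟩
  have hnt : (t : H)⁻¹ * s ∈ normalizer (K : Set H) := mul_mem (inv_mem (Subgroup.le_normalizer t.2)) hn
  refine CfsgLib.S3Simple.centralizes_of_actQ hK hnt ?_
  have e : (⟨(t : H)⁻¹ * s, hnt⟩ : normalizer (K : Set H)) = ⟨t, Subgroup.le_normalizer t.2⟩⁻¹ * ⟨s, hn⟩ := rfl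
  have ht' : CfsgLib.S3Simple.actQ K ⟨t, Subgroup.le_normalizer t.2⟩ = MulAut.conj g := by
    refine MulEquiv.ext fun y => ?_
    obtain ⟨x, rfl⟩ := QuotientGroup.mk'_surjective (center ↥K) y
    rw [CfsgLib.S3Simple.actQ_apply, ← htg]
    show q ⟨_, _⟩ = q t * q x * (q t)⁻¹
    rw [← map_inv, ← map_mul, ← map_mul]
    rfl
  rw [e, map_mul, map_inv, ht', ← hg, inv_mul_cancel]

variable {S : Sylow 2 H}

theorem central_pCore (hCI : CI H) (S : Sylow 2 H) (hnn : ¬ (S : Subgroup H).Normal) :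
    ∀ r ∈ pCore 2 H, Cen (S : Subgroup H) r := by
  haveI : Fact (Nat.Prime 2) := ⟨Nat.prime_two⟩
  intro r hr
  obtain ⟨g, hg⟩ : ∃ g : H, g • S ≠ S := by
    by_contra h
    push Not at h
    refine hnn (normalizer_eq_top_iff.mp (top_le_iff.mp fun g _ => ?_))
    exact Sylow.smul_eq_iff_mem_normalizer.mp (h g)
  exact hCI S (g • S) hg.symm r (CfsgLib.pCore_le_sylow S hr) (CfsgLib.pCore_le_sylow (g • S) hr)

/-- An element of `S` centralising every component lies in `O₂(H)`. -/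
theorem mem_pCore_of_cent (hO : pPrimeCore 2 H = ⊥) (hR : ∀ r ∈ pCore 2 H, Cen (S : Subgroup H) r) {c : H}
    (hc : c ∈ (S : Subgroup H)) (hcL : ∀ L : Subgroup H, IsComponent L → c ∈ centralizer (L : Set H)) :
    c ∈ pCore 2 H := by
  have hF : fittingSubgroup H = pCore 2 H := CfsgLib.fitting_eq_pCore Nat.prime_two hO
  set Fs := generalizedFittingSubgroup H
  have hle : Fs ≤ centralizer ({c} : Set H) := by
    refine sup_le (sSup_le fun L hL x hx => ?_) fun x hx => ?_
    · exact mem_centralizer_singleton_iff.mpr (mem_centralizer_iff.mp (hcL L hL) x hx)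
    · rw [hF] at hx
      exact mem_centralizer_singleton_iff.mpr (hR x hx c hc).symm
  have hcC : c ∈ centralizer (Fs : Set H) :=
    mem_centralizer_iff.mpr fun x hx => mem_centralizer_singleton_iff.mp (hle hx)
  have hcF : c ∈ Fs := CfsgLib.centralizer_generalizedFitting_le hcC
  haveI : Fs.Normal := by
    haveI : (layer H).Normal := inferInstance
    haveI : (fittingSubgroup H).Normal := by rw [hF]; infer_instance
    exact Subgroup.sup_normal _ _
  haveI : (Fs ⊓ centralizer (Fs : Set H)).Normal := inferInstance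
  have hnil := CfsgLib.le_fittingSubgroup (N := Fs ⊓ centralizer (Fs : Set H))
    (CfsgLib.Comp.nilpotent_of_comm fun a ha b hb => mem_centralizer_iff.mp hb.2 a ha.1)
  rw [← hF]
  exact hnil ⟨hcF, hcC⟩

/-- A component meeting `S` in an element that is not central in `S`. -/
theorem exists_noncentral_component (hO : pPrimeCore 2 H = ⊥) (hR : ∀ r ∈ pCore 2 H, Cen (S : Subgroup H) r)
    (hS : ¬ IsMulCommutative (S : Subgroup H)) :
    ∃ K : Subgroup H, IsComponent K ∧ ∃ x ∈ K, x ∈ (S : Subgroup H) ∧ ¬ Cen (S : Subgroup H) x := by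
  classical
  haveI : Fact (Nat.Prime 2) := ⟨Nat.prime_two⟩
  by_contra hne
  push Not at hne
  have hnorm : ∀ L : Subgroup H, IsComponent L → ∀ s ∈ (S : Subgroup H), s ∈ normalizer (L : Set H) := by
    intro L hL s hs
    obtain ⟨x, hxS, hxZ⟩ := not_central S hL
    refine CfsgLib.Local.mem_normalizer_of_map_conj_eq ((CfsgLib.components_eq_or_commute
      (CfsgLib.isComponent_map_equiv (MulAut.conj s) hL) hL).resolve_right fun hcomm => hxZ ?_)
    have hxs : (x : H) ∈ L.map (MulAut.conj s).toMonoidHom := ⟨x, x.2, by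
      show s * x * s⁻¹ = x
      rw [hne L hL x x.2 hxS s hs, mul_inv_cancel_right]⟩
    exact mem_center_iff.mpr fun y =>
      Subtype.ext (CfsgLib.Comp.comm_of_commutator_eq_bot hcomm hxs y.2).symm
  have key : ∀ 𝒦 : Finset (Subgroup H), (∀ L ∈ 𝒦, IsComponent L) → ∀ s ∈ (S : Subgroup H),
      ∃ z ∈ (S : Subgroup H), Cen (S : Subgroup H) z ∧
        ∀ L ∈ 𝒦, z⁻¹ * s ∈ centralizer (L : Set H) := by
    intro 𝒦
    induction 𝒦 using Finset.induction_on with
    | empty => exact fun _ s _ => ⟨1, one_mem _, Cen.one _, fun L hL => absurd hL (Finset.notMem_empty L)⟩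
    | @insert L 𝒦 hL ih =>
      intro hcomp s hs
      obtain ⟨z, hz, hzc, hzL⟩ := ih (fun M hM => hcomp M (Finset.mem_insert_of_mem hM)) s hs
      have hLc := hcomp L (Finset.mem_insert_self _ _)
      have hc : z⁻¹ * s ∈ (S : Subgroup H) := mul_mem ((S : Subgroup H).inv_mem hz) hs
      obtain ⟨P, hP⟩ := exists_sylow_inf S hLc
      have hPab : IsMulCommutative
          ((P.mapSurjective (QuotientGroup.mk'_surjective (center ↥L))) : Subgroup (↥L ⧸ center ↥L)) := by
        refine ⟨⟨fun a b => Subtype.ext ?_⟩⟩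
        obtain ⟨x, hx, hxa⟩ := a.2
        obtain ⟨y, hy, hyb⟩ := b.2
        show (a : ↥L ⧸ center ↥L) * b = b * a
        rw [← hxa, ← hyb, ← map_mul, ← map_mul]
        exact congrArg _ (Subtype.ext (hne L hLc y y.2 ((hP y).mp hy) x ((hP x).mp hx)))
      have hn := hnorm L hLc _ hc
      obtain ⟨j, hj⟩ := actQ_pow hc hn
      obtain ⟨g, hg⟩ := Cfsg.Agent.S4593.result (quot_center hLc) (quot_core hLc)
        (P.mapSurjective (QuotientGroup.mk'_surjective (center ↥L))) hPab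
        (CfsgLib.S3Simple.actQ L ⟨_, hn⟩)
        (((Nat.dvd_prime_pow Nat.prime_two).mp (orderOf_dvd_of_pow_eq_one hj)).imp fun i hi => hi.2)
        (by
          rintro _ ⟨x, hx, rfl⟩
          rw [CfsgLib.S3Simple.actQ_apply]
          refine congrArg _ (Subtype.ext ?_)
          show z⁻¹ * s * x * (z⁻¹ * s)⁻¹ = x
          rw [hne L hLc x x.2 ((hP x).mp hx) _ hc, mul_inv_cancel_right])
      obtain ⟨t, ⟨htS, htL⟩, ht⟩ := split_inner S hLc hP hc hn ⟨g, (MulEquiv.ext fun y => by rw [hg y]; rfl)⟩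
      refine ⟨z * t, mul_mem hz htS, hzc.mul (hne L hLc t htL htS), fun M hM => ?_⟩
      rw [_root_.mul_inv_rev, mul_assoc]
      rcases eq_or_ne M L with rfl | hne'
      · exact ht
      · have hM' := (Finset.mem_insert.mp hM).resolve_left hne'
        refine mul_mem (inv_mem ?_) (hzL M hM')
        have hcm := (CfsgLib.components_eq_or_commute hLc (hcomp M (Finset.mem_insert_of_mem hM'))).resolve_left
          (Ne.symm hne')
        exact mem_centralizer_iff.mpr fun y hy => (CfsgLib.Comp.comm_of_commutator_eq_bot hcm htL hy).symm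
  refine hS ⟨⟨fun a b => Subtype.ext ?_⟩⟩
  obtain ⟨z, hz, hzc, hzL⟩ := key (Set.toFinite {L : Subgroup H | IsComponent L}).toFinset
    (fun L (hL : L ∈ (Set.toFinite {L : Subgroup H | IsComponent L}).toFinset) => (Set.toFinite {L : Subgroup H | IsComponent L}).mem_toFinset.mp hL) b b.2
  have hr := mem_pCore_of_cent hO hR (mul_mem ((S : Subgroup H).inv_mem hz) b.2)
    fun L hL => hzL L ((Set.toFinite {L : Subgroup H | IsComponent L}).mem_toFinset.mpr hL)
  have hb : Cen (S : Subgroup H) (b : H) := by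
    have := hzc.mul (hR _ hr)
    rwa [mul_inv_cancel_left] at this
  exact hb a a.2

/-- The structure theorem for groups with trivial core. -/
theorem core_struct (hab : AbGood.{u})
    (hsimp : ∀ (X : Type u) [Group X] [Finite X], Nat.card X ≤ Nat.card H → IsSimpleGroup X → ¬ IsMulCommutative X →
      CI X → ∀ T : Sylow 2 X, ¬ IsMulCommutative (T : Subgroup X) → SzPSU X)
    (hO : pPrimeCore 2 H = ⊥) (hCI : CI H) (S : Sylow 2 H) (hS : ¬ IsMulCommutative (S : Subgroup H))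
    (hnn : ¬ (S : Subgroup H).Normal) : ∃ K : Subgroup H, Struct S K := by
  classical
  haveI : Fact (Nat.Prime 2) := ⟨Nat.prime_two⟩
  have hR := central_pCore hCI S hnn
  obtain ⟨K, hK, x0, hx0K, hx0S, hx0⟩ := exists_noncentral_component hO hR hS
  -- uniqueness
  have huniq : ∀ L : Subgroup H, IsComponent L → L = K := by
    intro L hL
    refine ((CfsgLib.components_eq_or_commute hK hL).resolve_right fun hcomm => ?_).symm
    have hLN : L ≤ normalizer ((S : Subgroup H) : Set H) := fun l hl => hCI.cent_le hx0S hx0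
      (mem_centralizer_singleton_iff.mpr (CfsgLib.Comp.comm_of_commutator_eq_bot hcomm hx0K hl).symm)
    obtain ⟨P, hP⟩ := exists_sylow_inf S hL
    haveI : (P : Subgroup ↥L).Normal := ⟨fun x hx g => (hP _).mpr
      ((mem_normalizer_iff.mp (hLN g.2) _).mp ((hP x).mp hx))⟩
    obtain ⟨x, hxS, hxZ⟩ := not_central S hL
    rcases CfsgLib.quasisimple_normal_le_center_or_eq_top hL.2 (P : Subgroup ↥L) with h | h
    · exact hxZ (h ((hP x).mpr hxS))
    · exact CfsgLib.isQuasisimple_not_isSolvable hL.2 (by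
        haveI := (P.2.to_subgroup (⊤ : Subgroup (P : Subgroup ↥L))).isNilpotent
        haveI : Group.IsNilpotent ↥L := by
          haveI := P.2.isNilpotent
          exact Group.nilpotent_of_mulEquiv ((MulEquiv.subgroupCongr h).trans Subgroup.topEquiv)
        infer_instance)
  haveI hKn : K.Normal := ⟨fun x hx g => by
    have e := huniq _ (CfsgLib.isComponent_map_equiv (MulAut.conj g) hK)
    rw [← e]
    exact ⟨x, hx, rfl⟩⟩
  have hnK : ∀ s : H, s ∈ normalizer (K : Set H) := fun s => by rw [normalizer_eq_top]; exact mem_top s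
  obtain ⟨P, hP⟩ := exists_sylow_inf S hK
  set q := QuotientGroup.mk' (center ↥K)
  set P' := P.mapSurjective (f := q) (QuotientGroup.mk'_surjective _)
  haveI := hK.2.2
  have hF : fittingSubgroup H = pCore 2 H := CfsgLib.fitting_eq_pCore Nat.prime_two hO
  have hzc : (center ↥K).map K.subtype ≤ pCore 2 H := by
    rw [← hF]
    haveI : ((center ↥K).map K.subtype).Normal := inferInstance
    exact CfsgLib.le_fittingSubgroup (CfsgLib.Comp.nilpotent_of_comm fun a ha b hb => by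
      obtain ⟨a, ha', rfl⟩ := ha
      obtain ⟨b, hb', rfl⟩ := hb
      exact congrArg Subtype.val (mem_center_iff.mp hb' a))
  have hZP : center ↥K ≤ (P : Subgroup ↥K) := fun z hz => (hP z).mpr
    (CfsgLib.pCore_le_sylow S (hzc (mem_map_of_mem _ hz)))
  have hZ2 : IsPGroup 2 (center ↥K) := P.2.to_le hZP
  have hmemP : ∀ x : ↥K, q x ∈ (P' : Subgroup (↥K ⧸ center ↥K)) ↔ x ∈ (P : Subgroup ↥K) := fun x =>
    ⟨fun ⟨y, hy, he⟩ => by
      simpa using mul_mem hy (hZP ((QuotientGroup.eq (s := center ↥K)).mp he)), fun hx => ⟨x, hx, rfl⟩⟩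
  -- elements of `S` commuting with an element of odd order normalising `P`
  have hsplit : ∀ kq : ↥K ⧸ center ↥K, kq ∈ normalizer ((P' : Subgroup (↥K ⧸ center ↥K)) : Set (↥K ⧸ center ↥K)) →
      Odd (orderOf kq) → ∀ s ∈ (S : Subgroup H), ∃ t ∈ (S : Subgroup H) ⊓ K, t⁻¹ * s ∈ (S : Subgroup H) ∧
        CfsgLib.S3Simple.actQ K ⟨t⁻¹ * s, hnK _⟩ kq = kq := by
    intro kq hkq hodd s hs
    obtain ⟨n, rfl⟩ := QuotientGroup.mk'_surjective (center ↥K) kq
    set v := (orderOf (n : H)).factorization 2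
    set k := n ^ 2 ^ v with hk
    have hkN : (k : H) ∈ normalizer (((S : Subgroup H) ⊓ K : Subgroup H) : Set H) := by
      refine mem_normalizer_fintype ?_
      intro y hy
      refine ⟨?_, hKn.conj_mem y hy.2 k⟩
      have h1 : q k * q ⟨y, hy.2⟩ * (q k)⁻¹ ∈ (P' : Subgroup (↥K ⧸ center ↥K)) := by
        refine (mem_normalizer_iff.mp ?_ _).mp ((hmemP _).mpr ((hP _).mpr hy.1))
        rw [hk, map_pow]
        exact pow_mem hkq _
      rw [← map_inv, ← map_mul, ← map_mul, hmemP, hP] at h1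
      exact h1
    have hkS : (k : H) ∈ normalizer ((S : Subgroup H) : Set H) :=
      hCI.normalizer_le inf_le_left (⟨hx0S, hx0K⟩ : x0 ∈ (S : Subgroup H) ⊓ K) hx0 hkN
    have hkodd : Odd (orderOf (k : H)) := by
      rw [hk, SubmonoidClass.coe_pow, orderOf_pow' _ (pow_ne_zero _ two_ne_zero), Nat.gcd_eq_right
        (Nat.ordProj_dvd _ _)]
      exact Nat.not_even_iff_odd.mp fun he =>
        Nat.not_dvd_ordCompl Nat.prime_two (orderOf_pos (n : H)).ne' (even_iff_two_dvd.mp he)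
    obtain ⟨j, hj⟩ := IsPGroup.iff_card.mp S.2
    obtain ⟨c, ⟨hcS, hcC⟩, hct⟩ := CfsgLib.coprime_fixed_quotient (A := zpowers (k : H))
      (K := (S : Subgroup H)) (N := (S : Subgroup H) ⊓ K) (zpowers_le.mpr hkS)
      (by rw [Nat.card_zpowers, hj]; exact ((Nat.coprime_two_left.mpr hkodd).pow_left j).symm)
      (Or.inl (Group.isSolvable_of_comm fun a b => mul_comm' a b)) inf_le_left
      (fun r hr => mem_normalizer_fintype fun y hy =>
        ⟨mul_mem (mul_mem hr hy.1) ((S : Subgroup H).inv_mem hr), hKn.conj_mem y hy.2 r⟩)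
      (zpowers_le.mpr hkN) hs (fun a ha => by
        refine ⟨mul_mem ((mem_normalizer_iff.mp (zpowers_le.mpr hkS ha) s).mp hs) ((S : Subgroup H).inv_mem hs), ?_⟩
        have haK : a ∈ K := (zpowers_le.mpr k.2) ha
        rw [show a * s * a⁻¹ * s⁻¹ = a * (s * a⁻¹ * s⁻¹) by group]
        exact mul_mem haK (hKn.conj_mem _ (inv_mem haK) s))
    refine ⟨s * c⁻¹, ⟨mul_mem hs ((S : Subgroup H).inv_mem hcS), ?_⟩, ?_⟩
    · have h1 := hKn.conj_mem _ (inv_mem hct.2) s
      rwa [show s * (s⁻¹ * c)⁻¹ * s⁻¹ = s * c⁻¹ by group] at h1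
    have e : (s * c⁻¹)⁻¹ * s = c := by group
    refine ⟨by rw [e]; exact hcS, ?_⟩
    have hfix : CfsgLib.S3Simple.actQ K ⟨(s * c⁻¹)⁻¹ * s, hnK _⟩ (q k) = q k := by
      rw [CfsgLib.S3Simple.actQ_apply]
      refine congrArg q (Subtype.ext ?_)
      show (s * c⁻¹)⁻¹ * s * k * ((s * c⁻¹)⁻¹ * s)⁻¹ = k
      rw [e, ← mem_centralizer_iff.mp hcC _ (mem_zpowers _), mul_inv_cancel_right]
    set σ := CfsgLib.S3Simple.actQ K ⟨(s * c⁻¹)⁻¹ * s, hnK _⟩
    rw [hk, map_pow] at hfix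
    have hcop : Nat.Coprime (2 ^ v) (orderOf (q n)) := (Nat.coprime_two_left.mpr hodd).pow_left v
    obtain ⟨m, hm⟩ := exists_pow_eq_self_of_coprime hcop
    conv_lhs => rw [← hm]
    rw [map_pow, hfix, hm]
  -- an element of `S` inducing an inner automorphism
  have hfin : ∀ s ∈ (S : Subgroup H), CfsgLib.S3Simple.actQ K ⟨s, hnK s⟩ ∈ (MulAut.conj).range →
      ∃ t ∈ (S : Subgroup H) ⊓ K, ∃ r ∈ pCore 2 H, t * r = s := by
    intro s hs hin
    obtain ⟨t, ht, htc⟩ := split_inner S hK hP hs (hnK s) hin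
    exact ⟨t, ht, t⁻¹ * s, mem_pCore_of_cent hO hR (mul_mem ((S : Subgroup H).inv_mem ht.1) hs)
      (fun L hL => huniq L hL ▸ htc), mul_inv_cancel_left t s⟩
  have hdecomp : (∀ s ∈ (S : Subgroup H), ∃ t ∈ (S : Subgroup H) ⊓ K, t⁻¹ * s ∈ (S : Subgroup H) ∧
      CfsgLib.S3Simple.actQ K ⟨t⁻¹ * s, hnK _⟩ ∈ (MulAut.conj).range) →
      ∀ s ∈ (S : Subgroup H), ∃ t ∈ (S : Subgroup H) ⊓ K, ∃ r ∈ pCore 2 H, t * r = s := by
    intro h s hs
    obtain ⟨t, ht, hc, hin⟩ := h s hs
    obtain ⟨t', ht', r, hr, e⟩ := hfin _ hc hin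
    exact ⟨t * t', mul_mem ht ht', r, hr, by rw [mul_assoc, e, mul_inv_cancel_left]⟩
  have hCIK : CI ↥K := hCI.subgroup K
  have hCIq : CI (↥K ⧸ center ↥K) :=
    hCIK.map (QuotientGroup.mk'_surjective _) (Or.inl (by rw [QuotientGroup.ker_mk']; exact hZ2))
  have hcardle : Nat.card (↥K ⧸ center ↥K) ≤ Nat.card H :=
    (Nat.card_le_card_of_surjective q (QuotientGroup.mk'_surjective _)).trans (card_le_card_group K)
  by_cases hab' : IsMulCommutative (P' : Subgroup (↥K ⧸ center ↥K))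
  swap
  · have hsz := hsimp _ hcardle hK.2.2 (quot_not_comm hK) hCIq P' hab'
    obtain ⟨kq, hkq⟩ := hsz.hasShape P'
    refine ⟨K, hK, hKn, hR, hzc, hdecomp fun s hs => ?_, Or.inl hsz⟩
    obtain ⟨t, ht, hc, hfix⟩ := hsplit kq hkq.norm hkq.odd s hs
    refine ⟨t, ht, hc, hkq.inner _ (actQ_pow hc (hnK _)) ?_ hfix⟩
    rintro _ ⟨x, hx, rfl⟩
    rw [CfsgLib.S3Simple.actQ_apply]
    exact (hmemP _).mpr ((hP _).mpr (mul_mem (mul_mem hc ((hP x).mp hx)) ((S : Subgroup H).inv_mem hc)))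
  -- abelian Sylow subgroup of the simple quotient
  obtain ⟨hsq, kq, hkN, hkodd, htr⟩ := hab _ hK.2.2 (quot_not_comm hK) P' hab'
  have hdec : ∀ s ∈ (S : Subgroup H), ∃ t ∈ (S : Subgroup H) ⊓ K, ∃ r ∈ pCore 2 H, t * r = s := by
    refine hdecomp fun s hs => ?_
    obtain ⟨t, ht, hc, hfix⟩ := hsplit kq hkN hkodd s hs
    refine ⟨t, ht, hc, ?_⟩
    set σ := CfsgLib.S3Simple.actQ K ⟨t⁻¹ * s, hnK _⟩
    obtain ⟨j, hj⟩ := actQ_pow hc (hnK (t⁻¹ * s))
    have hσP : ∀ y ∈ (P' : Subgroup (↥K ⧸ center ↥K)), σ y ∈ (P' : Subgroup (↥K ⧸ center ↥K)) := by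
      rintro _ ⟨x, hx, rfl⟩
      rw [CfsgLib.S3Simple.actQ_apply]
      exact (hmemP _).mpr ((hP _).mpr (mul_mem (mul_mem hc ((hP x).mp hx)) ((S : Subgroup H).inv_mem hc)))
    let f : ↥(P' : Subgroup (↥K ⧸ center ↥K)) → ↥(P' : Subgroup (↥K ⧸ center ↥K)) := fun y => ⟨σ (y : ↥K ⧸ center ↥K), hσP _ y.2⟩
    have hfit : ∀ (i : ℕ) (y : ↥(P' : Subgroup (↥K ⧸ center ↥K))),
        ((f^[i] y : ↥(P' : Subgroup (↥K ⧸ center ↥K))) : ↥K ⧸ center ↥K) = (σ ^ i) (y : ↥K ⧸ center ↥K) := by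
      intro i
      induction i with
      | zero => intro y; rfl
      | succ i ih =>
        intro y
        rw [Function.iterate_succ_apply', pow_succ', MulAut.mul_apply, ← ih]
    have heven : 2 ∣ Nat.card (P' : Subgroup (↥K ⧸ center ↥K)) := by
      obtain ⟨x, hxS, hxZ⟩ := not_central S hK
      have hx1 : q x ≠ 1 := fun e => hxZ ((QuotientGroup.eq_one_iff x).mp e)
      have hxP := (hmemP x).mpr ((hP x).mpr hxS)
      have h2 := orderOf_eq_prime (p := 2) (by rw [pow_two]; exact hsq _ hxP) hx1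
      exact (dvd_of_eq h2.symm).trans (Subgroup.orderOf_dvd_natCard _ hxP)
    obtain ⟨y0, hy01, hy0f⟩ := exists_other_fixed f (j := j)
      (funext fun y => Subtype.ext (by rw [hfit, hj]; rfl)) (x0 := 1) (Subtype.ext (map_one σ)) heven
    obtain ⟨g, hg⟩ := Cfsg.Agent.S4593.result (quot_center hK) (quot_core hK) P' hab' σ
      (((Nat.dvd_prime_pow Nat.prime_two).mp (orderOf_dvd_of_pow_eq_one hj)).imp fun i hi => hi.2)
      (fun y hy => by
        by_cases hy1 : y = 1
        · rw [hy1, map_one]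
        obtain ⟨i, hi⟩ := htr y0 y0.2 (fun e => hy01 (Subtype.ext e)) y hy hy1
        rw [← hi, map_mul, map_mul, map_inv, map_pow, hfix, show σ (y0 : ↥K ⧸ center ↥K) = y0 from congrArg Subtype.val hy0f])
    exact ⟨g, MulEquiv.ext fun y => by rw [hg y]; rfl⟩
  have hPnab : ∃ a ∈ (P : Subgroup ↥K), ∃ b ∈ (P : Subgroup ↥K), a * b ≠ b * a := by
    by_contra hc
    push Not at hc
    refine hS ⟨⟨fun a b => Subtype.ext ?_⟩⟩
    obtain ⟨t, ht, r, hr, e⟩ := hdec a a.2
    obtain ⟨t', ht', r', hr', e'⟩ := hdec b b.2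
    show (a : H) * b = b * a
    rw [← e, ← e']
    have h1 : Commute t t' :=
      congrArg Subtype.val (hc ⟨t, ht.2⟩ ((hP _).mpr ht.1) ⟨t', ht'.2⟩ ((hP _).mpr ht'.1))
    have h2 : Commute t r' := hR r' hr' t ht.1
    have h3 : Commute r t' := (hR r hr t' ht'.1 : Commute t' r).symm
    have h4 : Commute r r' := hR r' hr' r (CfsgLib.pCore_le_sylow S hr)
    exact ((h1.mul_right h2).mul_left (h3.mul_right h4)).eq
  obtain ⟨n, rfl⟩ := QuotientGroup.mk'_surjective (center ↥K) kq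
  have hnP : n ∈ normalizer ((P : Subgroup ↥K) : Set ↥K) := mem_normalizer_iff.mpr fun y => by
    rw [← hmemP, ← hmemP, map_mul, map_mul, map_inv]
    exact mem_normalizer_iff.mp hkN _
  have htr' : ∀ a ∈ (P : Subgroup ↥K), a ∉ center ↥K → ∀ b ∈ (P : Subgroup ↥K), b ∉ center ↥K →
      ∃ i : ℕ, (n ^ i * a * (n ^ i)⁻¹)⁻¹ * b ∈ center ↥K := by
    intro a ha haZ b hb hbZ
    obtain ⟨i, hi⟩ := htr (q a) ((hmemP a).mpr ha) (fun e => haZ ((QuotientGroup.eq_one_iff a).mp e)) (q b)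
      ((hmemP b).mpr hb) (fun e => hbZ ((QuotientGroup.eq_one_iff b).mp e))
    exact ⟨i, (QuotientGroup.eq (s := center ↥K)).mp (by
      show q (n ^ i * a * (n ^ i)⁻¹) = q b
      rw [← hi]; simp only [map_mul, map_inv, map_pow]; rfl)⟩
  have hsqP : ∀ a ∈ (P : Subgroup ↥K), a * a ∈ center ↥K := fun a ha =>
    (QuotientGroup.eq_one_iff _).mp (show q (a * a) = 1 by rw [map_mul]; exact hsq _ ((hmemP a).mpr ha))
  obtain ⟨v, hv, w, hw, hvZ, hwZ, hvw, hcov, hc2, hcomm⟩ :=
    pairing (Z := center ↥K) le_rfl (P : Subgroup ↥K) hZP n hnP hsqP htr' hPnab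
  set c := ⁅v, w⁆ with hc
  have hq4 : Nat.card (P' : Subgroup (↥K ⧸ center ↥K)) = 4 := by
    have hv1 : q v ≠ 1 := fun e => hvZ ((QuotientGroup.eq_one_iff v).mp e)
    have hw1 : q w ≠ 1 := fun e => hwZ ((QuotientGroup.eq_one_iff w).mp e)
    have hne : q v ≠ q w := fun e => hvw ((QuotientGroup.eq (s := center ↥K)).mp e)
    have hvw1 : q v * q w ≠ 1 := fun e => hne (by
      rw [eq_inv_of_mul_eq_one_right e, inv_eq_of_mul_eq_one_left (hsq _ ((hmemP v).mpr hv))])
    have hset : ((P' : Subgroup (↥K ⧸ center ↥K)) : Set (↥K ⧸ center ↥K)) = {1, q v, q w, q v * q w} := by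
      ext y
      simp only [Set.mem_insert_iff, Set.mem_singleton_iff, SetLike.mem_coe]
      refine ⟨fun hy => ?_, ?_⟩
      · obtain ⟨x, hx, rfl⟩ := hy
        rcases hcov x hx with h | h | h | h
        · exact Or.inl ((QuotientGroup.eq_one_iff x).mpr h)
        · exact Or.inr (Or.inl ((QuotientGroup.eq (s := center ↥K)).mpr h).symm)
        · exact Or.inr (Or.inr (Or.inl ((QuotientGroup.eq (s := center ↥K)).mpr h).symm))
        · exact Or.inr (Or.inr (Or.inr (((QuotientGroup.eq (s := center ↥K)).mpr h).symm.trans (map_mul q v w))))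
      · rintro (rfl | rfl | rfl | rfl)
        · exact one_mem _
        · exact (hmemP v).mpr hv
        · exact (hmemP w).mpr hw
        · exact mul_mem ((hmemP v).mpr hv) ((hmemP w).mpr hw)
    rw [← SetLike.coe_sort_coe, Nat.card_coe_set_eq, hset, Set.ncard_insert_of_notMem, Set.ncard_insert_of_notMem,
      Set.ncard_pair]
    · exact fun e => hv1 (mul_eq_right.mp e.symm)
    · simp only [Set.mem_insert_iff, Set.mem_singleton_iff, not_or]
      exact ⟨hne, fun e => hw1 (mul_eq_left.mp e.symm)⟩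
    · simp only [Set.mem_insert_iff, Set.mem_singleton_iff, not_or]
      exact ⟨Ne.symm hv1, Ne.symm hw1, Ne.symm hvw1⟩
  have hcZ : c ∈ center ↥K := by
    refine (QuotientGroup.eq_one_iff _).mp (show q ⁅v, w⁆ = 1 from ?_)
    rw [map_commutatorElement]
    exact commutatorElement_eq_one_iff_mul_comm.mpr
      (congrArg Subtype.val (hab'.1.comm ⟨q v, (hmemP v).mpr hv⟩ ⟨q w, (hmemP w).mpr hw⟩))
  have hc1 : c ≠ 1 := fun e => by
    obtain ⟨a, ha, b, hb, hab2⟩ := hPnab
    refine hab2 (commutatorElement_eq_one_iff_mul_comm.mp ?_)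
    have := hcomm a ha b hb
    rwa [e, zpowers_one_eq_bot, mem_bot] at this
  have hZc : center ↥K = zpowers c := by
    refine le_antisymm (fun z hz => ?_) (zpowers_le.mpr hcZ)
    haveI : (zpowers c).Normal := ⟨fun x hx g => by
      rwa [mem_center_iff.mp ((zpowers_le.mpr hcZ) hx) g, mul_inv_cancel_right]⟩
    have hperf : commutator (↥K ⧸ zpowers c) = ⊤ := by
      have h := hK.2.1
      rw [_root_.commutator_def, ← map_top_of_surjective _ (QuotientGroup.mk'_surjective (zpowers c)),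
        ← map_commutator]
      congr 1
      exact (Subgroup.eq_top_iff' _).mpr fun x => by rw [← _root_.commutator_def]; exact h.mem_commutator
    refine (QuotientGroup.eq_one_iff z).mp (CfsgLib.WalterAb.central_sylow_trivial hperf
      (P.mapSurjective (QuotientGroup.mk'_surjective (zpowers c))) ⟨⟨fun a b => Subtype.ext ?_⟩⟩
      (mem_center_iff.mpr fun y => ?_) (mem_map_of_mem _ (hZP hz)))
    · obtain ⟨x, hx, hxa⟩ := a.2
      obtain ⟨y, hy, hyb⟩ := b.2
      show (a : ↥K ⧸ zpowers c) * b = b * a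
      rw [← hxa, ← hyb]
      refine commutatorElement_eq_one_iff_mul_comm.mp ?_
      rw [← map_commutatorElement]
      exact (QuotientGroup.eq_one_iff _).mpr (hcomm x hx y hy)
    · obtain ⟨y, rfl⟩ := QuotientGroup.mk'_surjective _ y
      show (QuotientGroup.mk' (zpowers c)) y * (QuotientGroup.mk' (zpowers c)) z = _
      rw [← map_mul, mem_center_iff.mp hz y, map_mul]
      rfl
  have hcent : ∀ y ∈ (P' : Subgroup (↥K ⧸ center ↥K)), y ≠ 1 →
      centralizer ({y} : Set (↥K ⧸ center ↥K)) ≤ normalizer ((P' : Subgroup (↥K ⧸ center ↥K)) : Set (↥K ⧸ center ↥K)) := by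
    intro y hy hy1 g hg
    obtain ⟨x, hx, rfl⟩ := hy
    obtain ⟨m, rfl⟩ := QuotientGroup.mk'_surjective (center ↥K) g
    have hxZ : x ∉ center ↥K := fun h => hy1 ((QuotientGroup.eq_one_iff x).mpr h)
    have hxc : ¬ Cen (P : Subgroup ↥K) x := by
      intro hc'
      obtain ⟨a, ha, b, hb, hab2⟩ := hPnab
      refine hab2 ?_
      by_cases haZ : a ∈ center ↥K
      · exact (mem_center_iff.mp haZ b).symm
      obtain ⟨i, hi⟩ := htr' x hx hxZ a ha haZ
      have hconj : Cen (P : Subgroup ↥K) (n ^ i * x * (n ^ i)⁻¹) := Cen.conj (pow_mem hnP i) hc'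
      have := hconj.mul (y := (n ^ i * x * (n ^ i)⁻¹)⁻¹ * a) fun s _ => mem_center_iff.mp hi s
      rw [mul_inv_cancel_left] at this
      exact (this b hb).symm
    have hm : m * x * m⁻¹ ∈ (P : Subgroup ↥K) := (hmemP _).mp (by
      rw [map_mul, map_mul, map_inv, mem_centralizer_singleton_iff.mp hg, mul_inv_cancel_right]
      exact (hmemP x).mpr hx)
    refine mem_normalizer_iff.mpr fun z => ?_
    obtain ⟨z, rfl⟩ := QuotientGroup.mk'_surjective (center ↥K) z
    rw [← map_inv, ← map_mul, ← map_mul, hmemP, hmemP]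
    exact mem_normalizer_iff.mp (hCIK.mem_normalizer hx hxc hm) z
  refine ⟨K, hK, hKn, hR, hzc, hdec, Or.inr ⟨?_, fun a ha b hb => ?_,
    four_iso (quot_not_comm hK) P' hq4 hab' hcent⟩⟩
  · rw [hZc, Nat.card_zpowers]
    exact orderOf_eq_prime (by rw [pow_two]; exact hc2) hc1
  · exact ⟨⁅(⟨a, ha.2⟩ : ↥K), ⟨b, hb.2⟩⁆, hZc ▸ hcomm _ ((hP _).mpr ha.1) _ ((hP _).mpr hb.1), rfl⟩

end CfsgLib.CentralInt
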