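import Cfsg.Agent.Lib.CentralInt.Pairing
import Cfsg.Agent.Lib.Bender.GoodAll
import Cfsg.Agent.Lib.Bender.ConsSimple
import Cfsg.Agent.Lib.Walter.Ab.Ctx
import Cfsg.Agent.Lib.S3Simple.Facts
import Cfsg.Agent.Lib.UnitarySuzuki
import Cfsg.Agent.Lib.Bender.Q.Criterion
import Cfsg.Prelude.Def_KGroupFacts

/-!
Perfect central extensions with bounded kernel, and the simple groups with a four-group as Sylow 2-subgroup whose
fusion is local.

Blueprint: `blueprint/S3181.md`.
-/

set_option autoImplicit false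
set_option linter.unusedSectionVars false
set_option linter.style.haveILetI false

namespace CfsgLib.CentralInt

open Cfsg Subgroup
open scoped commutatorElement

universe u

/-- The kernel of a perfect central extension divides the order of the multiplier. -/
theorem kernel_dvd {Q : Type} [Group Q] {A : Type} [CommGroup A] [Finite A] (hm : HasSchurMultiplier Q A)
    {L : Type u} [Group L] [Finite L] (hL : commutator L = ⊤) {σ : L →* Q} (hσ : Function.Surjective σ)
    (hc : σ.ker ≤ center L) : Nat.card σ.ker ∣ Nat.card A := by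
  let m : Shrink.{0} L ≃* L := Shrink.mulEquiv
  haveI : Finite (Shrink.{0} L) := Finite.of_equiv L (equivShrink.{0} L)
  let τ : Shrink.{0} L →* Q := σ.comp m.toMonoidHom
  have hperf : commutator (Shrink.{0} L) = ⊤ := by
    have h : (commutator L).map m.symm.toMonoidHom = commutator (Shrink.{0} L) := by
      rw [_root_.commutator_def, _root_.commutator_def, map_commutator, map_top_of_surjective _ m.symm.surjective]
    rw [← h, hL, map_top_of_surjective _ m.symm.surjective]
  have hτ : IsStemExtension τ := ⟨hσ.comp m.surjective, fun x hx => mem_center_iff.mpr fun y =>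
    m.injective (by rw [map_mul, map_mul]; exact mem_center_iff.mp (hc (show m x ∈ σ.ker from hx)) (m y)),
    hperf ▸ le_top⟩
  obtain ⟨π, hπ⟩ := hm.2 _ τ hτ
  refine dvd_trans ?_ (Subgroup.card_dvd_of_surjective π hπ)
  rw [show σ.ker = τ.ker.map m.toMonoidHom by
    ext x
    refine ⟨fun hx => ⟨m.symm x, show σ (m (m.symm x)) = 1 by rw [m.apply_symm_apply]; exact hx, m.apply_symm_apply x⟩,
      ?_⟩
    rintro ⟨y, hy, rfl⟩
    exact hy, card_map_of_injective m.injective]

theorem card_ext {Y : Type*} [Group Y] [Finite Y] {Q : Type*} [Group Q] (φ : Y →* Q) (hφ : Function.Surjective φ) :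
    Nat.card Y = Nat.card Q * Nat.card φ.ker := by
  rw [card_eq_card_quotient_mul_card_subgroup φ.ker,
    Nat.card_congr (QuotientGroup.quotientKerEquivOfSurjective φ hφ).toEquiv]

theorem surj_commutator {P : Type*} [Group P] {N : Type*} [Group N] (g : P →* N) (hg : Function.Surjective g)
    (hN : commutator N = ⊤) : Function.Surjective (g.comp (commutator P).subtype) := fun n => by
  have h1 : (commutator P).map g = commutator N := by
    rw [_root_.commutator_def, _root_.commutator_def, map_commutator, map_top_of_surjective g hg]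
  obtain ⟨e, he, rfl⟩ : n ∈ (commutator P).map g := by rw [h1, hN]; exact mem_top n
  exact ⟨⟨e, he⟩, rfl⟩

/-- Two perfect central extensions with kernels of the order of the multiplier are isomorphic. -/
theorem cover_unique {Q : Type} [Group Q] [Finite Q] {A : Type} [CommGroup A] [Finite A]
    (hm : HasSchurMultiplier Q A) {L : Type u} [Group L] [Finite L] (hL : commutator L = ⊤) {σ : L →* Q}
    (hσ : Function.Surjective σ) (hσc : σ.ker ≤ center L) (hσA : Nat.card σ.ker = Nat.card A)
    {M : Type} [Group M] [Finite M] (hM : commutator M = ⊤) {τ : M →* Q} (hτ : Function.Surjective τ)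
    (hτc : τ.ker ≤ center M) (hτA : Nat.card τ.ker = Nat.card A) : Nonempty (L ≃* M) := by
  let P : Subgroup (L × M) := MonoidHom.eqLocus (σ.comp (MonoidHom.fst L M)) (τ.comp (MonoidHom.snd L M))
  let ρ : ↥P →* Q := σ.comp ((MonoidHom.fst L M).comp P.subtype)
  have hρ : Function.Surjective ρ := fun g => by
    obtain ⟨a, rfl⟩ := hσ g
    obtain ⟨b, hb⟩ := hτ (σ a)
    exact ⟨⟨(a, b), hb.symm⟩, rfl⟩
  have hρc : ∀ x : ↥P, ρ x = 1 → x ∈ center ↥P := fun x hx => mem_center_iff.mpr fun y =>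
    Subtype.ext (Prod.ext (mem_center_iff.mp (hσc hx) _)
      (mem_center_iff.mp (hτc (show τ (x : L × M).2 = 1 from (x.2 : _ = _).symm.trans hx)) _))
  set E := commutator ↥P
  let f₁ : ↥E →* L := ((MonoidHom.fst L M).comp P.subtype).comp E.subtype
  let f₂ : ↥E →* M := ((MonoidHom.snd L M).comp P.subtype).comp E.subtype
  have o₁ : Function.Surjective f₁ := surj_commutator _ (fun a => by
    obtain ⟨b, hb⟩ := hτ (σ a); exact ⟨⟨(a, b), hb.symm⟩, rfl⟩) hL
  have o₂ : Function.Surjective f₂ := surj_commutator _ (fun b => by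
    obtain ⟨a, ha⟩ := hσ (τ b); exact ⟨⟨(a, b), ha⟩, rfl⟩) hM
  let θ : ↥E →* Q := ρ.comp E.subtype
  have hθ : Function.Surjective θ := fun g => by
    obtain ⟨a, rfl⟩ := hσ g
    obtain ⟨e, rfl⟩ := o₁ a
    exact ⟨e, rfl⟩
  have hperf : commutator ↥E = ⊤ := by
    refine eq_top_iff.mpr fun x _ => ?_
    have key : E ≤ (commutator ↥E).map E.subtype := by
      refine (le_of_eq (_root_.commutator_def ↥P)).trans (Subgroup.commutator_le.mpr ?_)
      intro p _ q _
      obtain ⟨a, ha⟩ := hθ (ρ p)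
      obtain ⟨b, hb⟩ := hθ (ρ q)
      refine ⟨⁅a, b⁆, Subgroup.commutator_mem_commutator (mem_top a) (mem_top b), ?_⟩
      rw [map_commutatorElement]
      have ca : (a : ↥P)⁻¹ * p ∈ center ↥P := hρc _ (by
        rw [map_mul, map_inv]; exact inv_mul_eq_one.mpr ha)
      have cb : (b : ↥P)⁻¹ * q ∈ center ↥P := hρc _ (by
        rw [map_mul, map_inv]; exact inv_mul_eq_one.mpr hb)
      show ⁅(a : ↥P), (b : ↥P)⁆ = ⁅p, q⁆
      conv_rhs => rw [← mul_inv_cancel_left (a : ↥P) p, ← mul_inv_cancel_left (b : ↥P) q]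
      generalize (a : ↥P)⁻¹ * p = c at ca ⊢
      generalize (b : ↥P)⁻¹ * q = d at cb ⊢
      have hc : ∀ y, Commute c y := fun y => (mem_center_iff.mp ca y).symm
      have hd : ∀ y, Commute d y := fun y => (mem_center_iff.mp cb y).symm
      rw [commutatorElement_def, commutatorElement_def]
      symm
      calc (a : ↥P) * c * (b * d) * ((a : ↥P) * c)⁻¹ * ((b : ↥P) * d)⁻¹
          = (a : ↥P) * (c * ((b : ↥P) * d)) * c⁻¹ * (a : ↥P)⁻¹ * d⁻¹ * (b : ↥P)⁻¹ := by group
        _ = (a : ↥P) * b * (d * (a : ↥P)⁻¹) * d⁻¹ * (b : ↥P)⁻¹ := by rw [(hc _).eq]; group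
        _ = (a : ↥P) * b * (a : ↥P)⁻¹ * (b : ↥P)⁻¹ := by rw [(hd _).eq]; group
    obtain ⟨y, hy, e⟩ := key x.2
    exact (Subtype.ext e : y = x) ▸ hy
  have hθc : θ.ker ≤ center ↥E := fun x hx => mem_center_iff.mpr fun y =>
    Subtype.ext (mem_center_iff.mp (hρc (x : ↥P) hx) (y : ↥P))
  have hbound := Nat.le_of_dvd Nat.card_pos (kernel_dvd hm hperf hθ hθc)
  have hle : Nat.card ↥E ≤ Nat.card Q * Nat.card A := card_ext θ hθ ▸ Nat.mul_le_mul_left _ hbound
  have b₁ : Function.Bijective f₁ := o₁.bijective_of_nat_card_le (by rw [card_ext σ hσ, hσA]; exact hle)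
  have b₂ : Function.Bijective f₂ := o₂.bijective_of_nat_card_le (by rw [card_ext τ hτ, hτA]; exact hle)
  exact ⟨(MulEquiv.ofBijective f₁ b₁).symm.trans (MulEquiv.ofBijective f₂ b₂)⟩

variable {X : Type u} [Group X] [Finite X]

/-- A simple group with a four-group as Sylow subgroup, the centralisers of whose involutions normalise it, is
`L₂(4)`. -/
theorem four_iso [IsSimpleGroup X] (hX : ¬ IsMulCommutative X) (T : Sylow 2 X) (hT4 : Nat.card (T : Subgroup X) = 4)
    (hTab : IsMulCommutative (T : Subgroup X))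
    (hcent : ∀ x ∈ (T : Subgroup X), x ≠ 1 →
      centralizer ({x} : Set X) ≤ normalizer ((T : Subgroup X) : Set X)) :
    ∃ (F : Type) (_ : Field F) (_ : Fintype F),
      Fintype.card F = 4 ∧ Nonempty (X ≃* Matrix.ProjectiveSpecialLinearGroup (Fin 2) F) := by
  haveI : Fact (Nat.Prime 2) := ⟨Nat.prime_two⟩
  set M := normalizer ((T : Subgroup X) : Set X) with hM
  have hTM : (T : Subgroup X) ≤ M := Subgroup.le_normalizer
  have hT2 : ∀ {y : X}, y ∈ M → y * y = 1 → y ∈ (T : Subgroup X) := fun {y} hy h2 => by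
    have h2' : IsPGroup 2 (zpowers y) := CfsgLib.AfterFT.CoreSep.zpowers_two h2
    exact (T.3 (h2'.to_sup_of_normal_right' T.2 (zpowers_le.mpr hy)) le_sup_right).le
      (mem_sup_left (mem_zpowers y))
  have hH : IsStronglyEmbedded M := by
    refine ⟨fun e => ?_, even_iff_two_dvd.mpr ((by norm_num : 2 ∣ 4).trans (hT4 ▸ card_dvd_of_le hTM)), fun g hg => ?_⟩
    · rcases (normalizer_eq_top_iff.mp e).eq_bot_or_eq_top with h | h
      · rw [h, card_bot] at hT4
        omega
      · exact hX ⟨⟨fun a b => congrArg Subtype.val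
          (hTab.1.comm ⟨a, h ▸ mem_top a⟩ ⟨b, h ▸ mem_top b⟩)⟩⟩
    · refine Nat.not_even_iff_odd.mp fun he => hg ?_
      obtain ⟨x, hx, hx2⟩ := CfsgLib.StronglyEmbedded.exists_orderOf_eq (p := 2) (even_iff_two_dvd.mp he)
      have hx1 : x ≠ 1 := fun e => by rw [e, orderOf_one] at hx2; omega
      have hxx : x * x = 1 := by rw [← pow_two]; exact orderOf_dvd_iff_pow_eq_one.mp hx2.dvd
      have hxT := hT2 hx.1 hxx
      obtain ⟨y, hy, hyx⟩ := hx.2
      replace hyx : g * y * g⁻¹ = x := hyx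
      have hyy : y * y = 1 := by
        rw [show y * y = g⁻¹ * (g * y * g⁻¹ * (g * y * g⁻¹)) * g by group, hyx, hxx, mul_one, inv_mul_cancel]
      have hyT := hT2 hy hyy
      have hgT : ((g • T : Sylow 2 X) : Subgroup X) ≤ M := fun t ht => hcent x hxT hx1 (by
        refine mem_centralizer_singleton_iff.mpr ?_
        rw [← hyx, show t = g * (g⁻¹ * t * g) * g⁻¹ by group]
        refine CfsgLib.Bender.Q.conj_comm ?_
        exact congrArg Subtype.val (hTab.1.comm ⟨_, mem_smul.mp ht⟩ ⟨y, hyT⟩))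
      refine Sylow.smul_eq_iff_mem_normalizer.mp ?_
      refine (Sylow.ext ?_ : g • T = T)
      exact ((g • T).3 ((g • T).2.to_sup_of_normal_right' T.2 hgT) le_sup_left).symm.trans
        (T.3 ((g • T).2.to_sup_of_normal_right' T.2 hgT) le_sup_right)
  rcases CfsgLib.Bender.isBenderGroup_of_stronglyEmbedded
      (CfsgLib.Bender.Assembly.benderHyp CfsgLib.Bender.Assembly.goodAll) CfsgLib.Bender.Assembly.suzukiHyp hH with
    ⟨F, i1, i2, ⟨n, hn, hc⟩, ⟨e⟩⟩ | hs | ⟨F, i1, i2, n, hn, hc, ⟨e⟩⟩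
  · haveI : CharP F 2 := CfsgLib.Bender.charP_two_of_card hc (by omega)
    have hU : Nat.card ((CfsgLib.PSL2.uSylow (F := F) 2 : Sylow 2 (Matrix.ProjectiveSpecialLinearGroup (Fin 2) F)) :
        Subgroup (Matrix.ProjectiveSpecialLinearGroup (Fin 2) F)) = Nat.card F := by
      show Nat.card (CfsgLib.PSL2.uHom : Multiplicative F →* _).range = _
      rw [← Nat.card_congr (MonoidHom.ofInjective (f := (CfsgLib.PSL2.uHom : Multiplicative F →* _))
        (fun a b h => Multiplicative.toAdd.injective (CfsgLib.PSL2.uu_injective h))).toEquiv]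
      exact Nat.card_congr Multiplicative.toAdd
    refine ⟨F, i1, i2, ?_, ⟨e⟩⟩
    rw [← Nat.card_eq_fintype_card, ← hU, Sylow.card_eq_multiplicity, ← Nat.card_congr e.toEquiv,
      ← Sylow.card_eq_multiplicity T, hT4]
  · exact absurd hTab (CfsgLib.S3Simple.suzuki_sylow hs T)
  · exfalso
    obtain ⟨h3, -, -⟩ := CfsgLib.UnitarySuzuki.main hn hc (Classical.arbitrary _)
    rw [Sylow.card_eq_multiplicity, ← Nat.card_congr e.toEquiv, ← Sylow.card_eq_multiplicity T, hT4] at h3
    have : 4 ^ 3 ≤ (2 ^ n) ^ 3 := Nat.pow_le_pow_left (CfsgLib.Bender.four_le_two_pow hn) 3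
    omega

end CfsgLib.CentralInt
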