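import Cfsg.Agent.Lib.CentralInt.Quot
import Cfsg.Agent.S2089
import Cfsg.Agent.S2111

/-!
A component with a non-trivial 2-central part covers `Sz(8)`; the element of order seven.

Blueprint: `blueprint/S3181.md` (Simple).
-/

set_option autoImplicit false
set_option linter.unusedSectionVars false
set_option linter.style.haveILetI false

namespace CfsgLib.CentralInt

open Cfsg Subgroup
open scoped commutatorElement

universe u

/-- The element transitive on the seven central involutions has orbits of length seven. -/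
theorem seven_dvd {Y : Type u} [Group Y] [Finite Y] {T : Subgroup Y} {k z : Y} (h : Shape T k) (hz : z ∈ T)
    (hzc : Cen T z) (hz1 : z ≠ 1) (h8 : Nat.card {y : Y // y ∈ T ∧ Cen T y} = 8) {i : ℕ}
    (hi : k ^ i * z * (k ^ i)⁻¹ = z) : 7 ∣ i := by
  set f : Y → Y := fun y => k * y * k⁻¹ with hf
  have hit : ∀ j : ℕ, f^[j] z = k ^ j * z * (k ^ j)⁻¹ := by
    intro j
    induction j with
    | zero => simp
    | succ j ih => rw [Function.iterate_succ_apply', ih, hf, pow_succ']; group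
  set d := Function.minimalPeriod f z with hd
  have hdi : d ∣ i := Function.IsPeriodicPt.minimalPeriod_dvd (show f^[i] z = z by rw [hit, hi])
  have hper : z ∈ Function.periodicPts f :=
    ⟨orderOf k, orderOf_pos k, show f^[orderOf k] z = z by rw [hit, pow_orderOf_eq_one, one_mul, inv_one, mul_one]⟩
  have hdpos : 0 < d := Function.minimalPeriod_pos_of_mem_periodicPts hper
  have himg : (fun j => f^[j] z) '' Set.Iio d = {y | y ∈ T ∧ Cen T y} \ {1} := by
    ext y
    constructor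
    · rintro ⟨j, -, rfl⟩
      simp only [hit, Set.mem_sdiff, Set.mem_setOf_eq, Set.mem_singleton_iff]
      exact ⟨⟨(mem_normalizer_iff.mp (pow_mem h.norm j) z).mp hz, hzc.conj (pow_mem h.norm j)⟩,
        fun e => hz1 (conj_eq_one_iff.mp e)⟩
    · rintro ⟨⟨hy, hyc⟩, hy1⟩
      obtain ⟨j, hj⟩ := h.trans z hz hzc hz1 y hy hyc hy1
      refine ⟨j % d, Set.mem_Iio.mpr (Nat.mod_lt _ hdpos), ?_⟩
      show f^[j % d] z = y
      rw [hd, Function.iterate_mod_minimalPeriod_eq, hit, hj]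
  have hd7 : d = 7 := by
    have h1 := congrArg Set.ncard himg
    rw [Set.ncard_image_of_injOn Function.iterate_injOn_Iio_minimalPeriod,
      Set.ncard_diff_singleton_of_mem (show (1 : Y) ∈ {y | y ∈ T ∧ Cen T y} from ⟨one_mem _, Cen.one T⟩),
      ← Nat.card_coe_set_eq {y | y ∈ T ∧ Cen T y}] at h1
    rw [← Finset.coe_Iio, Set.ncard_coe_finset, Nat.card_Iio] at h1
    rw [hd, h1]
    exact congrArg (· - 1) h8
  exact hd7 ▸ hdi

variable {H : Type u} [Group H] [Finite H] {S : Sylow 2 H} {K : Subgroup H}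

/-- A non-cyclic derived subgroup of `S` excludes the cover of `L₂(4)`. -/
theorem Struct.szpsu (hs : Struct S K) (hnc : ¬ IsCyclic ↥⁅(S : Subgroup H), (S : Subgroup H)⁆) :
    SzPSU (↥K ⧸ center ↥K) := by
  refine hs.alt.resolve_right fun ⟨hcard, hcm, _⟩ => hnc ?_
  haveI : Fact (Nat.Prime 2) := ⟨Nat.prime_two⟩
  haveI : IsCyclic ↥((center ↥K).map K.subtype) := isCyclic_of_prime_card (p := 2) (by
    rw [card_map_of_injective K.subtype_injective, hcard])
  have hle : ⁅(S : Subgroup H), (S : Subgroup H)⁆ ≤ (center ↥K).map K.subtype := commutator_le.mpr fun x hx y hy => by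
    obtain ⟨t, ht, t', ht', e⟩ := hs.comm_mem hx hy
    rw [e]
    exact hcm t ht t' ht'
  exact isCyclic_of_injective (inclusion hle) (inclusion_injective hle)

/-- A non-trivial central 2-part of the component leaves only `Sz(8)`. -/
theorem Struct.sz8 (hs : Struct S K) (hsz : SzPSU (↥K ⧸ center ↥K)) {z : ↥K} (hz : z ∈ center ↥K) (hz1 : z ≠ 1) :
    ∃ (F : Type) (_ : Field F) (_ : Fintype F),
      Fintype.card F = 8 ∧ Nonempty (↥K ⧸ center ↥K ≃* ↥(Lie.Sz F 4)) := by
  haveI : Fact (Nat.Prime 2) := ⟨Nat.prime_two⟩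
  have hperf : commutator ↥K = ⊤ := hs.comp.2.1.commutator_eq_top
  obtain ⟨i, hi⟩ := IsPGroup.iff_card.mp ((CfsgLib.isPGroup_pCore 2).to_le hs.zc)
  rw [card_map_of_injective K.subtype_injective] at hi
  have key : ∀ {Q : Type} [Group Q] (e : ↥K ⧸ center ↥K ≃* Q) {A : Type} [CommGroup A] [Finite A],
      HasSchurMultiplier Q A → Odd (Nat.card A) → False := by
    intro Q _ e A _ _ hm hodd
    set σ := e.toMonoidHom.comp (QuotientGroup.mk' (center ↥K))
    have hker : σ.ker = center ↥K := by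
      ext x
      simp [σ, MonoidHom.mem_ker, QuotientGroup.eq_one_iff]
    have hd := kernel_dvd hm hperf (e.surjective.comp (QuotientGroup.mk'_surjective _)) hker.le
    have hd : Nat.card (center ↥K) ∣ Nat.card A := by rwa [show Nat.card σ.ker = Nat.card (center ↥K) by rw [hker]] at hd
    have h1 : Nat.card (center ↥K) = 1 := by
      rw [hi] at hd ⊢
      exact Nat.eq_one_of_dvd_coprimes ((Nat.coprime_two_left.mpr hodd).pow_left i) dvd_rfl hd
    haveI := (Nat.card_eq_one_iff_unique.mp h1).1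
    exact hz1 (congrArg Subtype.val (Subsingleton.elim (⟨z, hz⟩ : center ↥K) 1))
  rcases hsz with ⟨F, i1, i2, m, hm, hc, ⟨e⟩⟩ | ⟨F, i1, i2, n, hn, hF, ⟨e⟩⟩
  · rcases Nat.lt_or_ge m 2 with h1 | h2
    · obtain rfl : m = 1 := by omega
      exact ⟨F, i1, i2, by rw [hc]; norm_num, ⟨e⟩⟩
    · exact (key e (Cfsg.Agent.S2111.result h2 hc) (by rw [Nat.card_congr Multiplicative.toAdd, Nat.card_zmod]; exact odd_one)).elim
  · have hn1 : 4 ≤ 2 ^ n := le_trans (by norm_num) (Nat.pow_le_pow_right (by norm_num : 1 ≤ 2) hn)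
    have hm := Cfsg.Agent.S2089.result (F := F) 3 (2 ^ n) hF le_rfl (fun h => by omega)
      (fun h => by simp [Prod.mk.injEq] at h)
    haveI : NeZero (Nat.gcd 3 (2 ^ n + 1)) := ⟨fun h => by simp at h⟩
    refine (key e hm ?_).elim
    rw [Nat.card_congr Multiplicative.toAdd, Nat.card_zmod]
    exact Odd.of_dvd_nat (by decide : Odd 3) (Nat.gcd_dvd_left _ _)

variable {F : Type} [Field F] [Fintype F]

/-- The Sylow subgroup of the component and the element of order seven normalising `S`. -/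
theorem Struct.setup (hs : Struct S K) (hCI : CI H) (hF : Fintype.card F = 8)
    (e : ↥K ⧸ center ↥K ≃* ↥(Lie.Sz F 4)) :
    ∃ (P : Sylow 2 ↥K) (P' : Sylow 2 (↥K ⧸ center ↥K)) (n : ↥K),
      (∀ x : ↥K, x ∈ (P : Subgroup ↥K) ↔ (x : H) ∈ (S : Subgroup H)) ∧
      (∀ x : ↥K, QuotientGroup.mk' (center ↥K) x ∈ (P' : Subgroup (↥K ⧸ center ↥K)) ↔ x ∈ (P : Subgroup ↥K)) ∧
      Shape (P' : Subgroup (↥K ⧸ center ↥K)) (QuotientGroup.mk' (center ↥K) n) ∧
      (n : H) ∈ normalizer ((S : Subgroup H) : Set H) ∧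
      Nat.card (P' : Subgroup (↥K ⧸ center ↥K)) = 64 ∧
      Nat.card {y // y ∈ (P' : Subgroup (↥K ⧸ center ↥K)) ∧ Cen (P' : Subgroup (↥K ⧸ center ↥K)) y} = 8 := by
  haveI : Fact (Nat.Prime 2) := ⟨Nat.prime_two⟩
  obtain ⟨P, hP⟩ := exists_sylow_inf S hs.comp
  set q := QuotientGroup.mk' (center ↥K)
  set P' := P.mapSurjective (f := q) (QuotientGroup.mk'_surjective _)
  have hZP : center ↥K ≤ (P : Subgroup ↥K) := fun z hz => (hP z).mpr
    (CfsgLib.pCore_le_sylow S (hs.zc (mem_map_of_mem _ hz)))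
  have hmemP : ∀ x : ↥K, q x ∈ (P' : Subgroup (↥K ⧸ center ↥K)) ↔ x ∈ (P : Subgroup ↥K) := fun x =>
    ⟨fun ⟨y, hy, he⟩ => by simpa using mul_mem hy (hZP ((QuotientGroup.eq (s := center ↥K)).mp he)),
      fun hx => ⟨x, hx, rfl⟩⟩
  obtain ⟨kq, hk⟩ := suzuki_hasShape (X := ↥K ⧸ center ↥K)
    ⟨F, inferInstance, inferInstance, 1, le_rfl, by rw [hF]; norm_num, ⟨e⟩⟩ P'
  obtain ⟨n, rfl⟩ := QuotientGroup.mk'_surjective (center ↥K) kq
  refine ⟨P, P', n, hP, hmemP, hk, ?_, suzuki_eight_sylow hF e P'⟩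
  obtain ⟨a, ha, b, hb, hab⟩ := hk.nonab
  obtain ⟨x, rfl⟩ := QuotientGroup.mk'_surjective (center ↥K) a
  obtain ⟨y, rfl⟩ := QuotientGroup.mk'_surjective (center ↥K) b
  have hxS : (x : H) ∈ (S : Subgroup H) := (hP x).mp ((hmemP x).mp ha)
  have hyS : (y : H) ∈ (S : Subgroup H) := (hP y).mp ((hmemP y).mp hb)
  have hxc : ¬ Cen (S : Subgroup H) (x : H) := fun hc => hab (by
    rw [← map_mul, ← map_mul, show x * y = y * x from Subtype.ext (hc _ hyS).symm])
  refine hCI.normalizer_le (P := (S : Subgroup H) ⊓ K) inf_le_left ⟨hxS, x.2⟩ hxc ?_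
  refine mem_normalizer_fintype fun z hz => ⟨?_, mul_mem (mul_mem n.2 hz.2) (K.inv_mem n.2)⟩
  have h1 : q n * q ⟨z, hz.2⟩ * (q n)⁻¹ ∈ (P' : Subgroup (↥K ⧸ center ↥K)) :=
    (mem_normalizer_iff.mp hk.norm _).mp ((hmemP _).mpr ((hP _).mpr hz.1))
  rw [← map_inv, ← map_mul, ← map_mul, hmemP, hP] at h1
  exact h1

/-- Some commutator of `S` is central modulo the centre of the component and lies outside it. -/
theorem Struct.exists_orbit_elem (hs : Struct S K) (hCI : CI H) (hF : Fintype.card F = 8)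
    (e : ↥K ⧸ center ↥K ≃* ↥(Lie.Sz F 4)) :
    ∃ x : ↥K, (x : H) ∈ ⁅(S : Subgroup H), (S : Subgroup H)⁆ ∧ x ∉ center ↥K ∧
      ∀ y : ↥K, (y : H) ∈ (S : Subgroup H) → ⁅x, y⁆ ∈ center ↥K := by
  obtain ⟨P, P', n, hP, hmemP, hk, -, -, -⟩ := hs.setup hCI hF e
  obtain ⟨a, ha, b, hb, hab⟩ := hk.nonab
  obtain ⟨u, rfl⟩ := QuotientGroup.mk'_surjective (center ↥K) a
  obtain ⟨v, rfl⟩ := QuotientGroup.mk'_surjective (center ↥K) b
  refine ⟨⁅u, v⁆, ?_, fun hz => hab ?_, fun y hy => ?_⟩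
  · rw [← coe_subtype, map_commutatorElement]
    exact commutator_mem_commutator ((hP u).mp ((hmemP u).mp ha)) ((hP v).mp ((hmemP v).mp hb))
  · refine commutatorElement_eq_one_iff_mul_comm.mp ?_
    rw [← map_commutatorElement]
    exact (QuotientGroup.eq_one_iff _).mpr hz
  · refine (QuotientGroup.eq_one_iff _).mp (show QuotientGroup.mk' (center ↥K) ⁅⁅u, v⁆, y⁆ = 1 from ?_)
    rw [map_commutatorElement, map_commutatorElement, commutatorElement_eq_one_iff_mul_comm]
    exact (hk.comm _ ha _ hb _ ((hmemP y).mpr ((hP y).mpr hy))).symm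

/-- An element of `S` central modulo the centre of the component lies in orbits of length seven. -/
theorem Struct.orbit (hs : Struct S K) (hCI : CI H) (hF : Fintype.card F = 8)
    (e : ↥K ⧸ center ↥K ≃* ↥(Lie.Sz F 4)) {x : ↥K} (hx : (x : H) ∈ (S : Subgroup H)) (hxZ : x ∉ center ↥K)
    (hxc : ∀ y : ↥K, (y : H) ∈ (S : Subgroup H) → ⁅x, y⁆ ∈ center ↥K) :
    ∃ n ∈ normalizer ((S : Subgroup H) : Set H), ∀ i : ℕ, n ^ i * x * (n ^ i)⁻¹ = x → 7 ∣ i := by
  obtain ⟨P, P', n, hP, hmemP, hk, hn, -, h8⟩ := hs.setup hCI hF e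
  set q := QuotientGroup.mk' (center ↥K)
  refine ⟨n, hn, fun i hi => seven_dvd hk ((hmemP x).mpr ((hP x).mpr hx)) ?_
    (fun h => hxZ ((QuotientGroup.eq_one_iff x).mp h)) h8 ?_⟩
  · intro s hs'
    obtain ⟨y, rfl⟩ := QuotientGroup.mk'_surjective (center ↥K) s
    refine (commutatorElement_eq_one_iff_mul_comm.mp ?_).symm
    rw [← map_commutatorElement]
    exact (QuotientGroup.eq_one_iff _).mpr (hxc y ((hP y).mp ((hmemP y).mp hs')))
  · rw [← map_pow, ← map_inv, ← map_mul, ← map_mul]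
    exact congrArg q (Subtype.ext (by simpa using hi))

/-- A central element of `S` outside the centre of the component makes `S` of class two with `|S : Z(S)| = 8`. -/
theorem Struct.eight (hs : Struct S K) (hCI : CI H) (hF : Fintype.card F = 8)
    (e : ↥K ⧸ center ↥K ≃* ↥(Lie.Sz F 4)) {a : ↥K} (ha : (a : H) ∈ (S : Subgroup H))
    (hac : Cen (S : Subgroup H) (a : H)) (haZ : a ∉ center ↥K) :
    (∀ x ∈ (S : Subgroup H), Cen (S : Subgroup H) (x * x)) ∧
      (∀ x ∈ (S : Subgroup H), ∀ y ∈ (S : Subgroup H), Cen (S : Subgroup H) ⁅x, y⁆) ∧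
      Nat.card ((S : Subgroup H) ⧸ center (S : Subgroup H)) = 8 := by
  obtain ⟨P, P', n, hP, hmemP, hk, hn, h64, h8⟩ := hs.setup hCI hF e
  set q := QuotientGroup.mk' (center ↥K)
  have hqa : Cen (P' : Subgroup (↥K ⧸ center ↥K)) (q a) := by
    intro s hs'
    obtain ⟨y, rfl⟩ := QuotientGroup.mk'_surjective (center ↥K) s
    rw [← map_mul, ← map_mul, show y * a = a * y from Subtype.ext (hac _ ((hP y).mp ((hmemP y).mp hs')))]
  have hqa1 : q a ≠ 1 := fun h => haZ ((QuotientGroup.eq_one_iff a).mp h)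
  have hzcen : ∀ z ∈ center ↥K, Cen (S : Subgroup H) (z : H) := fun z hz => hs.central _ (hs.zc (mem_map_of_mem _ hz))
  -- central modulo the centre of the component means central
  have hT1 : ∀ y : ↥K, y ∈ (P : Subgroup ↥K) → Cen (P' : Subgroup (↥K ⧸ center ↥K)) (q y) →
      Cen (S : Subgroup H) (y : H) := by
    intro y hy hyc
    by_cases hyZ : y ∈ center ↥K
    · exact hzcen y hyZ
    obtain ⟨i, hi⟩ := hk.trans (q a) ((hmemP a).mpr ((hP a).mpr ha)) hqa hqa1 (q y) ((hmemP y).mpr hy) hyc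
      (fun h => hyZ ((QuotientGroup.eq_one_iff y).mp h))
    rw [← map_pow, ← map_inv, ← map_mul, ← map_mul] at hi
    have hc := (Cen.conj (pow_mem hn i) hac).mul (hzcen _ ((QuotientGroup.eq (s := center ↥K)).mp hi))
    have e1 : ((n : H) ^ i * a * ((n : H) ^ i)⁻¹) * (((n ^ i * a * (n ^ i)⁻¹)⁻¹ * y : ↥K) : H) = y := by
      push_cast
      group
    rwa [e1] at hc
  have hcenR : ∀ r ∈ pCore 2 H, Cen (S : Subgroup H) r := hs.central
  have hsq : ∀ x ∈ (S : Subgroup H), Cen (S : Subgroup H) (x * x) := by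
    intro x hx
    obtain ⟨t, ht, r, hr, rfl⟩ := hs.decomp x hx
    have hc : Commute r t := (hcenR r hr t ht.1).symm
    rw [show t * r * (t * r) = t * t * (r * r) by
      calc t * r * (t * r) = t * (r * t) * r := by group
        _ = t * t * (r * r) := by rw [hc.eq]; group]
    refine Cen.mul ?_ ((hcenR r hr).mul (hcenR r hr))
    have := hT1 (⟨t, ht.2⟩ * ⟨t, ht.2⟩) (mul_mem ((hP _).mpr ht.1) ((hP _).mpr ht.1))
      (by rw [map_mul]; exact hk.sq _ ((hmemP _).mpr ((hP _).mpr ht.1)))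
    simpa using this
  have hcomm : ∀ x ∈ (S : Subgroup H), ∀ y ∈ (S : Subgroup H), Cen (S : Subgroup H) ⁅x, y⁆ := by
    intro x hx y hy
    obtain ⟨t, ht, t', ht', h⟩ := hs.comm_mem hx hy
    rw [h]
    have := hT1 ⁅(⟨t, ht.2⟩ : ↥K), ⟨t', ht'.2⟩⁆
      ((hP _).mpr (by
        rw [← coe_subtype, map_commutatorElement, commutatorElement_def]
        exact mul_mem (mul_mem (mul_mem ht.1 ht'.1) ((S : Subgroup H).inv_mem ht.1))
          ((S : Subgroup H).inv_mem ht'.1)))
      (by rw [map_commutatorElement]; exact hk.comm _ ((hmemP _).mpr ((hP _).mpr ht.1)) _ ((hmemP _).mpr ((hP _).mpr ht'.1)))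
    rwa [← coe_subtype, map_commutatorElement] at this
  refine ⟨hsq, hcomm, ?_⟩
  let ι : (P : Subgroup ↥K) →* (S : Subgroup H) :=
    (K.subtype.comp (P : Subgroup ↥K).subtype).codRestrict (S : Subgroup H) fun x => (hP x).mp x.2
  let f1 := (QuotientGroup.mk' (center (S : Subgroup H))).comp ι
  have hf1 : Function.Surjective f1 := fun y => by
    obtain ⟨⟨x, hx⟩, rfl⟩ := QuotientGroup.mk'_surjective _ y
    obtain ⟨t, ht, r, hr, h⟩ := hs.decomp x hx
    refine ⟨⟨⟨t, ht.2⟩, (hP _).mpr ht.1⟩, (QuotientGroup.eq (s := center (S : Subgroup H))).mpr ?_⟩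
    refine mem_center_iff.mpr fun s => Subtype.ext ?_
    show (s : H) * (t⁻¹ * x) = t⁻¹ * x * s
    rw [← h, inv_mul_cancel_left]
    exact hcenR r hr s s.2
  let π : (P : Subgroup ↥K) →* (P' : Subgroup (↥K ⧸ center ↥K)) :=
    (q.comp (P : Subgroup ↥K).subtype).codRestrict (P' : Subgroup (↥K ⧸ center ↥K)) fun x => (hmemP x).mpr x.2
  let f2 := (QuotientGroup.mk' (center (P' : Subgroup (↥K ⧸ center ↥K)))).comp π
  have hπ : Function.Surjective π := fun y => by
    obtain ⟨x, hx⟩ := QuotientGroup.mk'_surjective (center ↥K) (y : ↥K ⧸ center ↥K)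
    exact ⟨⟨x, (hmemP x).mp (by rw [hx]; exact y.2)⟩, Subtype.ext hx⟩
  have hf2 : Function.Surjective f2 := (QuotientGroup.mk'_surjective _).comp hπ
  have hker : f1.ker = f2.ker := by
    ext x
    simp only [f1, f2, MonoidHom.mem_ker, MonoidHom.comp_apply, QuotientGroup.mk'_apply, QuotientGroup.eq_one_iff,
      mem_center_iff]
    constructor
    · intro h y
      obtain ⟨y, rfl⟩ := hπ y
      rw [← map_mul, ← map_mul]
      exact congrArg π (Subtype.ext (Subtype.ext (congrArg Subtype.val (h (ι y)) :)))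
    · intro h s
      exact Subtype.ext (hT1 x.1 x.2 (fun y hy => congrArg Subtype.val (h ⟨y, hy⟩)) s s.2)
  rw [← Nat.card_congr (QuotientGroup.quotientKerEquivOfSurjective f1 hf1).toEquiv,
    Nat.card_congr (QuotientGroup.quotientMulEquivOfEq hker).toEquiv,
    Nat.card_congr (QuotientGroup.quotientKerEquivOfSurjective f2 hf2).toEquiv]
  have h := card_eq_card_quotient_mul_card_subgroup (center (P' : Subgroup (↥K ⧸ center ↥K)))
  rw [← card_cen, h8, h64] at h
  omega

end CfsgLib.CentralInt
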