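import Cfsg.Agent.Lib.CentralInt.Simple
import Cfsg.Agent.Lib.CentralInt.Engine
import Cfsg.Agent.Lib.OddLocal.CommutatorPLength
import Cfsg.Agent.Lib.CTwoAbelian.PSLTwo
import Cfsg.Agent.Lib.UnitarySimple
import Cfsg.Agent.S0280
import Cfsg.Agent.S2112

/-!
Groups with central intersections and non-abelian Sylow 2-subgroups.

Blueprint: `blueprint/S3181.md` (General).
-/

set_option autoImplicit false
set_option linter.unusedSectionVars false
set_option linter.style.haveILetI false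

namespace CfsgLib.CentralInt

open Cfsg Subgroup
open scoped commutatorElement

universe u

variable {G : Type u} [Group G] [Finite G]

/-- A normal image of `S` gives a solvable group of 2-length one. -/
theorem solvable_of_bar_normal (S : Sylow 2 G) (hn : (barSyl S : Subgroup (G ⧸ pPrimeCore 2 G)).Normal) :
    Group.IsSolvable G ∧ PLengthLE 2 1 G := by
  haveI : Fact (Nat.Prime 2) := ⟨Nat.prime_two⟩
  refine ⟨?_, ?_⟩
  · haveI := hn
    haveI : Group.IsSolvable (pPrimeCore 2 G) := Cfsg.Agent.S0205.result core_odd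
    haveI : Group.IsSolvable (barSyl S : Subgroup (G ⧸ pPrimeCore 2 G)) := by
      haveI := (barSyl S).2.isNilpotent
      infer_instance
    haveI : Group.IsSolvable ((G ⧸ pPrimeCore 2 G) ⧸ (barSyl S : Subgroup (G ⧸ pPrimeCore 2 G))) :=
      Cfsg.Agent.S0205.result (by
        rw [← index_eq_card]
        exact Nat.not_even_iff_odd.mp fun he => (barSyl S).not_dvd_index (even_iff_two_dvd.mp he))
    haveI : Group.IsSolvable (G ⧸ pPrimeCore 2 G) :=
      Group.isSolvable_of_ker_le_range (barSyl S : Subgroup (G ⧸ pPrimeCore 2 G)).subtype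
        (QuotientGroup.mk' (barSyl S : Subgroup (G ⧸ pPrimeCore 2 G))) (by rw [QuotientGroup.ker_mk', range_subtype])
    exact Group.isSolvable_of_ker_le_range (pPrimeCore 2 G).subtype (toQ G) (by rw [QuotientGroup.ker_mk', range_subtype])
  · refine CfsgLib.CommPLength.pLengthLE_of_sup_normal (S := (S : Subgroup G)) (N := pPrimeCore 2 G) S.2
      S.not_dvd_index (CfsgLib.card_pPrimeCore_coprime 2) ?_
    have e : (barSyl S : Subgroup (G ⧸ pPrimeCore 2 G)).comap (toQ G) = (S : Subgroup G) ⊔ pPrimeCore 2 G := by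
      show ((S : Subgroup G).map (toQ G)).comap (toQ G) = _
      rw [comap_map_eq, QuotientGroup.ker_mk']
    exact e ▸ hn.comap _

/-- The component of `L₂(4)` type. -/
theorem sl_branch (hCI : CI G) (S : Sylow 2 G) {K : Subgroup (G ⧸ pPrimeCore 2 G)} (hs : Struct (barSyl S) K)
    (hc2 : Nat.card (center ↥K) = 2) {F : Type} [Field F] [Fintype F] (hF : Fintype.card F = 4)
    (e : ↥K ⧸ center ↥K ≃* Matrix.ProjectiveSpecialLinearGroup (Fin 2) F) :
    ∃ (N M : Subgroup G) (_ : N.Normal) (_ : M.Normal) (_ : (N.subgroupOf M).Normal), N < M ∧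
      Odd (Nat.card ↥N) ∧ Odd M.index ∧
      ∃ A L : Subgroup (↥M ⧸ N.subgroupOf M), IsMulCommutative ↥A ∧ IsPGroup 2 ↥A ∧
        Nonempty (↥L ≃* Matrix.SpecialLinearGroup (Fin 2) (ZMod 5)) ∧ (∀ a ∈ A, ∀ l ∈ L, a * l = l * a) ∧
        A ⊔ L = ⊤ := by
  haveI : Fact (Nat.Prime 2) := ⟨Nat.prime_two⟩
  haveI : Fact (Nat.Prime 5) := ⟨by norm_num⟩
  haveI := hs.normal
  obtain ⟨e5⟩ := CfsgLib.CTwoAbelian.psl_four_five (F := F) hF
  obtain ⟨eK⟩ := CfsgLib.CTwoAbelian.sl_two_five (F := ZMod 5) hs.comp.2.1.commutator_eq_top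
    (fun h => by rw [h, Subgroup.card_bot] at hc2; norm_num at hc2) (ZMod.card 5) (e.trans e5)
  set R := pCore 2 (G ⧸ pPrimeCore 2 G)
  set N := pPrimeCore 2 G
  set M := (K ⊔ R).comap (toQ G)
  haveI hMn : M.Normal := inferInstance
  have hRK : ∀ r ∈ R, ∀ l ∈ K, r * l = l * r := by
    intro r hr l hl
    have hle : (barSyl S : Subgroup (G ⧸ pPrimeCore 2 G)) ≤ centralizer (R : Set (G ⧸ pPrimeCore 2 G)) :=
      fun s hs' => mem_centralizer_iff.mpr fun r hr => (hs.central r hr s hs').symm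
    have hK := perfect_le_of_index_odd (comp_perfect hs.comp) (N := centralizer (R : Set (G ⧸ pPrimeCore 2 G)))
      (Nat.not_even_iff_odd.mp fun he =>
        (barSyl S).not_dvd_index ((even_iff_two_dvd.mp he).trans (index_dvd_of_le hle)))
    exact mem_centralizer_iff.mp (hK hl) r hr
  have hSM : (barSyl S : Subgroup (G ⧸ pPrimeCore 2 G)) ≤ K ⊔ R := fun x hx => by
    obtain ⟨t, ht, r, hr, rfl⟩ := hs.decomp x hx
    exact mul_mem (mem_sup_left ht.2) (mem_sup_right hr)
  have hNM : N ≤ M := fun x hx => by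
    show toQ G x ∈ K ⊔ R
    rw [show toQ G x = 1 from (QuotientGroup.eq_one_iff x).mpr hx]
    exact one_mem _
  haveI hNsub : (N.subgroupOf M).Normal := inferInstance
  refine ⟨N, M, inferInstance, hMn, hNsub, lt_of_le_of_ne hNM fun h => quot_not_comm hs.comp ?_,
    core_odd, ?_, ?_⟩
  · have hK1 : K = ⊥ := by
      rw [eq_bot_iff]
      intro y hy
      obtain ⟨x, rfl⟩ := QuotientGroup.mk'_surjective (pPrimeCore 2 G) y
      exact mem_bot.mpr ((QuotientGroup.eq_one_iff x).mpr (show x ∈ N from h ▸ (show x ∈ M from mem_sup_left hy)))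
    refine ⟨⟨fun a b => ?_⟩⟩
    obtain ⟨a, rfl⟩ := QuotientGroup.mk'_surjective _ a
    obtain ⟨b, rfl⟩ := QuotientGroup.mk'_surjective _ b
    rw [← map_mul, ← map_mul]
    refine congrArg _ (Subtype.ext ?_)
    have hone : ∀ z : ↥K, (z : G ⧸ pPrimeCore 2 G) = 1 := fun z => mem_bot.mp (hK1.le z.2)
    rw [Subgroup.coe_mul, Subgroup.coe_mul, hone a, hone b]
  · show Odd ((K ⊔ R).comap (toQ G)).index
    rw [index_comap_of_surjective _ (QuotientGroup.mk'_surjective _)]
    exact Nat.not_even_iff_odd.mp fun he =>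
      (barSyl S).not_dvd_index ((even_iff_two_dvd.mp he).trans (index_dvd_of_le hSM))
  set ψ : ↥M ⧸ N.subgroupOf M →* G ⧸ pPrimeCore 2 G :=
    QuotientGroup.lift (N.subgroupOf M) ((toQ G).comp M.subtype) fun x hx =>
      MonoidHom.mem_ker.mpr ((QuotientGroup.eq_one_iff (x : G)).mpr hx)
  have hψ : Function.Injective ψ := by
    rw [injective_iff_map_eq_one]
    intro y hy
    obtain ⟨x, rfl⟩ := QuotientGroup.mk'_surjective (N.subgroupOf M) y
    exact (QuotientGroup.eq_one_iff x).mpr (show (x : G) ∈ N from (QuotientGroup.eq_one_iff (x : G)).mp hy)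
  have hrange : ψ.range = K ⊔ R := by
    ext y
    constructor
    · rintro ⟨z, rfl⟩
      obtain ⟨x, rfl⟩ := QuotientGroup.mk'_surjective (N.subgroupOf M) z
      exact x.2
    · intro hy
      obtain ⟨x, rfl⟩ := QuotientGroup.mk'_surjective (pPrimeCore 2 G) y
      exact ⟨QuotientGroup.mk ⟨x, hy⟩, rfl⟩
  have hmapK : (K.comap ψ).map ψ = K := by
    rw [map_comap_eq, hrange]; exact inf_eq_right.mpr le_sup_left
  refine ⟨R.comap ψ, K.comap ψ, ⟨⟨fun a b => Subtype.ext (hψ ?_)⟩⟩,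
    (CfsgLib.isPGroup_pCore 2).comap_of_injective ψ hψ,
    ⟨((equivMapOfInjective _ ψ hψ).trans (MulEquiv.subgroupCongr hmapK)).trans eK⟩,
    fun a ha l hl => hψ (by rw [map_mul, map_mul]; exact hRK _ ha _ hl), map_injective hψ ?_⟩
  · rw [Subgroup.coe_mul, Subgroup.coe_mul, map_mul, map_mul]
    exact hs.central _ b.2 _ (CfsgLib.pCore_le_sylow (barSyl S) a.2)
  · rw [Subgroup.map_sup, hmapK, map_comap_eq, hrange, inf_eq_right.mpr le_sup_right, ← MonoidHom.range_eq_map,
      hrange, sup_comm]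

/-- A non-cyclic derived subgroup from the shape of the component. -/
theorem noncyclic_of_szpsu {H : Type u} [Group H] [Finite H] {S : Sylow 2 H} {K : Subgroup H} (hs : Struct S K)
    (hsz : SzPSU (↥K ⧸ center ↥K)) : ¬ IsCyclic ↥⁅(S : Subgroup H), (S : Subgroup H)⁆ := by
  intro hc
  haveI : Fact (Nat.Prime 2) := ⟨Nat.prime_two⟩
  obtain ⟨P, hP⟩ := exists_sylow_inf S hs.comp
  set q := QuotientGroup.mk' (center ↥K)
  obtain ⟨k, hk⟩ := hsz.hasShape (P.mapSurjective (f := q) (QuotientGroup.mk'_surjective _))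
  set T : Subgroup (↥K ⧸ center ↥K) := (P : Subgroup ↥K).map q
  set W := ⁅(P : Subgroup ↥K), (P : Subgroup ↥K)⁆
  haveI : IsCyclic W := by
    haveI := hc
    have hle : W.map K.subtype ≤ ⁅(S : Subgroup H), (S : Subgroup H)⁆ := by
      rw [map_commutator]
      exact commutator_mono (by rintro _ ⟨x, hx, rfl⟩; exact (hP x).mp hx) (by rintro _ ⟨x, hx, rfl⟩; exact (hP x).mp hx)
    haveI : IsCyclic ↥(W.map K.subtype) := isCyclic_of_injective (inclusion hle) (inclusion_injective hle)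
    exact (MulEquiv.isCyclic (equivMapOfInjective W K.subtype K.subtype_injective)).mpr inferInstance
  haveI : IsCyclic ↥⁅T, T⁆ := by
    rw [← map_commutator]
    exact isCyclic_of_surjective (q.subgroupMap W) (q.subgroupMap_surjective W)
  obtain ⟨x, hx, y, hy, hxy⟩ := hk.nonab
  have hcD : ⁅x, y⁆ ∈ ⁅T, T⁆ := commutator_mem_commutator hx hy
  have hc1 : ⁅x, y⁆ ≠ 1 := fun h => hxy (commutatorElement_eq_one_iff_mul_comm.mp h)
  have hall : ∀ z ∈ T, Cen T z → z ≠ 1 → z ∈ ⁅T, T⁆ := by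
    intro z hz hzc hz1
    obtain ⟨i, hi⟩ := hk.trans _ (Subgroup.commutator_le_self T hcD) (hk.comm x hx y hy) hc1 z hz hzc hz1
    have h : k ^ i * ⁅x, y⁆ * (k ^ i)⁻¹ ∈ (⁅T, T⁆).map (MulAut.conj (k ^ i)).toMonoidHom := ⟨_, hcD, rfl⟩
    rw [map_commutator, CfsgLib.Local.map_conj_eq_of_mem_normalizer
      (show k ^ i ∈ normalizer (T : Set (↥K ⧸ center ↥K)) from pow_mem hk.norm i)] at h
    rwa [hi] at h
  obtain ⟨z, w, hz, hzc, hw, hwc, hz1, hw1, hzw⟩ := hk.two
  classical
  haveI := Fintype.ofFinite ↥⁅T, T⁆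
  have hle := IsCyclic.card_pow_eq_one_le (α := ↥⁅T, T⁆) (n := 2) two_pos
  have hsub : ({⟨1, one_mem _⟩, ⟨z, hall z hz hzc hz1⟩, ⟨w, hall w hw hwc hw1⟩} : Finset ↥⁅T, T⁆) ⊆
      Finset.univ.filter fun a => a ^ 2 = 1 := by
    intro a ha
    rw [Finset.mem_filter]
    refine ⟨Finset.mem_univ _, ?_⟩
    rw [pow_two]
    simp only [Finset.mem_insert, Finset.mem_singleton] at ha
    rcases ha with rfl | rfl | rfl
    · exact Subtype.ext (one_mul 1)
    · exact Subtype.ext (hk.inv z hz hzc)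
    · exact Subtype.ext (hk.inv w hw hwc)
  have := (Finset.card_le_card hsub).trans hle
  rw [Finset.card_insert_of_notMem, Finset.card_pair] at this
  · omega
  · exact fun h => hzw (congrArg Subtype.val h)
  · simp only [Finset.mem_insert, Finset.mem_singleton, not_or]
    exact ⟨fun h => hz1 (congrArg Subtype.val h).symm, fun h => hw1 (congrArg Subtype.val h).symm⟩

/-- The component of Suzuki or unitary type. -/
theorem szpsu_branch (hCI : CI G) (S : Sylow 2 G) {K : Subgroup (G ⧸ pPrimeCore 2 G)} (hs : Struct (barSyl S) K)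
    (hsz : SzPSU (↥K ⧸ center ↥K)) :
    ∃ (M : Subgroup G), M.Normal ∧ Odd M.index ∧ ∃ A L : Subgroup G, IsMulCommutative ↥A ∧ IsPGroup 2 ↥A ∧
      ((Cfsg.IsInternalDirectProduct A L M ∧
          ((∃ (m : ℕ) (F : Type) (_ : Field F) (_ : Fintype F), 1 ≤ m ∧ Fintype.card F = 2 ^ (2 * m + 1) ∧
              Nonempty (↥L ≃* ↥(Cfsg.Lie.Sz F (2 ^ (m + 1))))) ∨
            (∃ (n : ℕ) (F : Type) (_ : Field F) (_ : Fintype F), 2 ≤ n ∧ Fintype.card F = 4 ^ n ∧
              (Nonempty (↥L ≃* Cfsg.PSU 3 F (2 ^ n)) ∨ Nonempty (↥L ≃* ↥(Cfsg.SU 3 F (2 ^ n))))))) ∨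
        (A ≤ M ∧ L ≤ M ∧ (∀ a ∈ A, ∀ l ∈ L, a * l = l * a) ∧ A ⊔ L = M ∧ Group.IsPerfect ↥L ∧
          Subgroup.center ↥L ≠ ⊥ ∧
          ∃ (F : Type) (_ : Field F) (_ : Fintype F), Fintype.card F = 8 ∧
            Nonempty (↥L ⧸ Subgroup.center ↥L ≃* ↥(Cfsg.Lie.Sz F 4)))) := by
  haveI : Fact (Nat.Prime 2) := ⟨Nat.prime_two⟩
  haveI := hs.normal
  have hnc : ¬ IsCyclic ↥⁅(S : Subgroup G), (S : Subgroup G)⁆ := fun hc => noncyclic_of_szpsu hs hsz (by
    haveI := hc
    rw [bar_commutator]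
    exact isCyclic_of_surjective ((toQ G).subgroupMap _) ((toQ G).subgroupMap_surjective _))
  set O := pPrimeCore 2 G
  have hcent : ∀ o ∈ O, ∀ s ∈ (S : Subgroup G), o * s = s * o :=
    hCI.odd_centralised S hnc O core_odd fun s _ => by rw [normalizer_eq_top]; exact mem_top s
  set R := pCore 2 (G ⧸ pPrimeCore 2 G)
  set A := pCore 2 G
  set L := perfCore (⊤ : Subgroup G)
  haveI hLn : L.Normal := perfCore_top_normal
  have hLK : L.map (toQ G) = K := perfCore_map hs
  have hLO := perfCore_cent hcent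
  have hAS : A ≤ (S : Subgroup G) := CfsgLib.pCore_le_sylow S
  have hAR : A.map (toQ G) ≤ R := by
    haveI : (A.map (toQ G)).Normal := (inferInstance : A.Normal).map _ (QuotientGroup.mk'_surjective _)
    exact CfsgLib.le_pCore ((CfsgLib.isPGroup_pCore 2).map _)
  -- elements of `S` over `R` lie in `A`
  set U := (S : Subgroup G) ⊓ R.comap (toQ G)
  have hU : U ≤ A := by
    haveI hn : U.Normal := ⟨fun x hx g => by
      have hR' : toQ G (g * x * g⁻¹) ∈ R := by
        rw [map_mul, map_mul, map_inv]; exact (inferInstance : R.Normal).conj_mem _ hx.2 _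
      obtain ⟨s, hsS, hse⟩ := CfsgLib.pCore_le_sylow (barSyl S) hR'
      set o := s⁻¹ * (g * x * g⁻¹)
      have ho : o ∈ O := QuotientGroup.eq.mp hse
      obtain ⟨n, hn⟩ := S.2 ⟨x, hx.1⟩
      obtain ⟨n', hn'⟩ := S.2 ⟨s, hsS⟩
      have hx' : x ^ 2 ^ n = 1 := by simpa using congrArg Subtype.val hn
      have hs' : s ^ 2 ^ n' = 1 := by simpa using congrArg Subtype.val hn'
      have h1 : (g * x * g⁻¹) ^ 2 ^ (n + n') = 1 := by
        rw [conj_pow, pow_add, pow_mul, hx', one_pow, mul_one, mul_inv_cancel]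
      rw [show g * x * g⁻¹ = s * o from (mul_inv_cancel_left s _).symm,
        (show Commute s o from (hcent o ho s hsS).symm).mul_pow, pow_add, pow_mul', hs', one_pow, one_mul,
        ← pow_add, Nat.add_comm] at h1
      have h2 : g * x * g⁻¹ = s := by
        rw [show g * x * g⁻¹ = s * o from (mul_inv_cancel_left s _).symm,
          eq_one_of_pow_two ho h1, mul_one]
      exact ⟨h2 ▸ hsS, hR'⟩⟩
    exact CfsgLib.le_pCore (S.2.to_le inf_le_left)
  have hRA : ∀ r ∈ R, ∃ a ∈ A, toQ G a = r := fun r hr => by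
    obtain ⟨s, hs', e⟩ := CfsgLib.pCore_le_sylow (barSyl S) hr
    exact ⟨s, hU ⟨hs', show toQ G s ∈ R by rw [e]; exact hr⟩, e⟩
  have hAc : ∀ a ∈ A, Cen (S : Subgroup G) a := fun a ha =>
    (cen_bar (hAS ha)).mp (hs.central _ (hAR (mem_map_of_mem _ ha)))
  have hRK : ∀ r ∈ R, ∀ y ∈ K, y * r = r * y := by
    intro r hr y hy
    have hle : (barSyl S : Subgroup (G ⧸ pPrimeCore 2 G)) ≤ centralizer (R : Set (G ⧸ pPrimeCore 2 G)) :=
      fun s hs' => mem_centralizer_iff.mpr fun r hr => (hs.central r hr s hs').symm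
    have hK := perfect_le_of_index_odd (comp_perfect hs.comp) (N := centralizer (R : Set (G ⧸ pPrimeCore 2 G)))
      (Nat.not_even_iff_odd.mp fun he =>
        (barSyl S).not_dvd_index ((even_iff_two_dvd.mp he).trans (index_dvd_of_le hle)))
    exact (mem_centralizer_iff.mp (hK hy) r hr).symm
  have hAL : ∀ a ∈ A, ∀ l ∈ L, a * l = l * a := fun a ha l hl =>
    (mem_centralizer_singleton_iff.mp (perfCore_le_centralizer hcent hs (a := a)
      (fun y hy => hRK _ (hAR (mem_map_of_mem _ ha)) y hy) hl)).symm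
  have hzc : ∀ z ∈ (center ↥K).map K.subtype, z ∈ R := fun z hz => hs.zc hz
  -- the Sylow subgroup lies in `A L`
  have hSM : (S : Subgroup G) ≤ A ⊔ L := by
    intro s hsS
    obtain ⟨t, ht, r, hr, e⟩ := hs.decomp _ (bar_mk hsS)
    obtain ⟨l, hl, rfl⟩ := hLK.ge ht.2
    obtain ⟨a, ha, rfl⟩ := hRA r hr
    rw [← map_mul] at e
    set o := (l * a)⁻¹ * s
    have ho : o ∈ O := QuotientGroup.eq.mp e
    have hs' : s = l * a * o := (mul_inv_cancel_left _ s).symm
    have hla : l * a ∈ A ⊔ L := mul_mem (mem_sup_right hl) (mem_sup_left ha)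
    have hc1 : Commute (l * a) o := by
      refine Commute.mul_left (mem_centralizer_iff.mp (hLO hl) o ho).symm ?_
      exact ((hcent o ho a (hAS ha)).symm : Commute a o)
    obtain ⟨n, hn⟩ := S.2 ⟨s, hsS⟩
    have hn' : s ^ 2 ^ n = 1 := by simpa using congrArg Subtype.val hn
    rw [hs', hc1.mul_pow] at hn'
    have ho' : o ^ 2 ^ n ∈ A ⊔ L := by
      rw [eq_inv_of_mul_eq_one_right hn']; exact inv_mem (pow_mem hla _)
    have hoM : o ∈ A ⊔ L := by
      obtain ⟨m, hm⟩ := exists_pow_eq_self_of_coprime (x := o) (n := 2 ^ n)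
        (((Nat.coprime_two_left.mpr core_odd).pow_left n).coprime_dvd_right (Subgroup.orderOf_dvd_natCard _ ho))
      rw [← hm]; exact pow_mem ho' m
    rw [hs']
    exact mul_mem hla hoM
  refine ⟨A ⊔ L, Subgroup.sup_normal A L, Nat.not_even_iff_odd.mp fun he =>
      S.not_dvd_index ((even_iff_two_dvd.mp he).trans (index_dvd_of_le hSM)), A, L,
    ⟨⟨fun a b => Subtype.ext (hAc b b.2 a (hAS a.2))⟩⟩, CfsgLib.isPGroup_pCore 2, ?_⟩
  have hperf : commutator ↥L = ⊤ := map_injective L.subtype_injective (by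
    rw [_root_.commutator_def, map_commutator, ← MonoidHom.range_eq_map, range_subtype, perfCore_perfect])
  let φ : ↥L →* ↥K := ((toQ G).comp L.subtype).codRestrict K fun x => hLK.le (mem_map_of_mem _ x.2)
  have hφ : Function.Surjective φ := fun y => by
    obtain ⟨x, hx, e⟩ := hLK.ge y.2
    exact ⟨⟨x, hx⟩, Subtype.ext e⟩
  let σ : ↥L →* ↥K ⧸ center ↥K := (QuotientGroup.mk' (center ↥K)).comp φ
  have hσ : Function.Surjective σ := (QuotientGroup.mk'_surjective _).comp hφ
  have hker : σ.ker = center ↥L := by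
    ext x
    rw [MonoidHom.mem_ker, MonoidHom.comp_apply, QuotientGroup.mk'_apply, QuotientGroup.eq_one_iff]
    constructor
    · intro hx
      refine mem_center_iff.mpr fun l => Subtype.ext ?_
      exact mem_centralizer_singleton_iff.mp (perfCore_le_centralizer hcent hs (a := (x : G))
        (fun y hy => congrArg Subtype.val (mem_center_iff.mp hx ⟨y, hy⟩)) l.2)
    · intro hx
      refine mem_center_iff.mpr fun y => ?_
      obtain ⟨l, rfl⟩ := hφ y
      rw [← map_mul, ← map_mul, mem_center_iff.mp hx l]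
  by_cases hZ : center ↥K = ⊥
  · have hkO : ∀ x : ↥L, x ∈ σ.ker → (x : G) ∈ O := fun x hx => by
      rw [MonoidHom.mem_ker, MonoidHom.comp_apply, QuotientGroup.mk'_apply, QuotientGroup.eq_one_iff, hZ, mem_bot] at hx
      exact (QuotientGroup.eq_one_iff _).mp (congrArg Subtype.val hx)
    have hodd : Odd (Nat.card σ.ker) := by
      refine core_odd.of_dvd_nat (n := Nat.card O) (Subgroup.card_dvd_of_injective
        ((L.subtype.comp σ.ker.subtype).codRestrict O fun x => hkO x x.2) fun a b h => ?_)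
      exact Subtype.ext (Subtype.ext (congrArg (fun z : O => (z : G)) h))
    have hdisj : A ⊓ L = ⊥ := eq_bot_iff.mpr fun x hx => by
      have hxR : toQ G x ∈ R := hAR (mem_map_of_mem _ hx.1)
      have hxK : toQ G x ∈ K := hLK.le (mem_map_of_mem _ hx.2)
      have h1 : (⟨_, hxK⟩ : ↥K) ∈ center ↥K := mem_center_iff.mpr fun y => Subtype.ext (hRK _ hxR y y.2)
      rw [hZ, mem_bot] at h1
      obtain ⟨n, hn⟩ := CfsgLib.isPGroup_pCore 2 (⟨x, hx.1⟩ : A)
      exact mem_bot.mpr (eq_one_of_pow_two ((QuotientGroup.eq_one_iff x).mp (congrArg Subtype.val h1))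
        (by simpa using congrArg Subtype.val hn))
    have heq : ∀ {Q : Type} [Group Q] (e : ↥K ⧸ center ↥K ≃* Q), σ.ker = ⊥ → Nonempty (↥L ≃* Q) := fun e hk =>
      ⟨(MulEquiv.ofBijective σ ⟨(MonoidHom.ker_eq_bot_iff σ).mp hk, hσ⟩).trans e⟩
    have hdvd : ∀ {Q : Type} [Group Q] (e : ↥K ⧸ center ↥K ≃* Q) {A' : Type} [CommGroup A'] [Finite A'],
        HasSchurMultiplier Q A' → Nat.card σ.ker ∣ Nat.card A' := by
      intro Q _ e A' _ _ hm
      have hk : (e.toMonoidHom.comp σ).ker = σ.ker := by ext x; simp [MonoidHom.mem_ker]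
      have := kernel_dvd hm hperf (σ := e.toMonoidHom.comp σ) (e.surjective.comp hσ) (hk.trans hker).le
      rwa [show Nat.card (e.toMonoidHom.comp σ).ker = Nat.card σ.ker by rw [hk]] at this
    left
    refine ⟨⟨le_sup_left, le_sup_right, hAL, hdisj, rfl⟩, ?_⟩
    rcases hsz with ⟨F, i1, i2, m, hm, hc, ⟨e⟩⟩ | ⟨F, i1, i2, n, hn, hF, ⟨e⟩⟩
    · refine Or.inl ⟨m, F, i1, i2, hm, hc, heq e (eq_bot_of_card_eq _ ?_)⟩
      rcases Nat.lt_or_ge m 2 with h1 | h2
      · obtain rfl : m = 1 := by omega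
        have hd := hdvd e (Cfsg.Agent.S2112.result (F := F) (by rw [hc]; norm_num))
        rw [Nat.card_congr Multiplicative.toAdd, Nat.card_prod, Nat.card_zmod] at hd
        exact Nat.eq_one_of_dvd_coprimes ((Nat.coprime_two_right.mpr hodd).pow_right 2) dvd_rfl
          (hd.trans (by norm_num))
      · have hd := hdvd e (Cfsg.Agent.S2111.result h2 hc)
        rw [Nat.card_congr Multiplicative.toAdd, Nat.card_zmod] at hd
        exact Nat.dvd_one.mp hd
    · have hn1 : 4 ≤ 2 ^ n := le_trans (by norm_num) (Nat.pow_le_pow_right (by norm_num : 1 ≤ 2) hn)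
      have hm := Cfsg.Agent.S2089.result (F := F) 3 (2 ^ n) hF le_rfl (fun h => by omega)
        (fun h => by simp [Prod.mk.injEq] at h)
      haveI : NeZero (Nat.gcd 3 (2 ^ n + 1)) := ⟨fun h => by simp at h⟩
      have hd := hdvd e hm
      rw [Nat.card_congr Multiplicative.toAdd, Nat.card_zmod] at hd
      have hc : Fintype.card F = 4 ^ n := by rw [hF, ← pow_mul, mul_comm, pow_mul]; norm_num
      refine Or.inr ⟨n, F, i1, i2, hn, hc, ?_⟩
      by_cases h1 : Nat.card σ.ker = 1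
      · exact Or.inl (heq e (eq_bot_of_card_eq _ h1))
      right
      have hg : Nat.card σ.ker = Nat.gcd 3 (2 ^ n + 1) := by
        have h3 : Nat.gcd 3 (2 ^ n + 1) ∣ 3 := Nat.gcd_dvd_left _ _
        rcases (Nat.dvd_prime Nat.prime_three).mp h3 with h | h
        · rw [h] at hd; exact absurd (Nat.dvd_one.mp hd) h1
        · rw [h] at hd ⊢
          exact ((Nat.dvd_prime Nat.prime_three).mp hd).resolve_left h1
      have hk : (e.toMonoidHom.comp σ).ker = σ.ker := by ext x; simp [MonoidHom.mem_ker]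
      exact cover_unique hm hperf (σ := e.toMonoidHom.comp σ) (e.surjective.comp hσ) (hk.trans hker).le
        (by rw [hk, hg, Nat.card_congr Multiplicative.toAdd, Nat.card_zmod])
        (CfsgLib.UnitarySimple.perfect hF le_rfl (fun h => by omega))
        (τ := QuotientGroup.mk' (center (Cfsg.SU 3 F (2 ^ n)))) (QuotientGroup.mk'_surjective _)
        (by rw [QuotientGroup.ker_mk'])
        (by rw [QuotientGroup.ker_mk', Cfsg.Agent.S0280.center_card hF 3 (by norm_num),
          Nat.card_congr Multiplicative.toAdd, Nat.card_zmod])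
  · obtain ⟨z, hz, hz1⟩ : ∃ z ∈ center ↥K, z ≠ 1 := by
      by_contra h
      push Not at h
      exact hZ (eq_bot_iff.mpr fun z hz => mem_bot.mpr (h z hz))
    obtain ⟨F, i1, i2, hF, ⟨e⟩⟩ := hs.sz8 hsz hz hz1
    right
    refine ⟨le_sup_left, le_sup_right, hAL, rfl, ⟨hperf⟩, fun hbot => ?_, F, i1, i2, hF,
      ⟨((QuotientGroup.quotientMulEquivOfEq hker.symm).trans
        (QuotientGroup.quotientKerEquivOfSurjective σ hσ)).trans e⟩⟩
    obtain ⟨l, rfl⟩ := hφ z
    have hl : l ∈ center ↥L := by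
      rw [← hker, MonoidHom.mem_ker, MonoidHom.comp_apply, QuotientGroup.mk'_apply, QuotientGroup.eq_one_iff]
      exact hz
    rw [hbot, mem_bot] at hl
    exact hz1 (by rw [hl, map_one])

/-- Groups with central intersections and non-abelian Sylow 2-subgroups. -/
theorem general (hCI : CI G) (S : Sylow 2 G) (hS : ¬ IsMulCommutative (S : Subgroup G)) :
    (Group.IsSolvable G ∧ PLengthLE 2 1 G) ∨
      ∃ K : Subgroup (G ⧸ pPrimeCore 2 G), Struct (barSyl S) K := by
  by_cases hn : (barSyl S : Subgroup (G ⧸ pPrimeCore 2 G)).Normal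
  · exact Or.inl (solvable_of_bar_normal S hn)
  · exact Or.inr (core_struct abGood (fun X _ _ _ hs hX hc T hT => szpsu_of_simple abGood X hs hX hc T hT)
      (CfsgLib.pPrimeCore_quotient_eq_bot 2) hCI.bar (barSyl S) (bar_not_comm hS) hn)

end CfsgLib.CentralInt
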