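import Cfsg.Agent.Lib.CentralInt.Basic
import Cfsg.Agent.Lib.CoprimeGen
import Cfsg.Agent.Lib.UniqueSubgroup

/-!
A Sylow 2-subgroup with non-cyclic derived group centralises every subgroup of odd order that it normalises.

Blueprint: `blueprint/S3181.md` (Odd).
-/

set_option autoImplicit false
set_option linter.unusedSectionVars false
set_option linter.style.haveILetI false

namespace CfsgLib.CentralInt

open Cfsg Subgroup
open scoped commutatorElement

universe u

variable {G : Type u} [Group G]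

/-- A group that is cyclic-by-two over a central subgroup has cyclic derived group. -/
theorem cyclic_commutator {P : Type u} [Group P] {K : Subgroup P} (hK : K ≤ center P) (a b : P)
    (hgen : ∀ x : P, ∃ i : ℤ, ∃ k ∈ K, x = a ^ i * k ∨ x = a ^ i * b * k)
    (hb : ∃ i : ℤ, ∃ k ∈ K, b * a * b⁻¹ = a ^ i * k) : IsCyclic (commutator P) := by
  obtain ⟨i, k, hk, hi⟩ := hb
  set c := b * a * b⁻¹ * a⁻¹ with hc
  have hkc : ∀ k ∈ K, ∀ x : P, x * k = k * x := fun k hk x => mem_center_iff.mp (hK hk) x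
  have hce : c = a ^ (i - 1) * k := by
    rw [hc, hi, mul_assoc, ← hkc k hk, ← mul_assoc, ← zpow_neg_one, ← zpow_add, sub_eq_add_neg]
  set R := zpowers c with hR
  have hb2 : b * c * b⁻¹ = c ^ i := by
    have hkk : Commute k (a ^ (i - 1)) := ((hkc k hk (a ^ (i - 1))).symm : _)
    calc b * c * b⁻¹ = b * a ^ (i - 1) * b⁻¹ * (b * k * b⁻¹) := by rw [hce]; group
      _ = (b * a * b⁻¹) ^ (i - 1) * k := by rw [conj_zpow, hkc k hk b, mul_inv_cancel_right]
      _ = (a ^ i * k) ^ (i - 1) * k := by rw [hi]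
      _ = a ^ (i * (i - 1)) * (k ^ (i - 1) * k) := by
          rw [Commute.mul_zpow (hkc k hk (a ^ i) : Commute (a ^ i) k), ← zpow_mul, mul_assoc]
      _ = (a ^ (i - 1)) ^ i * k ^ i := by rw [← zpow_add_one, sub_add_cancel, ← zpow_mul, mul_comm i]
      _ = c ^ i := by rw [hce, Commute.mul_zpow hkk.symm]
  have hac : a * c * a⁻¹ = c := by
    rw [hce, ← mul_assoc, (Commute.self_zpow a (i - 1)).eq, mul_assoc (a ^ (i - 1)), hkc k hk a, mul_assoc,
      mul_assoc k, mul_inv_cancel, mul_one]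
  have hnorm : ∀ y : P, (∀ x ∈ R, y * x * y⁻¹ ∈ R) ↔ y * c * y⁻¹ ∈ R := fun y =>
    ⟨fun h => h c (mem_zpowers c), fun h x hx => by
      obtain ⟨j, rfl⟩ := mem_zpowers_iff.mp hx
      rw [← conj_zpow]
      exact zpow_mem h j⟩
  have hak : ∀ k ∈ K, k * c * k⁻¹ = c := fun k hk => by rw [← hkc k hk, mul_inv_cancel_right]
  have haz : ∀ j : ℤ, a ^ j * c * (a ^ j)⁻¹ = c := fun j => by
    have h1 : Commute a c := mul_inv_eq_iff_eq_mul.mp hac
    rw [(h1.zpow_left j).eq, mul_inv_cancel_right]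
  haveI : R.Normal := ⟨fun x hx y => by
    refine (hnorm y).mpr ?_ x hx
    obtain ⟨j, k', hk', rfl | rfl⟩ := hgen y
    · rw [show a ^ j * k' * c * (a ^ j * k')⁻¹ = a ^ j * (k' * c * k'⁻¹) * (a ^ j)⁻¹ by group, hak k' hk', haz]
      exact mem_zpowers c
    · rw [show a ^ j * b * k' * c * (a ^ j * b * k')⁻¹ = a ^ j * (b * (k' * c * k'⁻¹) * b⁻¹) * (a ^ j)⁻¹ by
        group, hak k' hk', hb2, ← conj_zpow, haz]
      exact zpow_mem (mem_zpowers c) i⟩
  let π := QuotientGroup.mk' R
  have hab : Commute (π b) (π a) := by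
    have h1 : π (b * a * b⁻¹ * a⁻¹) = 1 := (QuotientGroup.eq_one_iff _).mpr (mem_zpowers c)
    rw [map_mul, map_mul, map_mul, map_inv, map_inv] at h1
    exact (commutatorElement_eq_one_iff_mul_comm.mp (by rw [commutatorElement_def]; exact h1))
  have hkπ : ∀ k ∈ K, ∀ z, Commute (π k) z := fun k hk z => by
    obtain ⟨x, rfl⟩ := QuotientGroup.mk'_surjective R z
    show π k * π x = π x * π k
    rw [← map_mul, ← map_mul, hkc k hk x]
  have hall : ∀ x : P, Commute (π x) (π a) ∧ Commute (π x) (π b) := fun x => by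
    obtain ⟨j, k', hk', rfl | rfl⟩ := hgen x
    · rw [map_mul, map_zpow]
      exact ⟨((Commute.refl _).zpow_left j).mul_left (hkπ _ hk' _),
        (hab.symm.zpow_left j).mul_left (hkπ _ hk' _)⟩
    · rw [map_mul, map_mul, map_zpow]
      exact ⟨(((Commute.refl _).zpow_left j).mul_left hab).mul_left (hkπ _ hk' _),
        ((hab.symm.zpow_left j).mul_left (Commute.refl _)).mul_left (hkπ _ hk' _)⟩
  have hle : commutator P ≤ R := by
    rw [commutator_def, commutator_le]
    intro x _ y _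
    refine (QuotientGroup.eq_one_iff _).mp ?_
    show π ⁅x, y⁆ = 1
    rw [map_commutatorElement, commutatorElement_eq_one_iff_mul_comm]
    obtain ⟨j, k', hk', rfl | rfl⟩ := hgen y
    · rw [map_mul, map_zpow]
      exact (((hall x).1.zpow_right j).mul_right (hkπ _ hk' _).symm).eq
    · rw [map_mul, map_mul, map_zpow]
      exact ((((hall x).1.zpow_right j).mul_right (hall x).2).mul_right (hkπ _ hk' _).symm).eq
  exact isCyclic_of_injective (inclusion hle) (inclusion_injective hle)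

variable [Finite G]

theorem CI.odd_centralised (h : CI G) (S : Sylow 2 G)
    (hnc : ¬ IsCyclic ↥⁅(S : Subgroup G), (S : Subgroup G)⁆) (O : Subgroup G) (hodd : Odd (Nat.card O))
    (hSO : (S : Subgroup G) ≤ normalizer (O : Set G)) :
    ∀ o ∈ O, ∀ s ∈ (S : Subgroup G), o * s = s * o := by
  suffices ∀ n, ∀ O : Subgroup G, Nat.card O = n → Odd n → (S : Subgroup G) ≤ normalizer (O : Set G) →
      ∀ o ∈ O, ∀ s ∈ (S : Subgroup G), o * s = s * o from this _ O rfl hodd hSO
  clear hSO hodd O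
  intro n
  induction n using Nat.strong_induction_on with
  | _ n ih =>
  intro O hn hodd hSO o ho s hs
  subst hn
  haveI : Fact (Nat.Prime 2) := ⟨Nat.prime_two⟩
  set C0 := O ⊓ centralizer ((S : Subgroup G) : Set G) with hC0
  have hinv : ∀ t ∈ (S : Subgroup G), ∀ x ∈ O, t * x * t⁻¹ ∈ O := fun t ht x hx =>
    (mem_normalizer_iff.mp (hSO ht) x).mp hx
  have hSO1 : (S : Subgroup G) ⊓ O = ⊥ := by
    refine eq_bot_iff.mpr fun x hx => orderOf_eq_one_iff.mp ?_
    obtain ⟨j, hj⟩ := S.2 ⟨x, hx.1⟩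
    exact Nat.eq_one_of_dvd_coprimes ((Nat.coprime_two_left.mpr hodd).pow_left j)
      (orderOf_dvd_of_pow_eq_one (congrArg Subtype.val hj)) (Subgroup.orderOf_dvd_natCard _ hx.2)
  by_contra hbad
  have hfull : ¬ O ≤ C0 := fun hle => hbad ((mem_centralizer_iff.mp (hle ho).2 s hs).symm)
  -- an element either centralises `O` or has no more fixed points than `S`
  have hdich : ∀ z ∈ (S : Subgroup G), (∀ x ∈ O, x * z = z * x) ∨ ∀ x ∈ O, x * z = z * x → x ∈ C0 := by
    intro z hz
    refine or_iff_not_imp_left.mpr fun hne x hx hxz => ⟨hx, mem_centralizer_iff.mpr fun t ht => ?_⟩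
    by_cases hc : Cen (S : Subgroup G) z
    · have hlt : O ⊓ centralizer ({z} : Set G) < O := lt_of_le_of_ne inf_le_left fun e => hne fun y hy =>
        mem_centralizer_singleton_iff.mp (e.ge hy).2
      have hcard : Nat.card ↥(O ⊓ centralizer ({z} : Set G)) < Nat.card O :=
        lt_of_le_of_ne (card_le_of_le hlt.le) fun e => hlt.ne (eq_of_le_of_card_ge hlt.le e.ge)
      have hSn : (S : Subgroup G) ≤ normalizer ((O ⊓ centralizer ({z} : Set G) : Subgroup G) : Set G) := by
        intro r hr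
        refine mem_normalizer_fintype ?_
        intro y hy
        refine ⟨hinv r hr y hy.1, mem_centralizer_singleton_iff.mpr ?_⟩
        calc r * y * r⁻¹ * z = r * (y * (r⁻¹ * z)) := by group
          _ = r * (y * (z * r⁻¹)) := by rw [hc r⁻¹ (inv_mem hr)]
          _ = r * (z * y) * r⁻¹ := by rw [← mem_centralizer_singleton_iff.mp hy.2]; group
          _ = z * (r * y * r⁻¹) := by rw [← mul_assoc, hc r hr]; group
      exact (ih _ hcard _ rfl (hodd.of_dvd_nat (card_dvd_of_le hlt.le)) hSn x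
        ⟨hx, mem_centralizer_singleton_iff.mpr hxz⟩ t ht).symm
    · have hxN := h.cent_le hz hc (mem_centralizer_singleton_iff.mpr hxz)
      have h1 : t * x * t⁻¹ * x⁻¹ ∈ (S : Subgroup G) ⊓ O := by
        refine ⟨?_, O.mul_mem (hinv t ht x hx) (O.inv_mem hx)⟩
        rw [show t * x * t⁻¹ * x⁻¹ = t * (x * t⁻¹ * x⁻¹) by group]
        exact mul_mem ht ((mem_normalizer_iff.mp hxN t⁻¹).mp ((S : Subgroup G).inv_mem ht))
      rw [hSO1, mem_bot, mul_inv_eq_one, mul_inv_eq_iff_eq_mul] at h1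
      exact h1
  set K := (S : Subgroup G) ⊓ centralizer (O : Set G) with hK
  have hKc : ∀ k ∈ K, Cen (S : Subgroup G) k := fun k hk => by
    by_contra hn
    refine hfull fun x hx => ?_
    refine ⟨hx, mem_centralizer_iff.mpr fun t ht => ?_⟩
    have hxN := h.cent_le hk.1 hn (mem_centralizer_singleton_iff.mpr (mem_centralizer_iff.mp hk.2 x hx))
    have h1 : t * x * t⁻¹ * x⁻¹ ∈ (S : Subgroup G) ⊓ O := by
      refine ⟨?_, O.mul_mem (hinv t ht x hx) (O.inv_mem hx)⟩
      rw [show t * x * t⁻¹ * x⁻¹ = t * (x * t⁻¹ * x⁻¹) by group]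
      exact mul_mem ht ((mem_normalizer_iff.mp hxN t⁻¹).mp ((S : Subgroup G).inv_mem ht))
    rw [hSO1, mem_bot, mul_inv_eq_one, mul_inv_eq_iff_eq_mul] at h1
    exact h1
  have hnotK : ∀ e ∈ (S : Subgroup G), e ∉ K → ∀ x ∈ O, x * e = e * x → x ∈ C0 := fun e he heK =>
    (hdich e he).resolve_left fun hall => heK ⟨he, mem_centralizer_iff.mpr fun x hx => hall x hx⟩
  -- the quotient by the kernel has no four-group
  have hfour : ∀ a ∈ (S : Subgroup G), ∀ b ∈ (S : Subgroup G), a * a ∈ K → b * b ∈ K →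
      a * b * a⁻¹ * b⁻¹ ∈ K → a ∉ K → b ∉ K → a⁻¹ * b ∈ K := by
    intro a ha b hb ha2 hb2 hcomm haK hbK
    by_contra habK
    set H := (S : Subgroup G) ⊔ O
    have hSH : (S : Subgroup G) ≤ H := le_sup_left
    have hOH : O ≤ H := le_sup_right
    haveI : (K.subgroupOf H).Normal := by
      have hle : H ≤ normalizer (K : Set G) := sup_le
        (fun t ht => mem_normalizer_fintype fun k hk => by rwa [hKc k hk t ht, mul_inv_cancel_right])
        (fun x hx => mem_normalizer_fintype fun k hk => by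
          rwa [mem_centralizer_iff.mp hk.2 x hx, mul_inv_cancel_right])
      exact (normal_subgroupOf_iff_le_normalizer (inf_le_left.trans hSH)).mpr hle
    let f := QuotientGroup.mk' (K.subgroupOf H)
    have hf : ∀ x : H, f x = 1 ↔ (x : G) ∈ K := fun x => by
      rw [QuotientGroup.mk'_apply, QuotientGroup.eq_one_iff, mem_subgroupOf]
    set a' : H ⧸ K.subgroupOf H := f ⟨a, hSH ha⟩ with ha'
    set b' : H ⧸ K.subgroupOf H := f ⟨b, hSH hb⟩ with hb'
    set A := closure ({a', b'} : Set (H ⧸ K.subgroupOf H)) with hA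
    have hc' : a' * b' = b' * a' := by
      have : f (⟨a, hSH ha⟩ * ⟨b, hSH hb⟩ * ⟨a, hSH ha⟩⁻¹ * ⟨b, hSH hb⟩⁻¹) = 1 := (hf _).mpr hcomm
      rw [map_mul, map_mul, map_mul, map_inv, map_inv] at this
      exact commutatorElement_eq_one_iff_mul_comm.mp (by rw [commutatorElement_def]; exact this)
    haveI : IsMulCommutative A := ⟨⟨fun x y => Subtype.ext (by
      have hle : A ≤ centralizer (A : Set (H ⧸ K.subgroupOf H)) := by
        rw [hA, closure_le, ← hA]
        intro z hz
        rw [SetLike.mem_coe, hA, centralizer_closure, mem_centralizer_iff]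
        rintro w (rfl | rfl) <;> rcases hz with rfl | rfl <;> first | rfl | exact hc' | exact hc'.symm
      exact (mem_centralizer_iff.mp (hle x.2) y y.2).symm)⟩⟩
    have hsq : ∀ x ∈ A, x * x = 1 := by
      intro x hx
      induction hx using closure_induction with
      | mem z hz =>
        rcases hz with rfl | rfl
        · rw [ha', ← map_mul]; exact (hf _).mpr ha2
        · rw [hb', ← map_mul]; exact (hf _).mpr hb2
      | one => exact one_mul 1
      | mul z w hz hw e1 e2 =>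
        have hzw : z * w = w * z := congrArg Subtype.val (mul_comm' (⟨z, hz⟩ : A) ⟨w, hw⟩)
        calc z * w * (z * w) = z * w * (w * z) := by rw [hzw]
          _ = z * (w * w) * z := by group
          _ = 1 := by rw [e2, mul_one, e1]
      | inv z _ e1 => rw [← _root_.mul_inv_rev, e1, inv_one]
    have hne : ∀ {x : H}, (x : G) ∉ K → f x ≠ 1 := fun hx e => hx ((hf _).mp e)
    have hAnc : ¬ IsCyclic A := by
      intro hcy
      classical
      haveI := Fintype.ofFinite A
      have key := IsCyclic.card_pow_eq_one_le (α := A) (n := 2) (by norm_num)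
      have hsub : ({1, ⟨a', subset_closure (Or.inl rfl)⟩, ⟨b', subset_closure (Or.inr rfl)⟩} : Finset A) ⊆
          Finset.univ.filter (fun z : A => z ^ 2 = 1) := fun z _ => Finset.mem_filter.mpr
        ⟨Finset.mem_univ _, Subtype.ext (by rw [pow_two]; exact hsq z z.2)⟩
      have h3 := (Finset.card_le_card hsub).trans key
      have hab' : a' ≠ b' := fun e => hne (x := (⟨a, hSH ha⟩ : H)⁻¹ * ⟨b, hSH hb⟩) habK (by
        rw [map_mul, map_inv, ← ha', ← hb', e, inv_mul_cancel])
      rw [Finset.card_insert_of_notMem, Finset.card_insert_of_notMem, Finset.card_singleton] at h3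
      · omega
      · rw [Finset.mem_singleton]; exact fun e => hab' (congrArg Subtype.val e)
      · simp only [Finset.mem_insert, Finset.mem_singleton]
        rintro (e | e)
        · exact hne (x := (⟨a, hSH ha⟩ : H)) haK (congrArg Subtype.val e).symm
        · exact hne (x := (⟨b, hSH hb⟩ : H)) hbK (congrArg Subtype.val e).symm
    set O' := (O.subgroupOf H).map f with hO'
    have hA2 : IsPGroup 2 A := fun x => ⟨1, Subtype.ext (by rw [pow_one]; simpa [pow_two] using hsq x x.2)⟩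
    have hAle : A ≤ ((S : Subgroup G).subgroupOf H).map f := by
      rw [hA, closure_le]
      rintro z (rfl | rfl) <;> [exact ⟨_, mem_subgroupOf.mpr ha, rfl⟩; exact ⟨_, mem_subgroupOf.mpr hb, rfl⟩]
    have hAO : A ≤ normalizer (O' : Set (H ⧸ K.subgroupOf H)) := by
      intro z hz
      obtain ⟨t, ht, rfl⟩ := hAle hz
      haveI : Finite (H ⧸ K.subgroupOf H) := inferInstance
      refine mem_normalizer_fintype ?_
      rintro _ ⟨x, hx, rfl⟩
      exact ⟨t * x * t⁻¹, hinv t ht x hx, by simp⟩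
    obtain ⟨k, hk⟩ := IsPGroup.iff_card.mp hA2
    have hcop : (Nat.card A).Coprime (Nat.card O') := by
      rw [hk]
      refine (Nat.coprime_two_left.mpr ?_).pow_left k
      refine hodd.of_dvd_nat ?_
      rw [← Nat.card_congr (subgroupOfEquivOfLe hOH).toEquiv]
      exact card_map_dvd _ f
    have hgen := CfsgLib.coprime_generated_by_centralizers hAnc hAO hcop
    have hOC : O' ≤ ((C0).subgroupOf H).map f := by
      rw [← hgen]
      refine iSup₂_le fun e he => ?_
      rintro z ⟨⟨x, hx, rfl⟩, hze⟩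
      obtain ⟨t, ht, rfl⟩ := hAle he.1
      have htK : (t : G) ∉ K := fun hK' => he.2 ((hf t).mpr hK')
      refine ⟨x, hnotK t ht htK x hx ?_, rfl⟩
      have h1 : f (t * x * t⁻¹ * x⁻¹) = 1 := by
        rw [map_mul, map_mul, map_mul, map_inv, map_inv, ← mem_centralizer_singleton_iff.mp hze,
          mul_inv_cancel_right, mul_inv_cancel]
      have h2 : (t : G) * x * (t : G)⁻¹ * (x : G)⁻¹ ∈ (S : Subgroup G) ⊓ O :=
        ⟨((hf _).mp h1).1, O.mul_mem (hinv t ht x hx) (O.inv_mem hx)⟩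
      rw [hSO1, mem_bot, mul_inv_eq_one, mul_inv_eq_iff_eq_mul] at h2
      exact h2.symm
    refine hfull fun x hx => ?_
    obtain ⟨y, hy, he⟩ := hOC (mem_map_of_mem f (show (⟨x, hOH hx⟩ : H) ∈ O.subgroupOf H from hx))
    have h1 : f (y⁻¹ * ⟨x, hOH hx⟩) = 1 := by rw [map_mul, map_inv, he, inv_mul_cancel]
    have h2 : (y : G)⁻¹ * x ∈ (S : Subgroup G) ⊓ O :=
      ⟨((hf _).mp h1).1, O.mul_mem (O.inv_mem (mem_subgroupOf.mp hy).1) hx⟩
    rw [hSO1, mem_bot, inv_mul_eq_one] at h2
    exact h2 ▸ mem_subgroupOf.mp hy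
  -- so `S` is cyclic or quaternion modulo the kernel
  set P := ↥(S : Subgroup G)
  set KS := K.subgroupOf (S : Subgroup G) with hKS
  have hKZ : KS ≤ center P := fun k hk => mem_center_iff.mpr fun t => Subtype.ext (hKc k hk t t.2)
  haveI : KS.Normal := ⟨fun k hk t => by rwa [mem_center_iff.mp (hKZ hk) t, mul_inv_cancel_right]⟩
  let π := QuotientGroup.mk' KS
  have hπ : ∀ x : P, π x = 1 ↔ (x : G) ∈ K := fun x => by
    rw [QuotientGroup.mk'_apply, QuotientGroup.eq_one_iff, hKS, mem_subgroupOf]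
  have hP2 : IsPGroup 2 (P ⧸ KS) := S.2.to_quotient KS
  have hcyc : ∀ a b : P, (∀ x : P, ∃ i : ℤ, ∃ k ∈ KS, x = a ^ i * k ∨ x = a ^ i * b * k) →
      (∃ i : ℤ, ∃ k ∈ KS, b * a * b⁻¹ = a ^ i * k) → False := by
    intro a b hg hb
    haveI := cyclic_commutator hKZ a b hg hb
    have he : (commutator P).map (S : Subgroup G).subtype = ⁅(S : Subgroup G), (S : Subgroup G)⁆ := by
      rw [_root_.commutator_def, map_commutator, ← MonoidHom.range_eq_map, range_subtype]
    exact hnc (he ▸ isCyclic_of_surjective _ ((S : Subgroup G).subtype.subgroupMap_surjective (commutator P)))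
  rcases subsingleton_or_nontrivial (P ⧸ KS) with hsub | hnt
  · exact hcyc 1 1 (fun x => ⟨0, x, (QuotientGroup.eq_one_iff x).mp (Subsingleton.elim _ _), Or.inl (by simp)⟩)
      ⟨0, 1, one_mem _, by simp⟩
  haveI := hP2.center_nontrivial
  obtain ⟨z, hzc, hz2⟩ : ∃ z : P ⧸ KS, z ∈ center (P ⧸ KS) ∧ orderOf z = 2 := by
    haveI : Finite (center (P ⧸ KS)) := inferInstance
    obtain ⟨m, hm, hc⟩ := (hP2.to_subgroup (center (P ⧸ KS))).nontrivial_iff_card.mp inferInstance
    obtain ⟨z, hz⟩ := exists_prime_orderOf_dvd_card' (G := center (P ⧸ KS)) 2 (hc ▸ dvd_pow_self 2 hm.ne')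
    exact ⟨z, z.2, by rwa [Subgroup.orderOf_coe]⟩
  have huniq : ∀ x : P ⧸ KS, x ^ 2 = 1 → x ∈ zpowers z := by
    intro x hx
    by_cases hx1 : x = 1
    · exact hx1 ▸ one_mem _
    by_contra hxz
    obtain ⟨a, rfl⟩ := QuotientGroup.mk'_surjective KS z
    obtain ⟨b, rfl⟩ := QuotientGroup.mk'_surjective KS x
    have ha1 : (a : G) ∉ K := fun e => by
      rw [(hπ a).mpr e, orderOf_one] at hz2
      omega
    have hb1 : (b : G) ∉ K := fun e => hx1 ((hπ b).mpr e)
    have ha2 : π (a * a) = 1 := by rw [map_mul, ← pow_two]; exact orderOf_dvd_iff_pow_eq_one.mp hz2.dvd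
    have hb2 : π (b * b) = 1 := by rw [map_mul, ← pow_two]; exact hx
    have hab : π (a * b * a⁻¹ * b⁻¹) = 1 := by
      rw [map_mul, map_mul, map_mul, map_inv, map_inv, ← mem_center_iff.mp hzc (π b), mul_inv_cancel_right,
        mul_inv_cancel]
    have h1 := hfour a a.2 b b.2 ((hπ _).mp ha2) ((hπ _).mp hb2) ((hπ _).mp hab) ha1 hb1
    have h2 := (hπ (a⁻¹ * b)).mpr h1
    rw [map_mul, map_inv, inv_mul_eq_one] at h2
    exact hxz (h2 ▸ mem_zpowers _)
  rcases CfsgLib.UniqueSubgroup.cyclic_or_quaternion hP2 hz2 huniq with hcy | ⟨-, m, -, ⟨e⟩⟩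
  · obtain ⟨g, hg⟩ := IsCyclic.exists_generator (α := P ⧸ KS)
    obtain ⟨a, rfl⟩ := QuotientGroup.mk'_surjective KS g
    refine hcyc a 1 (fun x => ?_) ⟨1, 1, one_mem _, by simp⟩
    obtain ⟨i, hi⟩ := mem_zpowers_iff.mp (hg (π x))
    refine ⟨i, (a ^ i)⁻¹ * x, (QuotientGroup.eq_one_iff _).mp ?_, Or.inl (by group)⟩
    show π ((a ^ i)⁻¹ * x) = 1
    rw [map_mul, map_inv, map_zpow, hi, inv_mul_cancel]
  · obtain ⟨a, ha⟩ := QuotientGroup.mk'_surjective KS (e.symm (QuaternionGroup.a 1))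
    obtain ⟨b, hb⟩ := QuotientGroup.mk'_surjective KS (e.symm (QuaternionGroup.xa 0))
    have hea : e (π a) = QuaternionGroup.a 1 := by rw [ha, e.apply_symm_apply]
    have heb : e (π b) = QuaternionGroup.xa 0 := by rw [hb, e.apply_symm_apply]
    have hgen : ∀ j : ZMod (2 * 2 ^ m), ∃ i : ℤ, e (π a) ^ i = QuaternionGroup.a j := fun j =>
      ⟨(j.val : ℤ), by rw [hea, zpow_natCast, QuaternionGroup.a_one_pow, ZMod.natCast_zmod_val]⟩
    refine hcyc a b (fun x => ?_) ?_
    · rcases hx : e (π x) with j | j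
      · obtain ⟨i, hi⟩ := hgen j
        refine ⟨i, (a ^ i)⁻¹ * x, (QuotientGroup.eq_one_iff _).mp (e.injective ?_), Or.inl (by group)⟩
        show e (π ((a ^ i)⁻¹ * x)) = e 1
        rw [map_mul, map_inv, map_zpow, map_mul, map_inv, map_zpow, hi, hx, inv_mul_cancel, map_one]
      · obtain ⟨i, hi⟩ := hgen (-j)
        refine ⟨i, (a ^ i * b)⁻¹ * x, (QuotientGroup.eq_one_iff _).mp (e.injective ?_), Or.inr (by group)⟩
        show e (π ((a ^ i * b)⁻¹ * x)) = e 1
        simp only [map_mul, map_inv, map_zpow, map_one]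
        rw [hi, heb, hx, QuaternionGroup.a_mul_xa, sub_neg_eq_add, zero_add, inv_mul_cancel]
    · obtain ⟨i, hi⟩ : ∃ i : ℤ, e (π a) ^ i = e (π (b * a * b⁻¹)) := by
        have h1 : e (π (b * a * b⁻¹)) = QuaternionGroup.xa 0 * QuaternionGroup.a 1 * (QuaternionGroup.xa 0)⁻¹ := by
          simp only [map_mul, map_inv, hea, heb]
        rcases hx : e (π (b * a * b⁻¹)) with j | j
        · exact hgen j
        · exfalso
          rw [hx, eq_mul_inv_iff_mul_eq, QuaternionGroup.xa_mul_xa, QuaternionGroup.xa_mul_a] at h1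
          exact absurd h1 (by simp)
      refine ⟨i, (a ^ i)⁻¹ * (b * a * b⁻¹), (QuotientGroup.eq_one_iff _).mp (e.injective ?_),
        (mul_inv_cancel_left _ _).symm⟩
      show e (π ((a ^ i)⁻¹ * (b * a * b⁻¹))) = e 1
      rw [map_mul, map_inv, map_zpow, map_mul, map_inv, map_zpow, hi, inv_mul_cancel, map_one]

end CfsgLib.CentralInt
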