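import Cfsg.Agent.Lib.CentralInt.Basic

/-!
The engine hypothesis on simple groups with abelian Sylow 2-subgroups, and the commutator pairing of a central
extension of such a group.

Blueprint: `blueprint/S3181.md` (Pairing).
-/

set_option autoImplicit false
set_option linter.unusedSectionVars false
set_option linter.style.haveILetI false

namespace CfsgLib.CentralInt

open Cfsg Subgroup
open scoped commutatorElement

universe u

/-- A non-abelian simple group with abelian Sylow 2-subgroups has them elementary, with an element of odd order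
transitive on the non-identity elements. -/
def AbGood : Prop :=
  ∀ (X : Type u) [Group X] [Finite X], IsSimpleGroup X → ¬ IsMulCommutative X →
    ∀ T : Sylow 2 X, IsMulCommutative (T : Subgroup X) →
      (∀ x ∈ (T : Subgroup X), x * x = 1) ∧
        ∃ k ∈ normalizer ((T : Subgroup X) : Set X), Odd (orderOf k) ∧
          ∀ x ∈ (T : Subgroup X), x ≠ 1 → ∀ y ∈ (T : Subgroup X), y ≠ 1 → ∃ i : ℕ, k ^ i * x * (k ^ i)⁻¹ = y

variable {K : Type u} [Group K]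

/-- A central extension of an elementary group with a transitive automorphism, and non-abelian: the elementary
group has order four and the commutators have order at most two. -/
theorem pairing {Z : Subgroup K} [Z.Normal] (hZ : Z ≤ center K) (T : Subgroup K) (hZT : Z ≤ T) (k : K)
    (hk : k ∈ normalizer (T : Set K)) (hsq : ∀ x ∈ T, x * x ∈ Z)
    (htr : ∀ x ∈ T, x ∉ Z → ∀ y ∈ T, y ∉ Z → ∃ i : ℕ, (k ^ i * x * (k ^ i)⁻¹)⁻¹ * y ∈ Z)
    (hnab : ∃ x ∈ T, ∃ y ∈ T, x * y ≠ y * x) :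
    ∃ v ∈ T, ∃ w ∈ T, v ∉ Z ∧ w ∉ Z ∧ v⁻¹ * w ∉ Z ∧
      (∀ y ∈ T, y ∈ Z ∨ v⁻¹ * y ∈ Z ∨ w⁻¹ * y ∈ Z ∨ (v * w)⁻¹ * y ∈ Z) ∧
      ⁅v, w⁆ * ⁅v, w⁆ = 1 ∧ ∀ x ∈ T, ∀ y ∈ T, ⁅x, y⁆ ∈ zpowers ⁅v, w⁆ := by
  classical
  set π := QuotientGroup.mk' Z with hπdef
  have hπ : ∀ x : K, π x = 1 ↔ x ∈ Z := fun x => QuotientGroup.eq_one_iff x
  have hπe : ∀ x y : K, π x = π y ↔ x⁻¹ * y ∈ Z := fun x y => by
    rw [← hπ, map_mul, map_inv, inv_mul_eq_one]
  have hcz : ∀ z ∈ Z, ∀ x : K, x * z = z * x := fun z hz x => mem_center_iff.mp (hZ hz) x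
  have hinv2 : ∀ x ∈ T, π x * π x = 1 := fun x hx => by rw [← map_mul]; exact (hπ _).mpr (hsq x hx)
  have hinv : ∀ x ∈ T, (π x)⁻¹ = π x := fun x hx => inv_eq_of_mul_eq_one_left (hinv2 x hx)
  have hcomm : ∀ x ∈ T, ∀ y ∈ T, π x * π y = π y * π x := fun x hx y hy => by
    have h := hinv (x * y) (mul_mem hx hy)
    rw [map_mul, _root_.mul_inv_rev, hinv x hx, hinv y hy] at h
    exact h.symm
  have hB : ∀ x ∈ T, ∀ y ∈ T, ⁅x, y⁆ ∈ Z := fun x hx y hy => by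
    rw [← hπ, map_commutatorElement]
    exact commutatorElement_eq_one_iff_mul_comm.mpr (hcomm x hx y hy)
  have hBl : ∀ x ∈ T, ∀ x' ∈ T, ∀ y ∈ T, ⁅x * x', y⁆ = ⁅x, y⁆ * ⁅x', y⁆ := by
    intro x hx x' hx' y hy
    calc ⁅x * x', y⁆ = x * ⁅x', y⁆ * (y * x⁻¹ * y⁻¹) := by rw [commutatorElement_def, commutatorElement_def]; group
      _ = ⁅x', y⁆ * x * (y * x⁻¹ * y⁻¹) := by rw [hcz _ (hB x' hx' y hy) x]
      _ = ⁅x', y⁆ * ⁅x, y⁆ := by rw [commutatorElement_def x y]; group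
      _ = ⁅x, y⁆ * ⁅x', y⁆ := (hcz _ (hB x' hx' y hy) _).symm
  have hBz : ∀ z ∈ Z, ∀ y : K, ⁅z, y⁆ = 1 := fun z hz y =>
    commutatorElement_eq_one_iff_mul_comm.mpr (hcz z hz y).symm
  have hBr : ∀ x ∈ T, ∀ y ∈ T, ∀ y' ∈ T, ⁅x, y * y'⁆ = ⁅x, y⁆ * ⁅x, y'⁆ := by
    intro x hx y hy y' hy'
    rw [← commutatorElement_inv (y * y'), hBl y hy y' hy' x hx, _root_.mul_inv_rev, commutatorElement_inv,
      commutatorElement_inv]
    exact hcz _ (hB x hx y hy) _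
  have hconjT : ∀ j : ℤ, ∀ x ∈ T, k ^ j * x * (k ^ j)⁻¹ ∈ T := fun j x hx =>
    (mem_normalizer_iff.mp (zpow_mem hk j) x).mp hx
  have hBk : ∀ j : ℤ, ∀ x ∈ T, ∀ y ∈ T, ⁅k ^ j * x * (k ^ j)⁻¹, k ^ j * y * (k ^ j)⁻¹⁆ = ⁅x, y⁆ := by
    intro j x hx y hy
    calc ⁅k ^ j * x * (k ^ j)⁻¹, k ^ j * y * (k ^ j)⁻¹⁆ = k ^ j * ⁅x, y⁆ * (k ^ j)⁻¹ := by
          rw [commutatorElement_def, commutatorElement_def]; group
      _ = ⁅x, y⁆ := by rw [hcz _ (hB x hx y hy), mul_inv_cancel_right]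
  -- the radical is the centre
  have hrad : ∀ x ∈ T, (∀ y ∈ T, ⁅x, y⁆ = 1) → x ∈ Z := by
    intro x hx hc
    by_contra hxZ
    obtain ⟨a, ha, b, hb, hab⟩ := hnab
    refine hab (commutatorElement_eq_one_iff_mul_comm.mp ?_)
    by_cases haZ : a ∈ Z
    · exact hBz a haZ b
    obtain ⟨i, hi⟩ := htr x hx hxZ a ha haZ
    have hxi : k ^ (i : ℤ) * x * (k ^ (i : ℤ))⁻¹ ∈ T := hconjT i x hx
    rw [zpow_natCast] at hxi
    have h1 : ⁅k ^ i * x * (k ^ i)⁻¹, b⁆ = 1 := by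
      have h := hBk (i : ℤ) x hx ((k ^ (i : ℤ))⁻¹ * b * k ^ (i : ℤ))
        ((mem_normalizer_iff''.mp (zpow_mem hk (i : ℤ)) b).mp hb)
      rw [hc _ ((mem_normalizer_iff''.mp (zpow_mem hk (i : ℤ)) b).mp hb)] at h
      rw [← h, zpow_natCast]
      congr 1
      group
    calc ⁅a, b⁆ = ⁅k ^ i * x * (k ^ i)⁻¹ * ((k ^ i * x * (k ^ i)⁻¹)⁻¹ * a), b⁆ := by rw [mul_inv_cancel_left]
      _ = 1 := by rw [hBl _ hxi _ (hZT hi) b hb, h1, hBz _ hi, one_mul]
  have hradE : ∀ p ∈ T, ∀ q ∈ T, (∀ y ∈ T, ⁅p, y⁆ = ⁅q, y⁆) → π p = π q := by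
    intro p hp q hq he
    rw [hπe]
    refine hrad _ (mul_mem (inv_mem hp) hq) fun y hy => ?_
    have h1 : ⁅p⁻¹, y⁆ * ⁅p, y⁆ = 1 := by
      rw [← hBl _ (inv_mem hp) p hp y hy, inv_mul_cancel, commutatorElement_one_left]
    rw [hBl _ (inv_mem hp) q hq y hy, ← he y hy, h1]
  obtain ⟨φ, hφ⟩ : ∃ φ : ℤ → K → K, φ = fun j x => k ^ j * x * (k ^ j)⁻¹ := ⟨_, rfl⟩
  have hφπ : ∀ j x y, π x = π y → π (φ j x) = π (φ j y) := fun j x y h => by
    simp only [hφ, map_mul, map_inv, h]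
  have hφmul : ∀ j x y, φ j (x * y) = φ j x * φ j y := fun j x y => by simp only [hφ]; group
  have hφadd : ∀ i j x, φ i (φ j x) = φ (i + j) x := fun i j x => by simp only [hφ, zpow_add]; group
  have hφ0 : ∀ x, φ 0 x = x := fun x => by simp [hφ]
  obtain ⟨v, hv, hvZ⟩ : ∃ v ∈ T, v ∉ Z := by
    obtain ⟨a, ha, b, -, hab⟩ := hnab
    exact ⟨a, ha, fun e => hab (hcz a e b).symm⟩
  have hφT : ∀ j : ℤ, ∀ x ∈ T, φ j x ∈ T := fun j x hx => by rw [hφ]; exact hconjT j x hx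
  have hφB : ∀ j : ℤ, ∀ x ∈ T, ∀ y ∈ T, ⁅φ j x, φ j y⁆ = ⁅x, y⁆ := fun j x hx y hy => by
    rw [hφ]; exact hBk j x hx y hy
  have hw : φ 1 v ∈ T := hφT 1 v hv
  have hwv : π (φ 1 v) ≠ π v := by
    intro e
    have hall : ∀ i : ℕ, π (k ^ i * v * (k ^ i)⁻¹) = π v := by
      intro i
      induction i with
      | zero => simp
      | succ i ih =>
        rw [show k ^ (i + 1) * v * (k ^ (i + 1))⁻¹ = φ 1 (k ^ i * v * (k ^ i)⁻¹) by
          simp only [hφ, zpow_one, pow_succ']; group, hφπ 1 _ _ ih, e]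
    obtain ⟨a, ha, b, hb, hab⟩ := hnab
    have key : ∀ y ∈ T, y ∈ Z ∨ ∃ z ∈ Z, y = v * z := fun y hy => by
      refine or_iff_not_imp_left.mpr fun hyZ => ?_
      obtain ⟨i, hi⟩ := htr v hv hvZ y hy hyZ
      exact ⟨v⁻¹ * y, (hπe v y).mp ((hall i).symm.trans ((hπe _ _).mpr hi)), (mul_inv_cancel_left _ _).symm⟩
    rcases key a ha with h | ⟨z, hz, rfl⟩
    · exact hab (hcz a h b).symm
    rcases key b hb with h | ⟨z', hz', rfl⟩
    · exact hab (hcz b h _)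
    refine hab ?_
    calc v * z * (v * z') = v * (z * v) * z' := by group
      _ = v * v * (z * z') := by rw [← hcz z hz v]; group
      _ = v * v * (z' * z) := by rw [hcz z' hz' z]
      _ = v * (v * z') * z := by group
      _ = v * (z' * v) * z := by rw [hcz z' hz' v]
      _ = v * z' * (v * z) := by group
  -- the transitive element satisfies `k² = k + 1`
  have hquad : π (φ 2 v) = π (φ 1 v) * π v := by
    have hwT : φ 1 v * v ∈ T := mul_mem hw hv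
    have hwZ : φ 1 v * v ∉ Z := fun e => hwv (by
      have := (hπ _).mpr e
      rw [map_mul] at this
      rw [eq_inv_of_mul_eq_one_left this, hinv v hv])
    obtain ⟨a, ha⟩ := htr v hv hvZ _ hwT hwZ
    have e0 : π (φ (a : ℤ) v) = π (φ 1 v * v) := by
      rw [show φ (a : ℤ) v = k ^ a * v * (k ^ a)⁻¹ by simp only [hφ, zpow_natCast]]; exact (hπe _ _).mpr ha
    have e1 : ∀ x ∈ T, π (φ (a : ℤ) x) = π (φ 1 x * x) := by
      intro x hx
      by_cases hxZ : x ∈ Z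
      · have hx1 : ∀ j, φ j x = x := fun j => by
          simp only [hφ]
          rw [hcz x hxZ (k ^ j), mul_inv_cancel_right]
        rw [hx1, hx1, map_mul, (hπ x).mpr hxZ, one_mul]
      obtain ⟨i, hi⟩ := htr v hv hvZ x hx hxZ
      have hxe : π x = π (φ (i : ℤ) v) := by
        simp only [hφ, zpow_natCast]; exact ((hπe _ _).mpr hi).symm
      rw [hφπ _ _ _ hxe, hφadd, add_comm, ← hφadd, hφπ _ _ _ e0, hφmul, map_mul, map_mul, hxe, hφadd,
        add_comm, ← hφadd, hφπ 1 _ _ hxe]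
    have e2 : ∀ x ∈ T, π (φ (-(a : ℤ)) x) = π (φ (-1) x * x) := by
      intro x hx
      refine hradE _ (hφT _ x hx) _ (mul_mem (hφT _ x hx) hx) fun y hy => ?_
      have hz : (φ 1 y * y)⁻¹ * φ (a : ℤ) y ∈ Z := (hπe _ _).mp (e1 y hy).symm
      have hB1 : ⁅x, φ (a : ℤ) y⁆ = ⁅x, φ 1 y⁆ * ⁅x, y⁆ := by
        rw [show φ (a : ℤ) y = φ 1 y * y * ((φ 1 y * y)⁻¹ * φ (a : ℤ) y) by rw [mul_inv_cancel_left],
          hBr x hx _ (mul_mem (hφT 1 y hy) hy) _ (hZT hz), hBr x hx _ (hφT 1 y hy) y hy,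
          commutatorElement_eq_one_iff_mul_comm.mpr (hcz _ hz x), mul_one]
      have hadj : ∀ j : ℤ, ⁅φ (-j) x, y⁆ = ⁅x, φ j y⁆ := fun j => by
        rw [← hφB j (φ (-j) x) (hφT _ x hx) y hy]
        show ⁅φ j (φ (-j) x), φ j y⁆ = _
        rw [hφadd, add_neg_cancel, hφ0]
      rw [hadj, hB1, hBl _ (hφT _ x hx) x hx y hy]
      show _ = ⁅φ (-1) x, y⁆ * _
      rw [hadj]
    have e3 : π v = π (φ ((a : ℤ) - 1) v) * π (φ (a : ℤ) v) := by
      have h := hφπ (a : ℤ) _ _ (e2 v hv)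
      rw [hφadd, add_neg_cancel, hφ0, hφmul, hφadd, map_mul, ← sub_eq_add_neg] at h
      exact h
    have e4 : π (φ ((a : ℤ) - 1) v) = π (φ 1 v) := by
      calc π (φ ((a : ℤ) - 1) v) = π v * (π (φ (a : ℤ) v))⁻¹ := eq_mul_inv_of_mul_eq e3.symm
        _ = π v * (π (φ 1 v) * π v)⁻¹ := by rw [e0, map_mul]
        _ = π v * (π v * π (φ 1 v)) := by rw [_root_.mul_inv_rev, hinv v hv, hinv _ hw]
        _ = π (φ 1 v) := by rw [← mul_assoc, hinv2 v hv, one_mul]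
    have e5 := hφπ 1 _ _ e4
    rw [hφadd, hφadd, add_sub_cancel, e0, map_mul] at e5
    exact e5.symm
  have h3 : π (φ 3 v) = π v := by
    have e := hφπ 1 (φ 2 v) (φ 1 v * v) (by rw [map_mul]; exact hquad)
    rw [hφadd, hφmul, hφadd, map_mul, show (1 : ℤ) + 1 = 2 from rfl, hquad, mul_assoc,
      hcomm v hv _ hw, ← mul_assoc, hinv2 _ hw, one_mul] at e
    exact e
  have horb : ∀ i : ℕ, π (φ (i : ℤ) v) = π v ∨ π (φ (i : ℤ) v) = π (φ 1 v) ∨ π (φ (i : ℤ) v) = π (φ 2 v) := by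
    intro i
    induction i with
    | zero => exact Or.inl (by rw [Nat.cast_zero, hφ0])
    | succ i ih =>
      have e : ∀ j, π (φ (i : ℤ) v) = π (φ j v) → π (φ ((i + 1 : ℕ) : ℤ) v) = π (φ (1 + j) v) := fun j h => by
        rw [Nat.cast_succ, add_comm, ← hφadd, hφπ 1 _ _ h, hφadd]
      rcases ih with h | h | h
      · exact Or.inr (Or.inl (by rw [e 0 (by rw [hφ0]; exact h), add_zero]))
      · exact Or.inr (Or.inr (by rw [e 1 h]; rfl))
      · exact Or.inl (by rw [e 2 h]; exact h3)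
  set w := φ 1 v with hwdef
  have hwZ : w ∉ Z := fun e => hvZ (by
    have h := hφπ (-1) w 1 (by rw [(hπ w).mpr e, map_one])
    rw [hwdef, hφadd, neg_add_cancel, hφ0] at h
    rw [← hπ, h]
    simp [hφ])
  have hcover : ∀ y ∈ T, y ∈ Z ∨ v⁻¹ * y ∈ Z ∨ w⁻¹ * y ∈ Z ∨ (v * w)⁻¹ * y ∈ Z := by
    intro y hy
    refine or_iff_not_imp_left.mpr fun hyZ => ?_
    obtain ⟨i, hi⟩ := htr v hv hvZ y hy hyZ
    have hy' : π y = π (φ (i : ℤ) v) := by simp only [hφ, zpow_natCast]; exact ((hπe _ _).mpr hi).symm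
    rw [← hπe, ← hπe, ← hπe]
    rcases horb i with h | h | h
    · exact Or.inl (hy'.trans h).symm
    · exact Or.inr (Or.inl (hy'.trans h).symm)
    · refine Or.inr (Or.inr ?_)
      rw [map_mul, hcomm v hv w hw, ← hquad]
      exact (hy'.trans h).symm
  refine ⟨v, hv, w, hw, hvZ, hwZ, fun e => hwv ((hπe v w).mpr e).symm, hcover, ?_, ?_⟩
  · rw [← hBl v hv v hv w hw]
    exact hBz _ (hsq v hv) w
  set c := ⁅v, w⁆
  have hstep : ∀ y ∈ T, ⁅v, y⁆ ∈ zpowers c ∧ ⁅w, y⁆ ∈ zpowers c := by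
    intro y hy
    have hdec : ∀ u ∈ T, u⁻¹ * y ∈ Z → ∀ x ∈ T, ⁅x, y⁆ = ⁅x, u⁆ := fun u hu hz x hx => by
      conv_lhs => rw [← mul_inv_cancel_left u y]
      rw [hBr x hx u hu _ (hZT hz), commutatorElement_eq_one_iff_mul_comm.mpr (hcz _ hz x), mul_one]
    have hwv' : ⁅w, v⁆ ∈ zpowers c := by rw [← commutatorElement_inv]; exact inv_mem (mem_zpowers c)
    rcases hcover y hy with h | h | h | h
    · exact ⟨by rw [commutatorElement_eq_one_iff_mul_comm.mpr (hcz y h v)]; exact one_mem _,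
        by rw [commutatorElement_eq_one_iff_mul_comm.mpr (hcz y h w)]; exact one_mem _⟩
    · exact ⟨by rw [hdec v hv h v hv, commutatorElement_self]; exact one_mem _, by rw [hdec v hv h w hw]; exact hwv'⟩
    · exact ⟨by rw [hdec w hw h v hv]; exact mem_zpowers c,
        by rw [hdec w hw h w hw, commutatorElement_self]; exact one_mem _⟩
    · exact ⟨by rw [hdec _ (mul_mem hv hw) h v hv, hBr v hv v hv w hw, commutatorElement_self, one_mul]
                exact mem_zpowers c,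
        by rw [hdec _ (mul_mem hv hw) h w hw, hBr w hw v hv w hw, commutatorElement_self, mul_one]; exact hwv'⟩
  intro x hx y hy
  rcases hcover x hx with h | h | h | h
  · rw [hBz x h]; exact one_mem _
  · rw [← mul_inv_cancel_left v x, hBl v hv _ (hZT h) y hy, hBz _ h, mul_one]; exact (hstep y hy).1
  · rw [← mul_inv_cancel_left w x, hBl w hw _ (hZT h) y hy, hBz _ h, mul_one]; exact (hstep y hy).2
  · rw [← mul_inv_cancel_left (v * w) x, hBl _ (mul_mem hv hw) _ (hZT h) y hy, hBz _ h, mul_one, hBl v hv w hw y hy]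
    exact mul_mem (hstep y hy).1 (hstep y hy).2

end CfsgLib.CentralInt
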