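import Cfsg.Agent.Lib.CentralInt.Core
import Cfsg.Agent.Lib.CentralInt.Odd

/-!
The passage from a group to its quotient by the odd core, and the perfect residual.

Blueprint: `blueprint/S3181.md` (Simple, General).
-/

set_option autoImplicit false
set_option linter.unusedSectionVars false
set_option linter.style.haveILetI false

namespace CfsgLib.CentralInt

open Cfsg Subgroup
open scoped commutatorElement

universe u v

section Perfect

variable {A : Type u} [Group A]

theorem perfect_le_ker {B : Type v} [Group B] [Group.IsSolvable B] {P : Subgroup A} (hP : ⁅P, P⁆ = P) (f : A →* B) :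
    P ≤ f.ker := by
  have key : ∀ n, P.map f ≤ derivedSeries B n := by
    intro n
    induction n with
    | zero => rw [derivedSeries_zero]; exact le_top
    | succ n ih =>
      rw [derivedSeries_succ, ← hP, map_commutator]
      exact commutator_mono ih ih
  obtain ⟨n, hn⟩ := (Group.isSolvable_def B).mp inferInstance
  rw [← Subgroup.map_eq_bot_iff]
  exact le_bot_iff.mp (hn ▸ key n)

theorem perfect_le_of_index_odd [Finite A] {P N : Subgroup A} [N.Normal] (hP : ⁅P, P⁆ = P) (hN : Odd N.index) :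
    P ≤ N := by
  haveI : Group.IsSolvable (A ⧸ N) := Cfsg.Agent.S0205.result (by rwa [← index_eq_card])
  exact (perfect_le_ker hP (QuotientGroup.mk' N)).trans (QuotientGroup.ker_mk' N).le

theorem comp_perfect {K : Subgroup A} (hK : IsComponent K) : ⁅K, K⁆ = K := by
  have h := congrArg (Subgroup.map K.subtype) hK.2.1.commutator_eq_top
  rwa [_root_.commutator_def, map_commutator, ← MonoidHom.range_eq_map, range_subtype] at h

/-- The largest perfect subgroup of `C`. -/
def perfCore (C : Subgroup A) : Subgroup A := sSup {P | P ≤ C ∧ ⁅P, P⁆ = P}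

theorem le_perfCore {C P : Subgroup A} (hPC : P ≤ C) (hP : ⁅P, P⁆ = P) : P ≤ perfCore C :=
  le_sSup ⟨hPC, hP⟩

theorem perfCore_le (C : Subgroup A) : perfCore C ≤ C := sSup_le fun _ hP => hP.1

theorem perfCore_perfect (C : Subgroup A) : ⁅perfCore C, perfCore C⁆ = perfCore C :=
  le_antisymm (commutator_le_self _) (sSup_le fun P hP =>
    hP.2.ge.trans (commutator_mono (le_perfCore hP.1 hP.2) (le_perfCore hP.1 hP.2)))

theorem perfCore_conj {C : Subgroup A} {c x : A} (hc : c ∈ C) (hx : x ∈ perfCore C) :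
    c * x * c⁻¹ ∈ perfCore C := by
  refine le_perfCore (P := (perfCore C).map (MulAut.conj c).toMonoidHom) ?_ ?_ ⟨x, hx, rfl⟩
  · rintro _ ⟨y, hy, rfl⟩
    exact mul_mem (mul_mem hc (perfCore_le C hy)) (inv_mem hc)
  · rw [← map_commutator, perfCore_perfect]

theorem perfCore_top_normal : (perfCore (⊤ : Subgroup A)).Normal :=
  ⟨fun _ hx c => perfCore_conj (mem_top c) hx⟩

/-- A perfect subgroup of the image is the image of a perfect subgroup. -/
theorem exists_perfect_onto [Finite A] {B : Type v} [Group B] (f : A →* B) (hf : Function.Surjective f)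
    {K : Subgroup B} (hK : ⁅K, K⁆ = K) : ∃ M : Subgroup A, ⁅M, M⁆ = M ∧ M.map f = K := by
  obtain ⟨M, -, hM⟩ := exists_minimal_le_of_wellFoundedLT (fun M : Subgroup A => M.map f = K) (K.comap f)
    (map_comap_eq_self_of_surjective hf K)
  refine ⟨M, le_antisymm (commutator_le_self M) (hM.2 ?_ (commutator_le_self M)), hM.1⟩
  show ⁅M, M⁆.map f = K
  rw [map_commutator, hM.1, hK]

end Perfect

/-- Isomorphic groups have central quotients of the same order. -/
theorem card_central_quot {A : Type u} {B : Type v} [Group A] [Group B] (e : A ≃* B) :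
    Nat.card (A ⧸ center A) = Nat.card (B ⧸ center B) := by
  refine Nat.card_congr (QuotientGroup.congr (center A) (center B) e ?_).toEquiv
  ext x
  simp only [mem_map, mem_center_iff]
  constructor
  · rintro ⟨y, hy, rfl⟩ g
    obtain ⟨g, rfl⟩ := e.surjective g
    show e g * e y = e y * e g
    rw [← map_mul, ← map_mul, hy]
  · intro hx
    refine ⟨e.symm x, fun g => ?_, e.apply_symm_apply x⟩
    exact e.injective (by rw [map_mul, map_mul, e.apply_symm_apply, hx])

variable {X : Type u} [Group X] [Finite X]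

/-- The quotient map by the odd core. -/
abbrev toQ (X : Type u) [Group X] : X →* X ⧸ pPrimeCore 2 X := QuotientGroup.mk' (pPrimeCore 2 X)

theorem core_odd : Odd (Nat.card (pPrimeCore 2 X)) :=
  Nat.coprime_two_right.mp (CfsgLib.card_pPrimeCore_coprime 2)

theorem eq_one_of_pow_two {o : X} (ho : o ∈ pPrimeCore 2 X) {n : ℕ} (h : o ^ 2 ^ n = 1) : o = 1 :=
  orderOf_eq_one_iff.mp (Nat.eq_one_of_dvd_coprimes ((Nat.coprime_two_left.mpr core_odd).pow_left n)
    (orderOf_dvd_of_pow_eq_one h) (Subgroup.orderOf_dvd_natCard _ ho))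

theorem inj_sylow (S : Sylow 2 X) {x y : X} (hx : x ∈ (S : Subgroup X)) (hy : y ∈ (S : Subgroup X))
    (h : toQ X x = toQ X y) : x = y := by
  obtain ⟨n, hn⟩ := S.2 ⟨x⁻¹ * y, mul_mem ((S : Subgroup X).inv_mem hx) hy⟩
  exact inv_mul_eq_one.mp (eq_one_of_pow_two (QuotientGroup.eq.mp h) (by simpa using congrArg Subtype.val hn))

/-- The image of a Sylow subgroup in the quotient by the odd core. -/
noncomputable abbrev barSyl (S : Sylow 2 X) : Sylow 2 (X ⧸ pPrimeCore 2 X) :=
  haveI : Fact (Nat.Prime 2) := ⟨Nat.prime_two⟩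
  S.mapSurjective (f := toQ X) (QuotientGroup.mk'_surjective _)

theorem mem_bar {S : Sylow 2 X} {y : X ⧸ pPrimeCore 2 X} :
    y ∈ (barSyl S : Subgroup (X ⧸ pPrimeCore 2 X)) ↔ ∃ x ∈ (S : Subgroup X), toQ X x = y := Iff.rfl

theorem bar_mk {S : Sylow 2 X} {x : X} (hx : x ∈ (S : Subgroup X)) :
    toQ X x ∈ (barSyl S : Subgroup (X ⧸ pPrimeCore 2 X)) := ⟨x, hx, rfl⟩

theorem cen_bar {S : Sylow 2 X} {x : X} (hx : x ∈ (S : Subgroup X)) :
    Cen (barSyl S : Subgroup (X ⧸ pPrimeCore 2 X)) (toQ X x) ↔ Cen (S : Subgroup X) x := by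
  refine ⟨fun h s hs => inj_sylow S (mul_mem hs hx) (mul_mem hx hs) ?_, fun h y hy => ?_⟩
  · rw [map_mul, map_mul]
    exact h _ (bar_mk hs)
  · obtain ⟨s, hs, rfl⟩ := hy
    rw [← map_mul, h s hs, map_mul]

theorem bar_not_comm {S : Sylow 2 X} (h : ¬ IsMulCommutative (S : Subgroup X)) :
    ¬ IsMulCommutative (barSyl S : Subgroup (X ⧸ pPrimeCore 2 X)) := fun hc => by
  obtain ⟨x, hx, hxc⟩ := exists_noncen h
  exact hxc ((cen_bar hx).mp fun y hy => congrArg Subtype.val (hc.1.comm ⟨y, hy⟩ ⟨_, bar_mk hx⟩))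

theorem CI.bar (h : CI X) : CI (X ⧸ pPrimeCore 2 X) :=
  h.map (f := toQ X) (QuotientGroup.mk'_surjective _) (Or.inr (by rw [QuotientGroup.ker_mk']; exact core_odd))

/-- If `S` centralises the odd core, its normaliser is the preimage of the normaliser of its image. -/
theorem normalizer_of_bar {S : Sylow 2 X}
    (hcent : ∀ o ∈ pPrimeCore 2 X, ∀ s ∈ (S : Subgroup X), o * s = s * o) {c : X}
    (hc : toQ X c ∈ normalizer ((barSyl S : Subgroup (X ⧸ pPrimeCore 2 X)) : Set (X ⧸ pPrimeCore 2 X))) :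
    c ∈ normalizer ((S : Subgroup X) : Set X) := by
  haveI : Fact (Nat.Prime 2) := ⟨Nat.prime_two⟩
  obtain ⟨n, hn⟩ := IsPGroup.iff_card.mp S.2
  have hpow : ∀ y ∈ (S : Subgroup X), y ^ 2 ^ n = 1 := fun y hy => by
    have := congrArg Subtype.val (pow_card_eq_one' (G := (S : Subgroup X)) (x := ⟨y, hy⟩))
    rwa [hn] at this
  refine mem_normalizer_fintype fun s hs => ?_
  obtain ⟨s', hs', e⟩ := (mem_normalizer_iff.mp hc _).mp (bar_mk hs)
  rw [← map_inv, ← map_mul, ← map_mul] at e
  set o := s'⁻¹ * (c * s * c⁻¹)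
  have ho : o ∈ pPrimeCore 2 X := QuotientGroup.eq.mp e
  have h1 : (c * s * c⁻¹) ^ 2 ^ n = 1 := by rw [conj_pow, hpow s hs, mul_one, mul_inv_cancel]
  rw [show c * s * c⁻¹ = s' * o from (mul_inv_cancel_left s' _).symm,
    (show Commute s' o from (hcent o ho s' hs').symm).mul_pow, hpow s' hs', one_mul] at h1
  have h2 : c * s * c⁻¹ = s' * o := (mul_inv_cancel_left s' _).symm
  rwa [h2, eq_one_of_pow_two ho h1, mul_one]

/-- When `S` centralises the odd core, a normal image of `S` means a normal `S`. -/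
theorem normal_of_bar {S : Sylow 2 X}
    (hcent : ∀ o ∈ pPrimeCore 2 X, ∀ s ∈ (S : Subgroup X), o * s = s * o)
    (hn : (barSyl S : Subgroup (X ⧸ pPrimeCore 2 X)).Normal) : (S : Subgroup X).Normal :=
  normalizer_eq_top_iff.mp (top_le_iff.mp fun c _ => normalizer_of_bar hcent (by
    rw [normalizer_eq_top_iff.mpr hn]; exact mem_top _))

section StructFacts

variable {H : Type u} [Group H] [Finite H] {S : Sylow 2 H} {K : Subgroup H}

/-- The commutators of `S` lie in `K`. -/
theorem Struct.comm_mem (hs : Struct S K) {x y : H} (hx : x ∈ (S : Subgroup H)) (hy : y ∈ (S : Subgroup H)) :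
    ∃ t ∈ (S : Subgroup H) ⊓ K, ∃ t' ∈ (S : Subgroup H) ⊓ K, ⁅x, y⁆ = ⁅t, t'⁆ := by
  obtain ⟨t, ht, r, hr, rfl⟩ := hs.decomp x hx
  obtain ⟨t', ht', r', hr', rfl⟩ := hs.decomp y hy
  refine ⟨t, ht, t', ht', ?_⟩
  have hz : ∀ {r}, r ∈ pCore 2 H → ∀ {z}, z ∈ (S : Subgroup H) → Commute r z := fun hr _ hz =>
    (hs.central _ hr _ hz).symm
  have hr' : Commute r' t := hz hr' ht.1
  have hrS := CfsgLib.pCore_le_sylow S hr
  have e1 : r * (t' * r') * r⁻¹ = t' * r' := by
    rw [(hz hr hy).eq, mul_inv_cancel_right]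
  calc ⁅t * r, t' * r'⁆ = t * (r * (t' * r') * r⁻¹) * t⁻¹ * (t' * r')⁻¹ := by rw [commutatorElement_def]; group
    _ = t * t' * (r' * t⁻¹ * r'⁻¹) * t'⁻¹ := by rw [e1]; group
    _ = ⁅t, t'⁆ := by rw [(hr'.inv_right).eq, mul_inv_cancel_right, commutatorElement_def]

theorem Struct.perfect_le (hs : Struct S K) {P : Subgroup H} (hP : ⁅P, P⁆ = P) : P ≤ K := by
  haveI := hs.normal
  haveI : Fact (Nat.Prime 2) := ⟨Nat.prime_two⟩
  have hle : (S : Subgroup H) ≤ K ⊔ pCore 2 H := fun x hx => by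
    obtain ⟨t, ht, r, hr, rfl⟩ := hs.decomp x hx
    exact mul_mem (mem_sup_left ht.2) (mem_sup_right hr)
  have h1 : P ≤ K ⊔ pCore 2 H := perfect_le_of_index_odd hP <| Nat.not_even_iff_odd.mp fun he =>
    S.not_dvd_index ((even_iff_two_dvd.mp he).trans (index_dvd_of_le hle))
  refine hP.ge.trans ((commutator_mono h1 h1).trans ?_)
  set q := QuotientGroup.mk' K
  refine commutator_le.mpr fun a ha b hb => ?_
  have hm : ∀ {a}, a ∈ K ⊔ pCore 2 H → q a ∈ (pCore 2 H).map q := fun {a} ha => by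
    have h := mem_map_of_mem q ha
    rwa [Subgroup.map_sup, (Subgroup.map_eq_bot_iff _).mpr (QuotientGroup.ker_mk' K).ge, bot_sup_eq] at h
  obtain ⟨r, hr, er⟩ := hm ha
  obtain ⟨r', hr', er'⟩ := hm hb
  refine (QuotientGroup.eq_one_iff _).mp ?_
  show q ⁅a, b⁆ = 1
  rw [map_commutatorElement, ← er, ← er', ← map_commutatorElement,
    commutatorElement_eq_one_iff_mul_comm.mpr (hs.central r' hr' r (CfsgLib.pCore_le_sylow S hr)), map_one]

end StructFacts

/-- The perfect residual maps onto the component of the quotient. -/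
theorem perfCore_map {S : Sylow 2 X} {K : Subgroup (X ⧸ pPrimeCore 2 X)} (hs : Struct (barSyl S) K) :
    (perfCore (⊤ : Subgroup X)).map (toQ X) = K := by
  refine le_antisymm (hs.perfect_le (by rw [← map_commutator, perfCore_perfect])) ?_
  obtain ⟨M, hM, e⟩ := exists_perfect_onto (toQ X) (QuotientGroup.mk'_surjective _) (comp_perfect hs.comp)
  exact e ▸ map_mono (le_perfCore le_top hM)

/-- The perfect residual centralises an odd core centralised by `S`. -/
theorem perfCore_cent {S : Sylow 2 X} (hcent : ∀ o ∈ pPrimeCore 2 X, ∀ s ∈ (S : Subgroup X), o * s = s * o) :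
    perfCore (⊤ : Subgroup X) ≤ centralizer ((pPrimeCore 2 X : Subgroup X) : Set X) := by
  haveI : Fact (Nat.Prime 2) := ⟨Nat.prime_two⟩
  have hle : (S : Subgroup X) ≤ centralizer ((pPrimeCore 2 X : Subgroup X) : Set X) := fun s hs =>
    mem_centralizer_iff.mpr fun o ho => hcent o ho s hs
  exact perfect_le_of_index_odd (perfCore_perfect _) <| Nat.not_even_iff_odd.mp fun he =>
    S.not_dvd_index ((even_iff_two_dvd.mp he).trans (index_dvd_of_le hle))

/-- An element centralising the component modulo the core centralises the perfect residual. -/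
theorem perfCore_le_centralizer {S : Sylow 2 X}
    (hcent : ∀ o ∈ pPrimeCore 2 X, ∀ s ∈ (S : Subgroup X), o * s = s * o)
    {K : Subgroup (X ⧸ pPrimeCore 2 X)} (hs : Struct (barSyl S) K) {a : X}
    (ha : ∀ y ∈ K, y * toQ X a = toQ X a * y) :
    perfCore (⊤ : Subgroup X) ≤ centralizer ({a} : Set X) := by
  set L := perfCore (⊤ : Subgroup X)
  haveI : L.Normal := perfCore_top_normal
  have hLc := perfCore_cent hcent
  have hz : ∀ l ∈ L, a * l * a⁻¹ * l⁻¹ ∈ pPrimeCore 2 X ∧ a * l * a⁻¹ * l⁻¹ ∈ L := by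
    intro l hl
    refine ⟨(QuotientGroup.eq_one_iff _).mp ?_, mul_mem (Subgroup.Normal.conj_mem inferInstance l hl a) (inv_mem hl)⟩
    show toQ X (a * l * a⁻¹ * l⁻¹) = 1
    have hK : toQ X l ∈ K := perfCore_map hs ▸ mem_map_of_mem _ hl
    rw [map_mul, map_mul, map_mul, map_inv, map_inv, ← ha _ hK, mul_inv_cancel_right, mul_inv_cancel]
  intro x hx
  rw [show L = ⁅L, L⁆ from (perfCore_perfect _).symm] at hx
  refine (commutator_le.mpr fun l hl l' hl' => ?_) hx
  obtain ⟨ho, hoL⟩ := hz l hl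
  obtain ⟨ho', -⟩ := hz l' hl'
  set z := a * l * a⁻¹ * l⁻¹
  set z' := a * l' * a⁻¹ * l'⁻¹
  have c1 : Commute z l' := mem_centralizer_iff.mp (hLc hl') z ho
  have c2 : Commute z' l := mem_centralizer_iff.mp (hLc hl) z' ho'
  have c3 : Commute z z' := (mem_centralizer_iff.mp (hLc hoL) z' ho').symm
  have key : ⁅z * l, z' * l'⁆ = ⁅l, l'⁆ := by
    calc ⁅z * l, z' * l'⁆ = z * (l * z' * l⁻¹) * (l * l' * l⁻¹) * (z⁻¹ * l'⁻¹) * z'⁻¹ := by
          rw [commutatorElement_def]; group
      _ = z * z' * (l * l' * l⁻¹) * (l'⁻¹ * z⁻¹) * z'⁻¹ := by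
          rw [c2.symm.eq, mul_inv_cancel_right, (c1.inv_left.inv_right).eq]
      _ = z * z' * ⁅l, l'⁆ * (z' * z)⁻¹ := by rw [commutatorElement_def]; group
      _ = ⁅l, l'⁆ := by
          have cl : ∀ {w}, w ∈ pPrimeCore 2 X → Commute w ⁅l, l'⁆ := fun hw =>
            mem_centralizer_iff.mp (hLc ((perfCore_perfect ⊤).le (commutator_mem_commutator hl hl'))) _ hw
          rw [← c3.eq, ((cl ho).mul_left (cl ho')).eq, mul_inv_cancel_right]
  rw [mem_centralizer_singleton_iff]
  have : a * ⁅l, l'⁆ * a⁻¹ = ⁅l, l'⁆ := by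
    rw [← MulAut.conj_apply, map_commutatorElement, MulAut.conj_apply, MulAut.conj_apply]
    rw [show a * l * a⁻¹ = z * l from (inv_mul_cancel_right _ l).symm,
      show a * l' * a⁻¹ = z' * l' from (inv_mul_cancel_right _ l').symm, key]
  exact (eq_mul_of_mul_inv_eq this).symm

end CfsgLib.CentralInt
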