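import Cfsg.Agent.Lib.CentralInt.Abelian
import Cfsg.Agent.Lib.GoldschmidtS3.Families
import Cfsg.Agent.S0343
import Cfsg.Agent.S0252
import Cfsg.Agent.S0253
import Cfsg.Prelude.Def_CaseTheorems
import Cfsg.Prelude.Def_Sporadic

/-!
Central intersections of 2-rank at most one: the involutions of `Z(S)` are strongly closed.

Blueprint: `blueprint/S3181.md` (RankOne: S3185).
-/

set_option autoImplicit false
set_option linter.unusedSectionVars false
set_option linter.style.haveILetI false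

namespace CfsgLib.CentralInt

open Cfsg Subgroup

universe u

variable {G : Type u} [Group G] [Finite G]

/-- The hypothesis of S3185. -/
def RankOneCI (G : Type u) [Group G] : Prop :=
  ∀ S T : Sylow 2 G, S ≠ T →
    ((S : Subgroup G) ⊓ (T : Subgroup G) = ⊥ ∨
      ∃ z ∈ (S : Subgroup G) ⊓ (T : Subgroup G), orderOf z = 2 ∧
        ∃ U : Sylow 2 G, z ∈ (Subgroup.center ↥(U : Subgroup G)).map (U : Subgroup G).subtype) →
    Cfsg.PRankLE 2 1 ↥((S : Subgroup G) ⊓ (T : Subgroup G))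

/-- A four-group with a 2-central involution lies in one Sylow subgroup. -/
theorem RankOneCI.four_unique (h : RankOneCI G) {S T U : Sylow 2 G} {u v : G} (hu : orderOf u = 2)
    (hv : orderOf v = 2) (huv : u ≠ v) (hc : u * v = v * u) (huU : u ∈ (U : Subgroup G))
    (huc : Cen (U : Subgroup G) u) (huS : u ∈ (S : Subgroup G)) (hvS : v ∈ (S : Subgroup G))
    (huT : u ∈ (T : Subgroup G)) (hvT : v ∈ (T : Subgroup G)) : S = T := by
  by_contra hne
  set I := (S : Subgroup G) ⊓ (T : Subgroup G)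
  set u' : I := ⟨u, huS, huT⟩
  set v' : I := ⟨v, hvS, hvT⟩
  have hr := h S T hne (Or.inr ⟨u, ⟨huS, huT⟩, hu, U, Cfsg.Agent.S3183.mem_centre_map.mpr ⟨huU, huc⟩⟩)
  have hu2 : u' * u' = 1 := Subtype.ext (by
    show u * u = 1
    rw [← pow_two, ← hu, pow_orderOf_eq_one])
  have hv2 : v' * v' = 1 := Subtype.ext (by
    show v * v = 1
    rw [← pow_two, ← hv, pow_orderOf_eq_one])
  set A := closure ({u', v'} : Set I)
  have hAc : A ≤ centralizer (A : Set I) := by
    have h1 : closure ({u', v'} : Set I) ≤ centralizer ({u', v'} : Set I) := (closure_le _).mpr fun a ha => by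
      rw [SetLike.mem_coe, mem_centralizer_iff]
      intro b hb
      rcases ha with rfl | rfl <;> rcases hb with rfl | rfl
      · rfl
      · exact Subtype.ext hc.symm
      · exact Subtype.ext hc
      · rfl
    rw [le_centralizer_iff, Subgroup.closure_le]
    intro a ha
    rw [SetLike.mem_coe, mem_centralizer_iff]
    intro b hb
    exact (mem_centralizer_iff.mp (h1 hb) a ha).symm
  have hsq : ∀ a ∈ A, a ^ 2 = 1 := by
    intro a ha
    induction ha using Subgroup.closure_induction with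
    | mem x hx => rcases hx with rfl | rfl <;> rw [pow_two] <;> assumption
    | one => exact one_pow 2
    | mul x y hx hy ihx ihy =>
      rw [(show Commute x y from (mem_centralizer_iff.mp (hAc hx) y hy).symm).mul_pow, ihx, ihy, one_mul]
    | inv x _ ih => rw [inv_pow, ih, inv_one]
  have hle := hr A ⟨⟨fun a b => Subtype.ext (mem_centralizer_iff.mp (hAc b.2) a a.2)⟩⟩ hsq
  classical
  haveI := Fintype.ofFinite A
  have h1 : (1 : I) ≠ u' := fun e => by
    rw [show u = 1 from (congrArg Subtype.val e).symm, orderOf_one] at hu; norm_num at hu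
  have h2 : (1 : I) ≠ v' := fun e => by
    rw [show v = 1 from (congrArg Subtype.val e).symm, orderOf_one] at hv; norm_num at hv
  have h3 : u' ≠ v' := fun e => huv (congrArg Subtype.val e)
  have hsub : ({1, u', v'} : Finset I) ⊆ (A : Set I).toFinset := by
    intro x hx
    simp only [Finset.mem_insert, Finset.mem_singleton] at hx
    rw [Set.mem_toFinset]
    rcases hx with rfl | rfl | rfl
    · exact one_mem A
    · exact subset_closure (Set.mem_insert _ _)
    · exact subset_closure (Set.mem_insert_of_mem _ rfl)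
  have hcard := Finset.card_le_card hsub
  rw [Finset.card_insert_of_notMem (by simp [h1, h2]), Finset.card_pair h3, Set.toFinset_card,
    ← Nat.card_eq_fintype_card] at hcard
  simp only [pow_one] at hle
  exact absurd (hcard.trans hle) (by norm_num)

/-- The involutions of the centre of `S` form a strongly closed abelian subgroup. -/
theorem RankOneCI.exists_closed (h : RankOneCI G) (S : Sylow 2 G) (hS : (S : Subgroup G) ≠ ⊥) :
    ∃ A : Subgroup G, A ≠ ⊥ ∧ IsMulCommutative A ∧ IsStronglyClosed A (S : Subgroup G) := by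
  haveI : Fact (Nat.Prime 2) := ⟨Nat.prime_two⟩
  let A : Subgroup G :=
    { carrier := {x | x ∈ (S : Subgroup G) ∧ Cen (S : Subgroup G) x ∧ x * x = 1}
      one_mem' := ⟨one_mem _, Cen.one _, one_mul 1⟩
      mul_mem' := fun {x y} hx hy => ⟨mul_mem hx.1 hy.1, hx.2.1.mul hy.2.1, by
        have e : y * x = x * y := hx.2.1 y hy.1
        calc x * y * (x * y) = x * (y * x) * y := by group
          _ = x * x * (y * y) := by rw [e]; group
          _ = 1 := by rw [hx.2.2, hy.2.2, one_mul]⟩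
      inv_mem' := fun {x} hx => ⟨inv_mem hx.1, hx.2.1.inv, by rw [← mul_inv_rev, hx.2.2, inv_one]⟩ }
  refine ⟨A, ?_, ⟨⟨fun a b => Subtype.ext (b.2.2.1 a a.2.1)⟩⟩, fun x hx => hx.1, fun x hx g hg => ?_⟩
  · obtain ⟨z, hzS, hz, hzc⟩ := CfsgLib.Comp.exists_central_in_normal (p := 2) S.isPGroup' le_rfl
      (fun s hs => Subgroup.le_normalizer hs) hS
    intro e
    have hz1 : z = 1 := mem_bot.mp (e ▸ (⟨hzS, fun s hs => hzc s hs,
      by rw [← pow_two, ← hz, pow_orderOf_eq_one]⟩ : z ∈ A))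
    rw [hz1, orderOf_one] at hz
    norm_num at hz
  · obtain ⟨hxS, hxc, hx2⟩ := hx
    set y := g * x * g⁻¹ with hy
    have hy2 : y * y = 1 := by rw [hy, conj_mul, hx2, mul_one, mul_inv_cancel]
    by_cases hx1 : x = 1
    · rw [hy, hx1, mul_one, mul_inv_cancel]; exact one_mem A
    by_cases hxy : x = y
    · exact hxy ▸ ⟨hxS, hxc, hx2⟩
    refine ⟨hg, ?_, hy2⟩
    have hy1 : y ≠ 1 := fun e => hx1 (conj_eq_one_iff.mp e)
    have hxy' : x * y = y * x := (hxc y hg).symm
    set C := centralizer ({y} : Set G)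
    have hxC : x ∈ C := mem_centralizer_singleton_iff.mpr hxy'
    have hSgC : ((g • S : Sylow 2 G) : Subgroup G) ≤ C := fun s hs => mem_centralizer_singleton_iff.mpr (by
      have h1 := hxc _ (mem_smul.mp hs)
      calc s * y = g * ((g⁻¹ * s * g) * x) * g⁻¹ := by rw [hy]; group
        _ = y * s := by rw [h1, hy]; group)
    -- a Sylow subgroup of the centraliser containing `⟨x, y⟩`
    have hV : IsPGroup 2 (zpowers (⟨x, hxC⟩ : C)) :=
      IsPGroup.of_card (n := 1) (by
        rw [Nat.card_zpowers, orderOf_mk, orderOf_eq_prime (by rw [pow_two]; exact hx2) hx1, pow_one])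
    obtain ⟨P, hP⟩ := hV.exists_le_sylow
    obtain ⟨c, hc⟩ := MulAction.exists_smul_eq C ((g • S).subtype hSgC) P
    set T : Sylow 2 G := (c : G) • (g • S)
    have hPT : ∀ {a : C}, a ∈ (P : Subgroup C) ↔ (a : G) ∈ (T : Subgroup G) := fun {a} => by
      rw [← hc, mem_smul, mem_smul]
      rfl
    have hyT : y ∈ (T : Subgroup G) := by
      rw [mem_smul, mem_centralizer_singleton_iff.mp (C.inv_mem c.2), mul_assoc, inv_mul_cancel, mul_one, mem_smul, hy]
      rwa [show g⁻¹ * (g * x * g⁻¹) * g = x by group]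
    have hxT : x ∈ (T : Subgroup G) := hPT.mp (hP (mem_zpowers (⟨x, hxC⟩ : C)))
    have hTC : (T : Subgroup G) ≤ C := fun s hs => by
      have h1 := hSgC (mem_smul.mp hs)
      have := mul_mem (mul_mem c.2 h1) (C.inv_mem c.2)
      rwa [show (c : G) * ((c : G)⁻¹ * s * c) * (c : G)⁻¹ = s by group] at this
    have hST : S = T := h.four_unique (orderOf_eq_prime (by rw [pow_two]; exact hx2) hx1)
      (orderOf_eq_prime (by rw [pow_two]; exact hy2) hy1) hxy hxy' hxS hxc hxS hg hxT hyT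
    intro s hs
    exact mem_centralizer_singleton_iff.mp (hTC (hST ▸ hs))

/-- The groups of S3185. -/
theorem rankOne_cases [IsSimpleGroup G] (hG : ¬ IsMulCommutative G)
    (hgold : ∀ (S : Sylow 2 G) (A : Subgroup G), A ≠ ⊥ → IsMulCommutative A → IsStronglyClosed A (S : Subgroup G) →
      IsMulCommutative (S : Subgroup G) ∨ ∃ H : Subgroup G, IsStronglyEmbedded H)
    (h : RankOneCI G) :
    (∃ (n : ℕ) (F : Type) (_ : Field F) (_ : Fintype F), 2 ≤ n ∧ Fintype.card F = 2 ^ n ∧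
        Nonempty (G ≃* Matrix.ProjectiveSpecialLinearGroup (Fin 2) F)) ∨
    (∃ (m : ℕ) (F : Type) (_ : Field F) (_ : Fintype F), 1 ≤ m ∧ Fintype.card F = 2 ^ (2 * m + 1) ∧
        Nonempty (G ≃* ↥(Cfsg.Lie.Sz F (2 ^ (m + 1))))) ∨
    (∃ (n : ℕ) (F : Type) (_ : Field F) (_ : Fintype F), 2 ≤ n ∧ Fintype.card F = 4 ^ n ∧
        Nonempty (G ≃* Cfsg.PSU 3 F (2 ^ n))) ∨
    (∃ (F : Type) (_ : Field F) (_ : Fintype F), (Fintype.card F % 8 = 3 ∨ Fintype.card F % 8 = 5) ∧
        5 < Fintype.card F ∧ Nonempty (G ≃* Matrix.ProjectiveSpecialLinearGroup (Fin 2) F)) ∨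
    Cfsg.IsJ1 G := by
  haveI : Fact (Nat.Prime 2) := ⟨Nat.prime_two⟩
  let S : Sylow 2 G := default
  have hS : (S : Subgroup G) ≠ ⊥ := fun e => hG ⟨⟨fun a b => by
    have hodd : Odd (Nat.card G) := Nat.not_even_iff_odd.mp fun he => S.not_dvd_index (by
      rw [e, index_bot]; exact even_iff_two_dvd.mp he)
    haveI : Group.IsSolvable G := Cfsg.Agent.S0205.result hodd
    exact IsSimpleGroup.comm_iff_isSolvable.mpr inferInstance a b⟩⟩
  obtain ⟨A, hA, hAc, hcl⟩ := h.exists_closed S hS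
  rcases hgold S A hA hAc hcl with hab | ⟨H, hH⟩
  swap
  · rcases CfsgLib.Bender.isBenderGroup_of_stronglyEmbedded
        (CfsgLib.Bender.Assembly.benderHyp CfsgLib.Bender.Assembly.goodAll) CfsgLib.Bender.Assembly.suzukiHyp hH with
      ⟨F, i1, i2, ⟨n, hn, hc⟩, he⟩ | ⟨F, i1, i2, m, hm, hc, he⟩ | ⟨F, i1, i2, n, hn, hc, he⟩
    · exact Or.inl ⟨n, F, i1, i2, hn, hc, he⟩
    · exact Or.inr (Or.inl ⟨m, F, i1, i2, hm, hc, he⟩)
    · exact Or.inr (Or.inr (Or.inl ⟨n, F, i1, i2, hn, by rw [hc, ← pow_mul, mul_comm, pow_mul]; norm_num, he⟩))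
  rcases listed_of_abelian inferInstance hG S hab with ⟨F, i1, i2, hq, ⟨e⟩⟩ | hJ
  · rcases hq with ⟨hq, h5⟩ | ⟨n, hn, hc⟩
    · rcases Nat.lt_or_ge 5 (Fintype.card F) with h6 | h6
      · exact Or.inr (Or.inr (Or.inr (Or.inl ⟨F, i1, i2, hq, h6, ⟨e⟩⟩)))
      · haveI := Fintype.ofFinite (GaloisField 2 2)
        have hK : Fintype.card (GaloisField 2 2) = 4 := by
          rw [← Nat.card_eq_fintype_card, GaloisField.card 2 2 (by norm_num)]; norm_num
        obtain ⟨f1⟩ := Cfsg.Agent.S0253.result (F := F) (by omega)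
        obtain ⟨f2⟩ := Cfsg.Agent.S0252.result hK
        exact Or.inl ⟨2, GaloisField 2 2, inferInstance, inferInstance, le_rfl, by rw [hK]; norm_num,
          ⟨(e.trans f1).trans f2.symm⟩⟩
    · exact Or.inl ⟨n, F, i1, i2, hn, hc, ⟨e⟩⟩
  refine Or.inr (Or.inr (Or.inr (Or.inr ?_)))
  have habP : ∀ P : Sylow 2 G, ∀ a b : P, a * b = b * a := fun P a b =>
    (Sylow.equiv P S).injective (by rw [map_mul, map_mul]; exact hab.1.comm _ _)
  have h2 : 2 ∣ Nat.card G :=
    (show 2 ∣ Nat.card (S : Subgroup G) by rw [(hJ.1 S).1]; norm_num).trans (card_subgroup_dvd_card _)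
  obtain ⟨t, ht⟩ := exists_prime_orderOf_dvd_card' 2 h2
  obtain ⟨c⟩ := hJ.co ht
  obtain ⟨T, hT⟩ := (IsPGroup.of_card (n := 1) (by rw [Nat.card_zpowers, ht, pow_one]) :
    IsPGroup 2 (zpowers t)).exists_le_sylow
  have htT : t ∈ (T : Subgroup G) := hT (mem_zpowers t)
  rcases Cfsg.Agent.S0343.result habP (le_of_lt c.h3) t ht ⟨c.e⟩ with ⟨m, hm, hc, -⟩ | ⟨-, hj⟩
  swap
  · exact hj
  -- the Ree case
  exfalso
  haveI := c.psl_simple
  set P := c.PT (hJ.1 T) htT
  have hP4 : Nat.card (P : Subgroup (Matrix.ProjectiveSpecialLinearGroup (Fin 2) c.F)) = 4 := by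
    let f : ↥(P : Subgroup (Matrix.ProjectiveSpecialLinearGroup (Fin 2) c.F)) →* ↥(T : Subgroup G) :=
      (c.ι.comp (Subgroup.subtype _)).codRestrict _ fun x => (c.mem_PT (hJ.1 T) htT _).mp x.2
    have hf : Function.Injective f := fun a b e =>
      Subtype.ext (c.ι_inj (congrArg (fun z : ↥(T : Subgroup G) => (z : G)) e))
    have hne : f.range ≠ ⊤ := fun e => by
      obtain ⟨x, hx⟩ : (⟨t, htT⟩ : ↥(T : Subgroup G)) ∈ f.range := e ▸ mem_top _
      have h1 : c.π ⟨c.ι x.1, c.ι_mem x.1⟩ = 1 := by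
        rw [show (⟨c.ι x.1, c.ι_mem x.1⟩ : centralizer ({t} : Set G)) = c.tC from
          Subtype.ext (congrArg (fun z : ↥(T : Subgroup G) => (z : G)) hx)]
        exact c.π_t
      rw [c.π_ι] at h1
      refine c.t_ne ((congrArg (fun z : ↥(T : Subgroup G) => (z : G)) hx).symm.trans ?_)
      show c.ι x.1 = 1
      rw [h1, map_one]
    have h8 : Nat.card ↥(T : Subgroup G) = 8 := (hJ.1 T).1
    have hd : Nat.card f.range ∣ 2 ^ 3 := (card_subgroup_dvd_card f.range).trans (dvd_of_eq (h8.trans (by norm_num)))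
    rw [Nat.card_congr (MonoidHom.ofInjective hf).symm.toEquiv] at hd
    have hlt : Nat.card f.range < 8 := h8 ▸ lt_of_le_of_ne (card_le_card_group _) fun e => hne (eq_top_of_card_eq _ e)
    rw [Nat.card_congr (MonoidHom.ofInjective hf).symm.toEquiv] at hlt
    have h4 := (c.good_PT (hJ.1 T) htT).four
    obtain ⟨i, hi, he⟩ := (Nat.dvd_prime_pow Nat.prime_two).mp hd
    rw [he] at hlt h4 ⊢
    interval_cases i <;> (revert hlt h4; norm_num)
  obtain ⟨K, iK, iKt, hK, ⟨eK⟩⟩ := four_iso c.psl_nonabelian P hP4 (⟨⟨fun a b =>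
      Subtype.ext ((c.good_PT (hJ.1 T) htT).selfCent.comm a.2 b.2)⟩⟩) fun x hx hx1 g hg => by
    have hxT : c.ι x ∈ (T : Subgroup G) := (c.mem_PT (hJ.1 T) htT x).mp hx
    have hne : t ≠ c.ι x := fun e => by
      have h1 : c.π ⟨c.ι x, c.ι_mem x⟩ = 1 := by
        rw [show (⟨c.ι x, c.ι_mem x⟩ : centralizer ({t} : Set G)) = c.tC from Subtype.ext e.symm]
        exact c.π_t
      rw [c.π_ι] at h1
      exact hx1 h1
    have hgx : c.ι g * c.ι x = c.ι x * c.ι g := by
      rw [← map_mul, ← map_mul, mem_centralizer_singleton_iff.mp hg]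
    have hT' : T = c.ι g • T := h.four_unique ht (hJ.ord T hxT fun e => hx1 (c.ι_inj (e.trans (map_one _).symm)))
      hne (c.ι_comm x).symm htT (fun s hs => congrArg Subtype.val (habP T ⟨s, hs⟩ ⟨t, htT⟩)) htT hxT
      (mem_smul.mpr (by rwa [mul_assoc, ← c.ι_comm g, inv_mul_cancel_left]))
      (mem_smul.mpr (by rwa [mul_assoc, ← hgx, inv_mul_cancel_left]))
    have hgN := Sylow.smul_eq_iff_mem_normalizer.mp hT'.symm
    refine mem_normalizer_iff.mpr fun y => ?_
    rw [c.mem_PT (hJ.1 T) htT, c.mem_PT (hJ.1 T) htT, map_mul, map_mul, map_inv]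
    exact mem_normalizer_iff.mp hgN _
  have h1 := CfsgLib.GoldschmidtS3.psl_card (F := c.F)
  have h60 := CfsgLib.GoldschmidtS3.psl_card (F := K)
  rw [hK] at h60
  rw [hc, Nat.card_congr eK.toEquiv] at h1
  have hodd : Odd ((3 : ℕ) ^ (2 * m + 1)) := Odd.pow (by decide)
  have h27 : 27 ≤ 3 ^ (2 * m + 1) := le_trans (by norm_num : 27 ≤ 3 ^ 3) (Nat.pow_le_pow_right (by norm_num) (by omega))
  norm_num at h60
  rw [h60] at h1
  have hgcd : Nat.gcd 2 (3 ^ (2 * m + 1) - 1) ≤ 2 := Nat.gcd_le_left _ (by norm_num)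
  have hsq : 27 ^ 2 - 1 ≤ (3 ^ (2 * m + 1)) ^ 2 - 1 := Nat.sub_le_sub_right (Nat.pow_le_pow_left h27 2) 1
  have := Nat.mul_le_mul h27 hsq
  norm_num at this
  omega

end CfsgLib.CentralInt
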