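import Cfsg.Agent.Lib.CentralInt.Basic

/-!
The shape of a Sylow 2-subgroup of `Sz(q)` and `PSU₃(q)` and the rigidity of the doubly transitive action.

Blueprint: `blueprint/S3181.md` (Shape).
-/

set_option autoImplicit false
set_option linter.unusedSectionVars false
set_option linter.style.haveILetI false

namespace CfsgLib.CentralInt

open Cfsg Subgroup
open scoped commutatorElement

universe u v

variable {X : Type u} [Group X] {Y : Type v} [Group Y]

/-- A non-abelian Sylow subgroup whose squares and commutators are central, with an element of odd order transitive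
on the involutions of the centre, such that the automorphisms of two-power order commuting with it are inner. -/
structure Shape (T : Subgroup X) (k : X) : Prop where
  norm : k ∈ normalizer (T : Set X)
  odd : Odd (orderOf k)
  nonab : ∃ x ∈ T, ∃ y ∈ T, x * y ≠ y * x
  sq : ∀ x ∈ T, Cen T (x * x)
  comm : ∀ x ∈ T, ∀ y ∈ T, Cen T ⁅x, y⁆
  inv : ∀ z ∈ T, Cen T z → z * z = 1
  two : ∃ z w : X, z ∈ T ∧ Cen T z ∧ w ∈ T ∧ Cen T w ∧ z ≠ 1 ∧ w ≠ 1 ∧ z ≠ w
  trans : ∀ z ∈ T, Cen T z → z ≠ 1 → ∀ w ∈ T, Cen T w → w ≠ 1 → ∃ i : ℕ, k ^ i * z * (k ^ i)⁻¹ = w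
  inner : ∀ σ : MulAut X, (∃ j : ℕ, σ ^ (2 ^ j) = 1) → (∀ x ∈ T, σ x ∈ T) → σ k = k →
    σ ∈ (MulAut.conj (G := X)).range

/-- Every Sylow 2-subgroup has the shape. -/
def HasShape (X : Type u) [Group X] : Prop := ∀ T : Sylow 2 X, ∃ k : X, Shape (T : Subgroup X) k

theorem Shape.map {T : Subgroup X} {k : X} (h : Shape T k) (e : X ≃* Y) : Shape (T.map e.toMonoidHom) (e k) := by
  have hm : ∀ {y : Y}, y ∈ T.map e.toMonoidHom ↔ e.symm y ∈ T := fun {y} => mem_map_equiv
  have hc : ∀ {y : Y}, Cen (T.map e.toMonoidHom) y ↔ Cen T (e.symm y) := by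
    intro y
    refine ⟨fun hy s hs => ?_, fun hy s hs => ?_⟩
    · have := congrArg e.symm (hy (e s) (mem_map_of_mem e.toMonoidHom hs))
      rwa [map_mul, map_mul, e.symm_apply_apply] at this
    · have := hy _ (hm.mp hs)
      exact e.symm.injective (by rwa [map_mul, map_mul])
  refine ⟨?_, by rw [MulEquiv.orderOf_eq]; exact h.odd, ?_, fun x hx => ?_, fun x hx y hy => ?_, fun z hz hz' => ?_,
    ?_, fun z hz hzc hz1 w hw hwc hw1 => ?_, fun σ hσ hT hk => ?_⟩
  · refine mem_normalizer_iff.mpr fun y => ?_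
    rw [hm, hm, map_mul, map_mul, map_inv, e.symm_apply_apply]
    exact mem_normalizer_iff.mp h.norm _
  · obtain ⟨a, ha, b, hb, hab⟩ := h.nonab
    exact ⟨e a, mem_map_of_mem _ ha, e b, mem_map_of_mem _ hb, fun he => hab (e.injective (by rwa [map_mul, map_mul]))⟩
  · rw [hc, map_mul]; exact h.sq _ (hm.mp hx)
  · rw [hc, map_commutatorElement]; exact h.comm _ (hm.mp hx) _ (hm.mp hy)
  · exact e.symm.injective (by rw [map_mul, map_one]; exact h.inv _ (hm.mp hz) (hc.mp hz'))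
  · obtain ⟨z, w, hz, hzc, hw, hwc, hz1, hw1, hzw⟩ := h.two
    exact ⟨e z, e w, mem_map_of_mem _ hz, hc.mpr (by rwa [e.symm_apply_apply]), mem_map_of_mem _ hw,
      hc.mpr (by rwa [e.symm_apply_apply]), e.map_ne_one_iff.mpr hz1, e.map_ne_one_iff.mpr hw1,
      fun he => hzw (e.injective he)⟩
  · obtain ⟨i, hi⟩ := h.trans _ (hm.mp hz) (hc.mp hzc) (e.symm.map_ne_one_iff.mpr hz1) _ (hm.mp hw) (hc.mp hwc)
      (e.symm.map_ne_one_iff.mpr hw1)
    refine ⟨i, ?_⟩
    have := congrArg e hi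
    rwa [map_mul, map_mul, map_inv, map_pow, e.apply_symm_apply, e.apply_symm_apply] at this
  · obtain ⟨j, hj⟩ := hσ
    have hτ : (MulAut.congr e.symm σ) ^ (2 ^ j) = 1 := by rw [← map_pow, hj, map_one]
    obtain ⟨g, hg⟩ := h.inner (MulAut.congr e.symm σ) ⟨j, hτ⟩
      (fun x hx => by
        show e.symm (σ (e x)) ∈ T
        exact hm.mp (hT _ (mem_map_of_mem _ hx)))
      (by show e.symm (σ (e k)) = k; rw [hk, e.symm_apply_apply])
    refine ⟨e g, MulEquiv.ext fun y => ?_⟩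
    have h1 := congrArg e (DFunLike.congr_fun hg (e.symm y))
    rw [MulAut.conj_apply, map_mul, map_mul, map_inv, e.apply_symm_apply] at h1
    rw [MulAut.conj_apply, h1]
    show e (e.symm (σ (e (e.symm y)))) = σ y
    rw [e.apply_symm_apply, e.apply_symm_apply]

theorem hasShape_of [Finite X] (T : Sylow 2 X) {k : X} (h : Shape (T : Subgroup X) k) : HasShape X := fun T' => by
  haveI : Fact (Nat.Prime 2) := ⟨Nat.prime_two⟩
  obtain ⟨g, rfl⟩ := MulAction.exists_smul_eq X T T'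
  exact ⟨_, by rw [Sylow.coe_subgroup_smul]; exact h.map (MulAut.conj g)⟩

theorem HasShape.congr [Finite X] [Finite Y] (h : HasShape X) (e : X ≃* Y) : HasShape Y := fun T' => by
  haveI : Fact (Nat.Prime 2) := ⟨Nat.prime_two⟩
  obtain ⟨T, rfl⟩ := Sylow.mapSurjective_surjective (f := e.toMonoidHom) e.surjective 2 T'
  obtain ⟨k, hk⟩ := h T
  exact ⟨e k, hk.map e⟩

/-- An automorphism fixing a point stabiliser pointwise, in an action where a regular normal subgroup of the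
stabiliser is transitive on the other points and one of its elements fixes a single other point, is trivial. -/
theorem rigid {B T : Subgroup X} {k w : X} {σ : MulAut X} (hB : ∀ b ∈ B, σ b = b) (hTB : T ≤ B) (hkB : k ∈ B)
    (hw : w ∉ B) (hwk : w⁻¹ * k * w ∈ B) (htr : ∀ g, g ∉ B → ∃ u ∈ T, (u * w)⁻¹ * g ∈ B)
    (huniq : ∀ u ∈ T, (u * w)⁻¹ * k * (u * w) ∈ B → u = 1) (hcore : ∀ e, (∀ g, g⁻¹ * e * g ∈ B) → e = 1) :
    σ = 1 := by
  have hσw : σ w ∉ B := fun h => hw (by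
    have : σ (σ w) = σ w := hB _ h
    rwa [σ.injective this] at h)
  obtain ⟨u, hu, hub⟩ := htr _ hσw
  have hu1 : u = 1 := huniq u hu (by
    have h1 : (σ w)⁻¹ * k * σ w ∈ B := by
      have h2 := hB _ hwk
      rw [map_mul, map_mul, map_inv, hB k hkB] at h2
      rw [h2]; exact hwk
    rw [show (u * w)⁻¹ * k * (u * w) = ((u * w)⁻¹ * σ w) * ((σ w)⁻¹ * k * σ w) * ((u * w)⁻¹ * σ w)⁻¹ by group]
    exact mul_mem (mul_mem hub h1) (inv_mem hub))
  rw [hu1, one_mul] at hub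
  have hall : ∀ g, g⁻¹ * σ g ∈ B := by
    intro g
    by_cases hg : g ∈ B
    · rw [hB g hg, inv_mul_cancel]; exact one_mem _
    obtain ⟨v, hv, hvb⟩ := htr g hg
    have e : σ g = v * σ w * ((v * w)⁻¹ * g) := by
      conv_lhs => rw [← mul_inv_cancel_left (v * w) g]
      rw [map_mul σ (v * w), hB _ hvb, map_mul, hB v (hTB hv)]
    rw [e, show g⁻¹ * (v * σ w * ((v * w)⁻¹ * g)) = ((v * w)⁻¹ * g)⁻¹ * (w⁻¹ * σ w) * ((v * w)⁻¹ * g) by group]
    exact mul_mem (mul_mem (inv_mem hvb) hub) hvb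
  refine MulEquiv.ext fun x => ?_
  rw [MulAut.one_apply]
  refine (inv_mul_eq_one.mp (hcore (x⁻¹ * σ x) fun g => ?_)).symm
  have h1 := mul_mem (hall (x * g)) (inv_mem (hall g))
  rwa [map_mul, show (x * g)⁻¹ * (σ x * σ g) * (g⁻¹ * σ g)⁻¹ = g⁻¹ * (x⁻¹ * σ x) * g by group] at h1

end CfsgLib.CentralInt
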